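import Cfsg.Agent.Lib.Wal.H5BRed

/-!
# Groups of Janko–Ree type up to field automorphisms: the two cases
-/

set_option autoImplicit false

namespace CfsgLib.Wal

open Subgroup

universe u

/-- A simple group with an involution centralizer of Janko–Ree type (up to odd automorphisms) has
the order of `J₁`, or contains both a real and a non-real element of order `3`. -/
theorem WJR.cases {G : Type u} [Group G] [Finite G] [IsSimpleGroup G] {t : G} {L : Subgroup G}
    {q : ℕ} (h : WJR t L q) : (q = 5 ∧ Nat.card G = 175560) ∨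
    (3 ∣ q ∧ (∃ y j : G, orderOf y = 3 ∧ orderOf j = 2 ∧ j * y * j⁻¹ = y⁻¹) ∧
      ∃ x : G, orderOf x = 3 ∧ ∀ g, g * x * g⁻¹ ≠ x⁻¹) := by
  by_cases h5 : q = 5
  · obtain ⟨a, b, h'⟩ := H5.JB.exists_fr h
    rcases (h'.hyp_of_prime (h5 ▸ Nat.prime_five)).card with h7 | ⟨n, h7, h9, -⟩
    · exact Or.inl h7
    · exact absurd (h5 ▸ h9 ▸ dvd_pow_self 3 (by omega) : 3 ∣ 5) (by norm_num)
  · exact Or.inr ⟨(H5.JB.real h h5).1, (H5.JB.real h h5).2, H5.JB.nonreal h (H5.JB.real h h5).1⟩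

end CfsgLib.Wal
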