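import Cfsg.Agent.Lib.H1Stable
import Cfsg.Agent.Lib.GW.Homo

/-!
# Brauer: abelian Sylow `2`-subgroups of rank two

Sketch.  `S = [S, N(S)]` (transfer), so `S` is homocyclic of type `(2 ^ m, 2 ^ m)` and
`N(S) / C(S)` has order `3` and acts freely on `S ∖ 1`; `C(s)` has a normal `2`-complement for all
`1 ≠ s ∈ S` (Burnside).  As in `GW/Lift`, `GW/Theta`, `GW/Order`: the generalized characters
`χᵢ - χⱼ`, `χᵢ - (1 + ω + ω²)` of `S ⋊ C₃` (`χᵢ` of degree `3`, at least `5` of them if `m ≥ 2`)
lift isometrically to the principal `2`-block, which therefore consists of signed irreducibles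
`1, α, β, εᵢ` with `α = β = 1`, `εᵢ = χᵢ(s)` on the `2`-section of `s ≠ 1` and `εᵢ = 1 + α + β` on
elements of odd order.  An element `s` of order `4` is not real, so no element of its
`2`-section is a product of two involutions: `∑_{χ ∈ B₀} χ(t)² conj χ(s) / χ(1) = 0`.  With
`χᵢ(t)² = 3 + 2 χᵢ(t)`, `a = α(1)`, `b = β(1)` this reads `1 + 1/a + 1/b = 9 / (1 + a + b)`, i.e.
`2 (x² - x y + y²) + x y (x + y) = 0` for `x = a - 1`, `y = b - 1`, which are even; comparing
`2`-adic valuations gives `x = y = 0`, so `α` is a nontrivial linear character.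
-/

set_option autoImplicit false

namespace CfsgLib.Wal

open Subgroup Cfsg

/-- Brauer: in a non-abelian simple group an abelian Sylow `2`-subgroup with exactly three
involutions has order `4`. -/
theorem card_eq_four_of_rank_two {G : Type*} [Group G] [Finite G] [IsSimpleGroup G]
    (hna : ¬ IsMulCommutative G) (hab : H1.AbTwo G) (S : Sylow 2 G)
    (h : Nat.card (omegaOne 2 (S : Subgroup G)) = 4) : Nat.card S = 4 :=
  GW.card_eq_four_of_omega hna (IsSylowIn.sylow_top S) (hab _ S.isPGroup') h

end CfsgLib.Wal
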