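import Cfsg.Agent.Lib.Wal.ThreeC
import Cfsg.Agent.Lib.Wal.Homo

/-!
# Walter's theorem: simple groups with abelian Sylow `2`-subgroups
-/

set_option autoImplicit false

namespace CfsgLib.Wal

open Subgroup Cfsg CfsgLib.FT CfsgLib.FT.BGN CfsgLib.Cop CfsgLib.GW
open CfsgLib.H1 (AbTwo CharIn layerIn genFitIn dSub)
open CfsgLib.FT.U4 (mem_cent1 mem_cent1' mem_cent mem_cent1_comm cent1_conj
  eq_one_of_mem_inf eq_bot_of_forall conj_mem_conj_iff orderOf_conj)
open scoped commutatorElement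

universe u

theorem lst_of_ih {G : Type u} [Group G] [Finite G] [hs : IsSimpleGroup G]
    (hna : ¬ IsMulCommutative G) (hab : AbTwo G) (ih : IH.{u} (Nat.card G)) : Lst G := by
  have := Fact.mk Nat.prime_two
  obtain ⟨A, -, hA⟩ := exists_maxE (B := (⊥ : Subgroup G)) (X := ⊤)
    (fun x hx => by rw [mem_bot.1 hx, one_mul]) le_top
  have h0 := maxE_ne_bot hna hA
  by_cases se : ∃ M : Subgroup G, M ≠ ⊤ ∧ 𝐍(A) ≤ M ∧ ∀ x ∈ A, x ≠ 1 → 𝐂[x] ≤ M
  · obtain ⟨M, a, b, c⟩ := se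
    exact Or.inl (sl2_of_stronglyEmbedded hna hab (se_of hab hA h0 a b c))
  by_cases h8 : 8 ≤ Nat.card A
  · exact Or.inr (Or.inr (Ctx.wjr ⟨hs, hna, hab, fun X hX => ih.gd hab
      (card_top (G := G) ▸ card_lt' (lt_top_iff_ne_top.2 hX)), hA, h8,
      fun M a b c => se ⟨M, a, b, c⟩⟩))
  obtain ⟨m, hm⟩ := hA.el.isPGroup.exists_card_eq
  have h1 := (one_lt_card_iff_ne_bot A).2 h0
  obtain _ | _ | _ | m := m
  · omega
  · obtain ⟨a, ha, a1⟩ := exists_mem_ne_one h0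
    have e := eq_zp_of_card hm.le ha a1
    refine absurd ⟨𝐍(A), norm_ne_top h0 fun e' => hna ?_, le_rfl, fun x hx x1 => ?_⟩ se
    · exact ⟨⟨fun x y => hA.el.comm (e'.ge trivial) (e'.ge trivial)⟩⟩
    · exact eq_zp_of_card hm.le hx x1 ▸ norm_zp le_rfl
  · obtain ⟨S, h2, h3⟩ := IsSylowIn.exists_ge hA.el.isPGroup le_top
    obtain ⟨S, rfl⟩ := IsSylowIn.top_iff.1 h3
    refine Or.inr (Or.inl (gw_four G hna S (card_eq_four_of_rank_two hna hab S ?_)))
    have e : omegaOne 2 (S : Subgroup G) = A := le_antisymm ((closure_le _).2 fun x hx =>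
      hA.mem_of_two hab S.isPGroup' h2 le_top hx.1 (sq x ▸ hx.2))
      fun x hx => Subgroup.subset_closure ⟨h2 hx, (sq x).trans (hA.el x hx)⟩
    rw [e, hm]
    rfl
  · rw [hm, pow_succ, pow_succ, pow_succ] at h8
    have := Nat.pos_of_ne_zero (pow_ne_zero m two_ne_zero)
    omega

/-- **Walter's theorem**. -/
theorem walter' (G : Type u) [Group G] [Finite G] [hs : IsSimpleGroup G]
    (hna : ¬ IsMulCommutative G) (hab : AbTwo G) : Lst G := by
  induction hn : Nat.card G using Nat.strong_induction_on generalizing G with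
  | _ n ih =>
    exact lst_of_ih hna hab fun X _ _ h1 h2 h3 h4 => (ih _ (hn ▸ h1) X h3 h4 rfl).kt h3 h4

theorem ih_all (n : ℕ) : IH.{u} n := fun X _ _ _ _ h3 h4 => (walter' X h3 h4).kt h3 h4

theorem kt_of_simple {G : Type u} [Group G] [Finite G] (hab : AbTwo G) {K : Subgroup G}
    (h : IsSimpleGroup K) (hna : ¬ IsMulCommutative K) : KT K :=
  ((walter' K hna (ab_sub hab K)).kt hna (ab_sub hab K)).of_top

theorem red_of_abTwo {G : Type u} [Group G] [Finite G] (hab : AbTwo G)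
    (hO : Od (⊤ : Subgroup G) = ⊥) : Red G := (ih_all _).red hab hO (Nat.lt_succ_self _)

theorem gd_of_abTwo {G : Type u} [Group G] [Finite G] (hab : AbTwo G) (X : Subgroup G) : Gd X :=
  (ih_all _).gd hab (Nat.lt_succ_self _)

end CfsgLib.Wal
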