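import Cfsg.Agent.Lib.Wal.H5BFr
import Cfsg.Agent.Lib.JR.Ree
import Cfsg.Agent.Lib.J1.Ord2

/-!
# Real elements of order three and small configurations
-/

set_option autoImplicit false

namespace CfsgLib.H5.JB

open Subgroup Cfsg CfsgLib.FT CfsgLib.FT.BGN CfsgLib.Cop CfsgLib.GW CfsgLib.Wal
open CfsgLib.H1 (AbTwo)
open CfsgLib.FT.U4 (mem_cent1 mem_cent1' mem_cent mem_cent1_comm cent1_conj
  eq_one_of_mem_inf eq_bot_of_forall conj_mem_conj_iff orderOf_conj)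
open scoped commutatorElement MatrixGroups

universe u

/-- Some involution inverts an element of order `3`. -/
def Re3 (G : Type*) [Group G] : Prop :=
  ∃ y j : G, orderOf y = 3 ∧ orderOf j = 2 ∧ j * y * j⁻¹ = y⁻¹

theorem Re3.map {G X : Type*} [Group G] [Group X] (h : Re3 G) (f : G →* X)
    (hf : Function.Injective f) : Re3 X :=
  let ⟨y, j, h1, h2, h3⟩ := h
  ⟨f y, f j, (orderOf_injective f hf y).trans h1, (orderOf_injective f hf j).trans h2, by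
    rw [← map_inv, ← map_mul, ← map_mul, h3, map_inv]⟩

open H1 in
theorem re3_sl2 (F : Type*) [Field F] [CharP F 2] : Re3 SL(2, F) := by
  have h2 : (2 : F) = 0 := CharP.cast_eq_zero F 2
  obtain ⟨y, y0, y1, y2, y3⟩ : ∃ g : SL(2, F), g 0 0 = 0 ∧ g 0 1 = -1 ∧ g 1 0 = 1 ∧ g 1 1 = -1 :=
    ⟨⟨!![0, -1; 1, -1], by rw [Matrix.det_fin_two_of]; ring⟩, rfl, rfl, rfl, rfl⟩
  obtain ⟨j, j0, j1, j2, j3⟩ : ∃ g : SL(2, F), g 0 0 = 0 ∧ g 0 1 = 1 ∧ g 1 0 = 1 ∧ g 1 1 = 0 :=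
    ⟨⟨!![0, 1; 1, 0], by rw [Matrix.det_fin_two_of]; linear_combination -h2⟩, rfl, rfl, rfl, rfl⟩
  haveI := Fact.mk Nat.prime_three
  refine ⟨y, j, orderOf_eq_prime ?_ fun e => ?_, inv_of_mul_self ?_ fun e => ?_, ?_⟩
  · rw [pow_succ, pow_two]
    refine SL2_ext ?_ ?_ ?_ ?_ <;> simp [SL2_mul_apply, y0, y1, y2, y3]
  · rw [e] at y0; simp at y0
  · refine SL2_ext ?_ ?_ ?_ ?_ <;> simp [SL2_mul_apply, j0, j1, j2, j3]
  · rw [e] at j0; simp at j0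
  · refine SL2_ext ?_ ?_ ?_ ?_ <;> simp [SL2_mul_apply, SL2_inv_00, SL2_inv_01, SL2_inv_10,
      SL2_inv_11, y0, y1, y2, y3, j0, j1, j2, j3]
    all_goals first | linear_combination h2 | linear_combination -h2 | linear_combination 2 * h2

section general
variable {G : Type u} [Group G] [Finite G] {S X M K : Subgroup G} {a b n t s : G}

theorem re3_of_inv {j z : G} (hj : orderOf j = 2) (e : j * z * j⁻¹ = z⁻¹) (h3 : 3 ∣ orderOf z) :
    Re3 G :=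
  let ⟨k, hk⟩ := J1.exists_pow_orderOf h3
  ⟨z ^ k, j, hk, hj, Invol.inverts_of_mem_zpowers e (pow_mem (mem_zpowers z) k)⟩

theorem ord_br_dvd {x : G} (hx : x ∈ X) : orderOf (br X x) ∣ orderOf x := by
  rw [br_of_mem hx]; exact (orderOf_map_dvd _ _).trans (orderOf_mk _ _).dvd

theorem Re3.of_bar (h : Re3 (Bar X)) : Re3 G := by
  obtain ⟨y, j, h1, h2, h3⟩ := h
  obtain ⟨y, hy, rfl⟩ := br_surj y
  obtain ⟨j, hj, -, h4, rfl⟩ := exists_lift (U := X) ((im_self (X := X)).ge (mem_top j)) (mul_self_of_inv h2)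
  have h5 : j⁻¹ = j := inv_eq_of_mul_eq_one_right h4
  refine re3_of_inv (z := ⁅j, y⁆) (inv_of_mul_self h4 fun e => ne_one_of_inv h2 (e ▸ br_one)) ?_
    (Dvd.dvd.trans ?_ (ord_br_dvd (mul_mem (mul_mem (mul_mem hj hy) (inv_mem hj)) (inv_mem hy))))
  · rw [commutatorElement_inv, commutatorElement_def, commutatorElement_def, h5, ← mul_assoc,
      ← mul_assoc, ← mul_assoc, h4, one_mul]
  · rw [br_comm hj hy, commutatorElement_def, h3, ← mul_inv_rev,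
      orderOf_inv, ← pow_two, orderOf_pow, h1]
    norm_num

theorem card_pre (Y : Subgroup (Bar X)) : Nat.card (pre X Y) = Nat.card Y * Nat.card (Od X) := by
  rw [pre, card_map_subtype, card_comap_mk', Od, piCoreOf_compl_eq, card_map_subtype]

theorem relIndex_pre (Y : Subgroup (Bar X)) : (pre X Y).relIndex X = Y.index := by
  rw [pre, H5.relIndex_map_subtype, index_comap_of_surjective _ (QuotientGroup.mk'_surjective _)]

theorem equiv_im (h : K ≤ X) (h1 : Od X ⊓ K = ⊥) : Nonempty (K ≃* im X K) := by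
  have h2 : ∀ x : K, (pr X).comp (inclusion h) x = br X x := fun x => (br_of_mem (h x.2)).symm
  refine ⟨(MonoidHom.ofInjective (f := (pr X).comp (inclusion h))
    ((injective_iff_map_eq_one _).2 fun x hx => Subtype.ext (eq_one_of_mem_inf h1
      ((br_eq_one (h x.2)).1 (h2 x ▸ hx)) x.2))).trans (MulEquiv.subgroupCongr ?_)⟩
  ext y
  rw [mem_im]
  exact ⟨fun ⟨x, e⟩ => ⟨x, x.2, h x.2, h2 x ▸ e⟩, fun ⟨x, h3, _, e⟩ => ⟨⟨x, h3⟩, (h2 _).trans e⟩⟩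

theorem sylow_im {p : ℕ} (h : IsSylowIn p S X) : IsSylowIn p (im X S) ⊤ :=
  im_self (X := X) ▸ (h.subgroupOf le_rfl).map (pr X)

theorem oneCl_bar (h : OneCl X) : OneCl (⊤ : Subgroup (Bar X)) := fun u _ v _ h1 h2 => by
  obtain ⟨u, hu, -, h3, rfl⟩ := exists_lift (U := X) ((im_self (X := X)).ge (mem_top u)) (mul_self_of_inv h1)
  obtain ⟨v, hv, -, h4, rfl⟩ := exists_lift (U := X) ((im_self (X := X)).ge (mem_top v)) (mul_self_of_inv h2)
  obtain ⟨g, hg, e⟩ := h u hu v hv (inv_of_mul_self h3 fun e => ne_one_of_inv h1 (e ▸ br_one))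
    (inv_of_mul_self h4 fun e => ne_one_of_inv h2 (e ▸ br_one))
  exact ⟨br X g, trivial, by rw [← br_conj hg hu, e]⟩

omit [Finite G] in
theorem index_eq_Jv (h : OneCl (Jv (⊤ : Subgroup G))) (ht : orderOf t = 2) :
    (𝐂[t]).index = (𝐂[t]).relIndex (Jv ⊤) := by
  rw [← relIndex_top_right, ← Frob.ncard_conj_subgroup, ← Frob.ncard_conj_subgroup]
  congr 1
  ext y
  refine ⟨fun ⟨x, _, e⟩ => ?_, fun ⟨x, _, e⟩ => ⟨x, trivial, e⟩⟩
  have : orderOf y = 2 := e ▸ (orderOf_conj x t).trans ht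
  exact h t (mem_Jv trivial ht) y (mem_Jv trivial this) ht this

omit [Finite G] in
theorem cent1_mk (ht : t ∈ M) : 𝐂[(⟨t, ht⟩ : M)] = (𝐂[t]).subgroupOf M := by
  ext x
  rw [mem_subgroupOf, mem_cent1, mem_cent1, Subtype.ext_iff]; rfl

theorem sl2_of_cent (h : AllEl G) (hS : MaxE S ⊤) (h8 : Nat.card S = 8)
    (h1 : OneCl (⊤ : Subgroup G)) (hO : Od (⊤ : Subgroup G) = ⊥) (hJ : ¬ Jv ⊤ ≤ S) (ht : t ∈ S)
    (t1 : t ≠ 1) (hc : 𝐂[t] ≤ 𝐍(S)) : Re3 G ∧ (𝐂[t]).index = 63 := by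
  obtain ⟨h2, h3, h4⟩ := simple_Jv h hS h8 h1 hO hJ
  have hSJ : S ≤ Jv ⊤ := fun x hx => by
    by_cases e : x = 1
    · exact e ▸ one_mem _
    · exact mem_Jv trivial (hS.el.ord hx e)
  have hA : MaxE (S.subgroupOf (Jv ⊤)) ⊤ := MaxE.of_map (Jv (⊤ : Subgroup G)).subtype_injective (by
    rw [map_subgroupOf_eq_of_le hSJ, ← MonoidHom.range_eq_map, range_subtype]
    exact hS.mono hSJ le_top)
  have h0 : S.subgroupOf (Jv ⊤) ≠ ⊥ := ne_bot_of_mem (x := ⟨t, hSJ ht⟩) ht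
    fun e => t1 (congrArg Subtype.val e)
  obtain ⟨n, hn, ⟨e⟩⟩ := sl2_of_stronglyEmbedded h4 (ab_sub h.abTwo _) (se_of (ab_sub h.abTwo _) hA
    h0 (fun e => hJ (subgroupOf_eq_top.1 (((normalizer_eq_top_iff.1 e).eq_bot_or_eq_top
      ).resolve_left h0))) le_rfl fun x hx x1 y hy => by
        obtain ⟨m, hm, e⟩ := hS.trans h.abTwo h1 ht hx t1 fun e => x1 (Subtype.ext e)
        have h5 : (y : G) ∈ 𝐂[m * t * m⁻¹] := mem_cent1.2 (e ▸ congrArg Subtype.val (mem_cent1.1 hy))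
        rw [cent1_conj, mem_map_conj_iff] at h5
        have h6 : (y : G) ∈ 𝐍(S) := by
          simpa [mul_assoc] using mul_mem (mul_mem (mem_inf.1 hm).2 (hc h5)) (inv_mem (mem_inf.1 hm).2)
        exact mem_normalizer_of_conj_mem fun z hz =>
          mem_subgroupOf.2 (conj_mem_of_mem_normalizer h6 (mem_subgroupOf.1 hz)))
  refine ⟨((re3_sl2 _).map e.symm.toMonoidHom e.symm.injective).map _ (subtype_injective _), ?_⟩
  have ho : orderOf (e ⟨t, hSJ ht⟩) = 2 := by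
    rw [MulEquiv.orderOf_eq, orderOf_mk]; exact hS.el.ord ht t1
  have h5 : (𝐂[(⟨t, hSJ ht⟩ : Jv ⊤)]).map e.toMonoidHom = 𝐂[e ⟨t, hSJ ht⟩] := by
    have := map_inf_cent1 (f := e.toMonoidHom) e.injective ⊤ ⟨t, hSJ ht⟩
    rwa [map_top_of_surjective _ e.surjective, top_inf_eq, top_inf_eq, eq_comm] at this
  have h6 : 𝐂[(⟨t, hSJ ht⟩ : Jv ⊤)] = S.subgroupOf (Jv ⊤) := by
    have h7 := El.of_map (f := e.toMonoidHom) e.injective (h5 ▸ sl2_el ho)
    have h9 := hA.el.le_cent1 (a := ⟨t, hSJ ht⟩) ht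
    exact le_antisymm (hA.le_of_cent h7 le_top (h7.le_cent' le_rfl h9)) h9
  have h7 := BSW.SL2.card_centralizer (ne_one_of_inv ho)
    ((sl2_trace (mul_self_of_inv ho)).trans (CharP.cast_eq_zero _ 2))
  rw [← h5, card_map_of_injective e.injective, h6, card_subgroupOf_of_le hSJ, h8] at h7
  have h9 := (𝐂[(⟨t, hSJ ht⟩ : Jv ⊤)]).card_mul_index
  rw [Nat.card_congr e.toEquiv, SL2C.card_SL2, ← h7, h6, card_subgroupOf_of_le hSJ, h8, ← h6,
    cent1_mk, ← relIndex, ← index_eq_Jv h2 (hS.el.ord ht t1)] at h9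
  omega

theorem agl8 [S.Normal] (hS : El S) (h8 : Nat.card S = 8) (hc : 𝐂(S) ≤ S) (ht : t ∈ S) (t1 : t ≠ 1)
    (h7 : (𝐂[t]).index = 7) (h24 : Nat.card 𝐂[t] ∣ 24) (h3 : 3 ∣ Nat.card 𝐂[t]) :
    ∃ x c : G, J1.PS 7 x ∧ c ∈ J1.NN x ∧ Odd (orderOf c) ∧ c ∉ J1.CC x := by
  haveI := Fact.mk Nat.prime_three
  haveI := Fact.mk (by norm_num : Nat.Prime 7)
  have h1 := (𝐂[t]).card_mul_index
  rw [h7] at h1
  obtain ⟨x, hx⟩ := exists_prime_orderOf_dvd_card' (G := G) 7 (Dvd.intro_left _ h1)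
  have hp : J1.PS 7 x := ⟨Fact.out, hx, fun e => absurd
    (e.trans (h1 ▸ mul_dvd_mul_right h24 7)) (by norm_num)⟩
  have h2 := (J1.NN x).card_mul_index
  have h4 := hp.index_mod
  obtain ⟨m, hm⟩ := hp.dvd_CC.trans (card_dvd_of_le (J1.CC_le x))
  obtain ⟨c, hc1, hc2⟩ := J1.exists_mem_orderOf (H := J1.NN x) Nat.prime_three (by
    refine ((Nat.prime_three.dvd_mul).1 (h2 ▸ h1 ▸ h3.mul_right 7)).resolve_right fun e => ?_
    have h5 : (J1.NN x).index ∣ 24 := (Dvd.intro_left m (by rw [hm] at h2; linarith)).trans h24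
    have := Nat.le_of_dvd (by norm_num) h5
    generalize (J1.NN x).index = i at *
    interval_cases i <;> omega)
  refine ⟨x, c, hp, hc1, hc2 ▸ by norm_num, fun h5 => ?_⟩
  obtain ⟨P, hP⟩ := IsSylowIn.exists_in (p := 3) 𝐂[t]
  obtain ⟨g, -, h6⟩ := (sylow_trans hP le_top (by rw [relIndex_top_right, h7]; norm_num)
    ).exists_conj_le (isPGroup_of_card_prime (X := zpowers c) (by rw [Nat.card_zpowers, hc2])) le_top
  have h9 : c ∈ 𝐂[g⁻¹ * t * g⁻¹⁻¹] := by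
    rw [cent1_conj, mem_map_conj_iff, inv_inv]
    exact hP.le (h6 (conj_mem_map_conj (mem_zpowers c)))
  have h10 : (𝐂[g⁻¹ * t * g⁻¹⁻¹]).relIndex (zpowers x) = 7 := by
    refine ((Nat.dvd_prime Fact.out).1 (hp.card_zp ▸ relIndex_dvd_card _ _)).resolve_left fun e => ?_
    have := (hp.card_zp ▸ card_dvd_of_le (relIndex_eq_one.1 e))
    rw [cent1_conj, card_map_conj] at this
    exact absurd (this.trans h24) (by norm_num)
  have h11 : 7 ≤ Nat.card ↥(S ⊓ 𝐂[c]) := by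
    rw [← h10, ← Frob.ncard_conj_subgroup]
    refine Set.ncard_le_ncard (t := ((S ⊓ 𝐂[c] : Subgroup G) : Set G)) ?_
    rintro _ ⟨y, hy, rfl⟩
    have h12 : y ∈ 𝐂[c] := zpowers_le.2 (J1.CC_comm h5) hy
    exact mem_inf.2 ⟨Normal.conj_mem inferInstance _ (Normal.conj_mem inferInstance _ ht _) _,
      mul_mem (mul_mem h12 (mem_cent1_comm.1 h9)) (inv_mem h12)⟩
  have h12 : S ⊓ 𝐂[c] = S := eq_of_le_of_card_ge inf_le_left (by
    have h13 := card_dvd_of_le (inf_le_left : S ⊓ 𝐂[c] ≤ S)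
    rw [h8] at h13 ⊢
    have := Nat.le_of_dvd (by norm_num) h13
    generalize Nat.card ↥(S ⊓ 𝐂[c]) = i at *
    interval_cases i <;> omega)
  have := orderOf_dvd_of_pow_eq_one ((pow_two c).trans
    (hS c (hc (mem_cent.2 fun y hy => mem_cent1.1 (h12.ge hy).2))))
  rw [hc2] at this
  omega

theorem j1_data [IsSimpleGroup G] (hc : Nat.card G = 175560) {k : ℕ} (hk : k.Prime)
    (h : k ∣ 1463) : (k = 7 ∨ k = 11 ∨ k = 19) ∧
    ∃ x c : G, J1.PS k x ∧ c ∈ J1.NN x ∧ Odd (orderOf c) ∧ c ∉ J1.CC x := by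
  have h1 : k = 7 ∨ k = 11 ∨ k = 19 := by
    rcases (hk.dvd_mul (m := 7) (n := 11 * 19)).1 h with h | h
    · exact Or.inl ((Nat.prime_dvd_prime_iff_eq hk (by norm_num)).1 h)
    · exact Or.inr ((hk.dvd_mul.1 h).imp (Nat.prime_dvd_prime_iff_eq hk (by norm_num)).1
        (Nat.prime_dvd_prime_iff_eq hk (by norm_num)).1)
  have key : ∀ (x : G) (r : ℕ), r.Prime → Odd r → r ∣ Nat.card (J1.NN x) →
      ¬ r ∣ Nat.card (J1.CC x) → ∃ c ∈ J1.NN x, Odd (orderOf c) ∧ c ∉ J1.CC x :=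
    fun x r hr h2 h3 h4 =>
      let ⟨c, h5, h6⟩ := J1.exists_mem_orderOf hr h3
      ⟨c, h5, h6 ▸ h2, fun e => h4 (h6 ▸ Subgroup.orderOf_dvd_natCard _ e)⟩
  obtain ⟨t, ht⟩ := J1.exists_inv hc
  refine ⟨h1, ?_⟩
  rcases h1 with rfl | rfl | rfl
  · obtain ⟨x, hx⟩ := J1.exists_ord (p := 7) hc
    have h2 := (J1.NN x).card_mul_index
    rw [(J1.C7' hc hx ht).1, hc] at h2
    obtain ⟨c, h3⟩ := key x 3 Nat.prime_three (by norm_num) (by omega) (by rw [J1.C7 hc hx]; norm_num)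
    exact ⟨x, c, J1.ps hc hx, h3⟩
  · obtain ⟨x, hx⟩ := J1.exists_ord (p := 11) hc
    obtain ⟨c, h3⟩ := key x 5 Nat.prime_five (by norm_num) (by rw [J1.N11 hc hx]; norm_num)
      (by rw [(J1.C11 hc hx).1]; norm_num)
    exact ⟨x, c, J1.ps hc hx, h3⟩
  · obtain ⟨x, hx⟩ := J1.exists_ord (p := 19) hc
    obtain ⟨c, h3⟩ := key x 3 Nat.prime_three (by norm_num) (by rw [J1.N19 hc hx]; norm_num)
      (by rw [(J1.C19' hc hx ht).1]; norm_num)
    exact ⟨x, c, J1.ps hc hx, h3⟩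

end general

variable {G : Type u} [Group G] [Finite G] {t a b : G} {L : Subgroup G} {q : ℕ}

theorem re3_hyp (h : JR.Hyp t L q) (h5 : q ≠ 5) : Re3 G := by
  letI := Fintype.ofFinite G
  haveI := Fact.mk Nat.prime_three
  obtain ⟨q', r, s, c, h1, h2, h3, -⟩ := h.exists_ree h5
  obtain ⟨P, -, h4, h6, -⟩ := h1.exists_P0 h2 h3
  obtain ⟨i, hi, h7, h8⟩ := exists_inverted (mul_self_of_inv h1.ot)
    (odd_card_of_isPGroup Nat.prime_three (by norm_num) P.isPGroup') h4 h6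
  obtain ⟨n, hn⟩ := orderOf_eq_pow_of_mem_isPGroup P.isPGroup' hi
  exact re3_of_inv h1.ot h8 (hn ▸ dvd_pow_self 3 fun e => h7 (by
    rwa [e, pow_zero, orderOf_eq_one_iff] at hn))

theorem nonreal (h : WJR t L q) (h3 : 3 ∣ q) : ∃ x : G, orderOf x = 3 ∧ ∀ g, g * x * g⁻¹ ≠ x⁻¹ := by
  obtain ⟨F, _, _, hq, ⟨e⟩⟩ := h.iso
  have h2 : (2 : F) ≠ 0 := GW.PA.two_ne_zero_of_card (hq ▸ h.mod)
  obtain ⟨p, _, n, hp, hn⟩ := FiniteField.card' F
  obtain rfl : 3 = p := (Nat.prime_dvd_prime_iff_eq Nat.prime_three hp).1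
    (Nat.prime_three.dvd_of_dvd_pow (hn ▸ hq ▸ h3))
  haveI := Fact.mk Nat.prime_three
  have ho : orderOf (e.symm (up 1) : G) = 3 := by
    rw [orderOf_coe, MulEquiv.orderOf_eq]
    exact orderOf_eq_prime (by rw [up_pow, CharP.cast_eq_zero, zero_mul, up_zero])
      (up_ne_one h2 one_ne_zero)
  refine ⟨_, ho, fun g hg => ?_⟩
  have key : ∀ j ∈ L, j * (e.symm (up 1) : G) * j⁻¹ ≠ (e.symm (up 1) : G)⁻¹ := fun j hj h4 => by
    have h5 : IsConj (up (1 : F)) (up (-1)) := isConj_iff.2 ⟨e ⟨j, hj⟩, e.symm.injective (by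
      rw [eq_inv_of_mul_eq_one_left (show up (-1 : F) * up 1 = 1 by
        rw [← up_add, neg_add_cancel, up_zero])]
      simpa [Subtype.ext_iff] using h4)⟩
    refine FiniteField.isSquare_neg_one_iff.1 (isSquare_of_conj h2 h5) ?_
    have h6 : 3 ^ (n : ℕ) % 8 = 1 ∨ 3 ^ (n : ℕ) % 8 = 3 := by
      induction (n : ℕ) with
      | zero => simp
      | succ m ih => rw [pow_succ]; omega
    have := h.mod
    omega
  generalize hx : (e.symm (up 1) : G) = x at *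
  have hxL : x ∈ L := hx ▸ (e.symm (up 1)).2
  have hz : Nat.card (zpowers x) = 3 := by rw [Nat.card_zpowers, ho]
  have hn : ∀ y, y * x * y⁻¹ = x⁻¹ → y ∈ 𝐍(zpowers x) := fun y hy =>
    mem_normalizer_of_map_conj_eq (by rw [cj_zpowers, hy, zpowers_inv])
  obtain ⟨u, hu, v, hv, e1, h4, h5⟩ := (allEl h).two_part g
  have h6 : v ∈ 𝐂[x] := mem_cent1_comm.1 (mem_cent1_of_sq h5 (mem_cent1_comm.1 (by
    obtain ⟨m, rfl⟩ := mem_zpowers_iff.1 hv
    rw [← (Commute.refl g).mul_zpow]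
    refine zpow_mem (U4.mem_cent1_of_conj_eq ?_) m
    calc _ = g * (g * x * g⁻¹) * g⁻¹ := by group
      _ = (g * x * g⁻¹)⁻¹ := by rw [conj_inv, ← hg]
      _ = x := by rw [hg, inv_inv])))
  have h7 : u * x * u⁻¹ = x⁻¹ := by
    rw [← hg, e1]
    calc _ = u * (v * x * v⁻¹) * u⁻¹ := by rw [U4.conj_eq_of_mem_cent1 h6]
      _ = _ := by group
  have htN : t ∈ 𝐍(zpowers x) :=
    cent_le_norm _ ((U4.cent_zpowers x).ge (mem_cent1_comm.1 (h.le hxL)))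
  obtain ⟨A, hA, hA'⟩ := exists_maxE (el_zpowers (mul_self_of_inv h.ord)) (zpowers_le.2 htN)
  obtain ⟨y, hy, h8⟩ := hA'.exists_conj_mem (allEl h).abTwo (hn u h7) h4
  have h9 : y * u * y⁻¹ * x * (y * u * y⁻¹)⁻¹ = x⁻¹ := by
    calc _ = y * (u * (y⁻¹ * x * y) * u⁻¹) * y⁻¹ := by group
      _ = x⁻¹ := by
        rw [Invol.inverts_of_mem_zpowers h7 (conj_mem_of_mem_normalizer' hy (mem_zpowers x))]; group
  rcases h.mem_or (h.two_le hA'.el.isPGroup (hA'.el.le_cent1 (hA (mem_zpowers t))) h8) with h10 | h10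
  · exact key _ h10 h9
  · refine key _ h10 ?_
    calc _ = t * (y * u * y⁻¹ * x * (y * u * y⁻¹)⁻¹) * t⁻¹ := by group
      _ = x⁻¹ := by rw [h9, U4.conj_eq_of_mem_cent1 (mem_cent1_comm.1 (h.le (inv_mem hxL)))]

end CfsgLib.H5.JB
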