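import Cfsg.Agent.Lib.GW.PslA
import Cfsg.Agent.Lib.Suz.FieldAut

/-!
# Automorphisms of odd order of `PSL₂(q)`
-/

set_option autoImplicit false

namespace CfsgLib.H5.JB

open Subgroup Matrix MatrixGroups CfsgLib.H1 CfsgLib.H5 CfsgLib.BSW CfsgLib.GW.PA

variable {F K E : Type*} [Field F] [Field K] [Field E]

theorem smap_apply (f : F →+* K) (g : SL(2, F)) (i j : Fin 2) :
    (SpecialLinearGroup.map f g) i j = f (g i j) := rfl

theorem smap_neg (f : F →+* K) (g : SL(2, F)) :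
    SpecialLinearGroup.map f (-g) = -SpecialLinearGroup.map f g := by
  apply SL2_ext <;> simp only [smap_apply, SL2_neg_apply, map_neg]

theorem smap_inj (f : F →+* K) : Function.Injective (SpecialLinearGroup.map (n := Fin 2) f) :=
  fun g h e => by
    ext i j
    exact f.injective (by rw [← smap_apply, ← smap_apply, e])

/-- The map of `PSL₂` induced by a homomorphism of fields. -/
def pmap (f : F →+* K) : PSL(2, F) →* PSL(2, K) :=
  QuotientGroup.map _ _ (SpecialLinearGroup.map f) fun x hx => by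
    rw [mem_comap, SL2_mem_center_iff']
    rcases SL2_mem_center_iff'.1 hx with rfl | rfl
    · exact Or.inl (map_one _)
    · exact Or.inr (by rw [smap_neg, map_one])

theorem pmap_piP (f : F →+* K) (g : SL(2, F)) :
    pmap f (piP F g) = piP K (SpecialLinearGroup.map f g) := rfl

theorem pmap_inj (f : F →+* K) : Function.Injective (pmap f) := by
  intro x y e
  obtain ⟨g, rfl⟩ := piP_surj x
  obtain ⟨h, rfl⟩ := piP_surj y
  rw [pmap_piP, pmap_piP, piP_eq_iff, ← smap_neg] at e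
  exact piP_eq_iff.2 (e.imp (smap_inj f ·) (smap_inj f ·))

theorem pmap_pmap (f : F →+* K) (g : K →+* E) (x : PSL(2, F)) :
    pmap g (pmap f x) = pmap (g.comp f) x := by
  obtain ⟨h, rfl⟩ := piP_surj x
  rfl

theorem pmap_id (x : PSL(2, F)) : pmap (RingHom.id F) x = x := by
  obtain ⟨h, rfl⟩ := piP_surj x
  rfl

/-- Field automorphisms. -/
def fld : (F ≃+* F) →* MulAut PSL(2, F) where
  toFun σ := MonoidHom.toMulEquiv (pmap (σ : F →+* F)) (pmap (σ.symm : F →+* F))
    (by ext x; simp [pmap_pmap, pmap_id]) (by ext x; simp [pmap_pmap, pmap_id])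
  map_one' := by ext x; exact pmap_id x
  map_mul' σ τ := by ext x; exact (pmap_pmap (τ : F →+* F) (σ : F →+* F) x).symm

theorem fld_apply (σ : F ≃+* F) (x : PSL(2, F)) : fld σ x = pmap (σ : F →+* F) x := rfl

theorem smap_uv (f : F →+* K) (x y c : F) :
    SpecialLinearGroup.map f (uv x y c) = uv (f x) (f y) (f c) := by
  apply SL2_ext <;> simp [smap_apply, uv00, uv01, uv10, uv11]

/-- Upper unipotent elements. -/
def up (c : F) : PSL(2, F) := piP F (uv 1 0 c)
/-- Lower unipotent elements. -/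
def lo (c : F) : PSL(2, F) := piP F (uv 0 1 c)

theorem pmap_up (f : F →+* K) (c : F) : pmap f (up c) = up (f c) := by
  rw [up, pmap_piP, smap_uv, map_one, map_zero]; rfl

theorem pmap_lo (f : F →+* K) (c : F) : pmap f (lo c) = lo (f c) := by
  rw [lo, pmap_piP, smap_uv, map_one, map_zero]; rfl

theorem up_add (a b : F) : up (a + b) = up a * up b := by rw [up, uv_add, map_mul]; rfl

theorem up_zero : up (0 : F) = 1 := by rw [up, uv_zero, map_one]

theorem piP_uv_inj (h2 : (2 : F) ≠ 0) {x y z w c d : F} (h : piP F (uv x y c) = piP F (uv z w d)) :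
    uv x y c = uv z w d := by
  refine (piP_eq_iff.1 h).resolve_right fun e => ?_
  have h1 := uv_trace x y c
  rw [e, SL2_neg_apply, SL2_neg_apply] at h1
  have h3 := uv_trace z w d
  exact h2 ((mul_eq_zero.mp (by linear_combination -h1 - h3 : (2 : F) * 2 = 0)).elim id id)

theorem up_inj (h2 : (2 : F) ≠ 0) {a b : F} (h : up a = up b) : a = b := by
  have := congrArg (fun g : SL(2, F) => g 0 1) (piP_uv_inj h2 h)
  simpa [uv01] using this

theorem lo_inj (h2 : (2 : F) ≠ 0) {a b : F} (h : lo a = lo b) : a = b := by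
  have := congrArg (fun g : SL(2, F) => g 1 0) (piP_uv_inj h2 h)
  simpa [uv10] using this

theorem hom_ext {X : Type*} [Group X] {φ ψ : PSL(2, F) →* X} (h1 : ∀ c, φ (up c) = ψ (up c))
    (h2 : ∀ c, φ (lo c) = ψ (lo c)) (x : PSL(2, F)) : φ x = ψ x := by
  have key : ∀ g : SL(2, F), g 1 0 ≠ 0 → φ (piP F g) = ψ (piP F g) := fun g hg => by
    have hd := SL2_det g
    have : g = uv 1 0 ((g 0 0 - 1) / g 1 0) * uv 0 1 (-g 1 0) * uv 1 0 ((g 1 1 - 1) / g 1 0) := by
      apply SL2_ext <;> simp only [SL2_mul_apply, uv00, uv01, uv10, uv11] <;> field_simp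
      · ring
      · linear_combination (-g 1 0) * hd
      · ring
      · ring
    rw [this, map_mul, map_mul, map_mul, map_mul, map_mul, map_mul]
    exact congrArg₂ _ (congrArg₂ _ (h1 _) (h2 _)) (h1 _)
  obtain ⟨g, rfl⟩ := piP_surj x
  by_cases hg : g 1 0 = 0
  · have hd := SL2_det g
    have h3 := key (g * uv 0 1 1) (by
      simp only [SL2_mul_apply, uv00, uv10, hg]
      intro e
      have : g 1 1 = 0 := by linear_combination -e
      rw [this, hg] at hd
      simp at hd)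
    rw [map_mul, map_mul, map_mul] at h3
    exact mul_right_cancel (h3.trans (congrArg _ (h2 1).symm))
  · exact key g hg

theorem braid {a : F} (ha : a ≠ 0) : up a * lo a⁻¹ * up a = lo a⁻¹ * up a * lo a⁻¹ := by
  rw [up, lo, ← map_mul, ← map_mul, ← map_mul, ← map_mul]
  congr 1
  apply SL2_ext <;> simp only [SL2_mul_apply, uv00, uv01, uv10, uv11] <;> field_simp <;> ring

theorem of_braid (h2 : (2 : F) ≠ 0) {a b : F} (ha : a ≠ 0)
    (h : up a * lo b * up a = lo b * up a * lo b) : b = a⁻¹ := by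
  rw [up, lo, ← map_mul, ← map_mul, ← map_mul, ← map_mul, piP_eq_iff] at h
  refine eq_inv_of_mul_eq_one_right ?_
  rcases h with h | h
  · have := congrArg (fun g : SL(2, F) => g 0 1) h
    simp only [SL2_mul_apply, uv00, uv01, uv10, uv11] at this
    exact mul_left_cancel₀ ha (by linear_combination -this)
  · have := congrArg (fun g : SL(2, F) => g 0 0) h
    simp only [SL2_mul_apply, SL2_neg_apply, uv00, uv01, uv10, uv11] at this
    exact mul_left_cancel₀ h2 (by linear_combination -this)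

theorem w_conj {a : F} (ha : a ≠ 0) (c : F) :
    up a * lo a⁻¹ * up a * lo c * (up a * lo a⁻¹ * up a)⁻¹ = up (a ^ 2 * c) := by
  rw [up, lo, lo, ← map_mul, ← map_mul, ← map_inv, ← map_mul, ← map_mul, uv_conj, up]
  congr 1
  apply SL2_ext <;> simp only [SL2_mul_apply, uv00, uv01, uv10, uv11] <;> field_simp <;> ring

theorem core [Finite F] (h2 : (2 : F) ≠ 0) (β : MulAut PSL(2, F)) {σ τ : F → F}
    (hσ : ∀ c, β (up c) = up (σ c)) (hτ : ∀ c, β (lo c) = lo (τ c)) :
    ∃ (ρ : F ≃+* F) (s : F), s ≠ 0 ∧ (∀ c, σ c = s * ρ c) ∧ ∀ c, τ c = s⁻¹ * ρ c := by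
  have add : ∀ a b, σ (a + b) = σ a + σ b := fun a b =>
    up_inj h2 (by rw [← hσ, up_add, up_add, map_mul, hσ, hσ])
  have inj : Function.Injective σ := fun a b e => up_inj h2 (β.injective (by rw [hσ, hσ, e]))
  have zero : σ 0 = 0 := by have := add 0 0; rw [add_zero] at this; linear_combination -this
  have ne : ∀ a, a ≠ 0 → σ a ≠ 0 := fun a ha e => ha (inj (e.trans zero.symm))
  have h1 : ∀ a, a ≠ 0 → τ a⁻¹ = (σ a)⁻¹ := fun a ha => of_braid h2 (ne a ha) (by
    simpa only [map_mul, hσ, hτ] using congrArg β (braid ha))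
  have h3 : ∀ a, a ≠ 0 → ∀ c, σ (a ^ 2 * c) = σ a ^ 2 * τ c := fun a ha c => up_inj h2 (by
    rw [← hσ, ← w_conj ha, ← w_conj (ne a ha)]
    simp only [map_mul, map_inv, hσ, hτ, h1 a ha])
  have s0 := ne 1 one_ne_zero
  have h4 : τ 1 = (σ 1)⁻¹ := by simpa using h1 1 one_ne_zero
  have h5 : ∀ a, σ (a ^ 2) = σ a ^ 2 * (σ 1)⁻¹ := fun a => by
    by_cases ha : a = 0
    · simp [ha, zero]
    · rw [← h4, ← h3 a ha, mul_one]
  have h6 : ∀ a b, σ (a * b) = σ a * σ b * (σ 1)⁻¹ := fun a b => by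
    have e1 := h5 (a + b)
    rw [show (a + b) ^ 2 = a ^ 2 + b ^ 2 + (a * b + a * b) by ring, add, add, add, add, h5, h5]
      at e1
    exact mul_left_cancel₀ h2 (by linear_combination e1)
  let ρ0 : F →+* F :=
    { toFun := fun c => (σ 1)⁻¹ * σ c
      map_one' := inv_mul_cancel₀ s0
      map_mul' := fun a b => by rw [h6]; ring
      map_zero' := by rw [zero, mul_zero]
      map_add' := fun a b => by rw [add, mul_add] }
  refine ⟨RingEquiv.ofBijective ρ0 (Finite.injective_iff_bijective.1 ρ0.injective), σ 1, s0,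
    fun c => ?_, fun c => ?_⟩
  · change σ c = σ 1 * ((σ 1)⁻¹ * σ c)
    field_simp
  · change τ c = (σ 1)⁻¹ * ((σ 1)⁻¹ * σ c)
    have := h3 1 one_ne_zero c
    rw [one_pow, one_mul] at this
    rw [this]; field_simp

theorem exists_Rv [Finite F] (h2 : (2 : F) ≠ 0) {p : ℕ} [Fact p.Prime] [CharP F p]
    {g : PSL(2, F)} (hg : g ^ p = 1) (h1 : g ≠ 1) : ∃ x y : F, ¬ (x = 0 ∧ y = 0) ∧ g ∈ Rv x y := by
  have hp : p.Prime := Fact.out
  have hp2 : p ≠ 2 := by
    rintro rfl
    exact h2 (by exact_mod_cast CharP.cast_eq_zero F 2)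
  obtain ⟨X, rfl, hX⟩ := exists_odd_lift (hp.odd_of_ne_two hp2) hg
  by_cases ht : (X 0 0 + X 1 1) ^ 2 = 4
  · rcases sq_eq_sq_iff_eq_or_eq_neg.1 (ht.trans (by norm_num : (4 : F) = 2 ^ 2)) with e | e
    · obtain ⟨x, y, c, h3, rfl⟩ := exists_uv e
      exact ⟨x, y, h3, mem_Rv.2 ⟨c, rfl⟩⟩
    · obtain ⟨x, y, c, h3, h4⟩ := exists_uv (g := -X) (by
        rw [SL2_neg_apply, SL2_neg_apply]; linear_combination -e)
      exact ⟨x, y, h3, mem_Rv.2 ⟨c, by rw [← h4, piP_neg]⟩⟩
  · exfalso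
    have hX1 : X ≠ 1 := fun e => h1 (by rw [e, map_one])
    have ho : orderOf X = p := orderOf_eq_prime hX hX1
    have hd : p ∣ Nat.card (centralizer ({X} : Set SL(2, F))) :=
      ho ▸ Subgroup.orderOf_dvd_natCard _ (mem_centralizer_singleton_iff.2 rfl)
    have := Fintype.ofFinite F
    obtain ⟨n, -, hn⟩ := FiniteField.card F p
    have hq : p ∣ Nat.card F := by
      rw [Nat.card_eq_fintype_card, hn]; exact dvd_pow_self p n.ne_zero
    have hpos : 0 < Nat.card F := Nat.card_pos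
    rcases (SL2_centralizer ht).2 with e | e <;> rw [e] at hd
    · have := (Nat.dvd_sub hq hd)
      rw [show Nat.card F - (Nat.card F - 1) = 1 by omega] at this
      exact hp.one_lt.ne' (Nat.dvd_one.1 this)
    · exact hp.one_lt.ne' (Nat.dvd_one.1 ((Nat.dvd_add_right hq).1 hd))

theorem up_pow (c : F) (n : ℕ) : up c ^ n = up (n * c) := by
  induction n with
  | zero => simp [up_zero]
  | succ n ih => rw [pow_succ, ih, ← up_add]; push_cast; ring_nf

theorem up_ne_one (h2 : (2 : F) ≠ 0) {c : F} (hc : c ≠ 0) : up c ≠ 1 :=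
  fun e => hc (up_inj h2 (e.trans up_zero.symm))

theorem isConj_lo : IsConj (up (1 : F)) (lo 1) :=
  IsConj.symm (isConj_iff.2 ⟨_, by rw [w_conj (one_ne_zero (α := F)) 1, one_pow, one_mul]⟩)

theorem aut_form [Finite F] (h2 : (2 : F) ≠ 0) (α : MulAut PSL(2, F)) :
    ∃ (h : PSL(2, F)) (ρ : F ≃+* F) (s : F), s ≠ 0 ∧
      (∀ c, α (up c) = h * up (s * ρ c) * h⁻¹) ∧ ∀ c, α (lo c) = h * lo (s⁻¹ * ρ c) * h⁻¹ := by
  obtain ⟨p, hp⟩ := CharP.exists F
  have : Fact p.Prime := ⟨CharP.char_is_prime F p⟩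
  have u1 : up (1 : F) ≠ 1 := up_ne_one h2 one_ne_zero
  have up1 : up (1 : F) ^ p = 1 := by rw [up_pow, CharP.cast_eq_zero, zero_mul, up_zero]
  obtain ⟨k, hk⟩ := isConj_iff.1 (isConj_lo (F := F))
  have l1 : lo (1 : F) ≠ 1 := fun e => u1 (by rw [e] at hk; simpa using hk)
  have lp1 : lo (1 : F) ^ p = 1 := by rw [← hk, conj_pow, up1]; simp
  obtain ⟨x, y, hxy, h3⟩ := exists_Rv h2 (g := α (up 1)) (by rw [← map_pow, up1, map_one])
    (by simpa using u1)
  obtain ⟨z, w, hzw, h4⟩ := exists_Rv h2 (g := α (lo 1)) (by rw [← map_pow, lp1, map_one])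
    (by simpa using l1)
  have c1 := cent_eq_Rv h2 h3 (by simpa using u1)
  have c2 := cent_eq_Rv h2 h4 (by simpa using l1)
  have m1 : ∀ c, α (up c) ∈ Rv x y := fun c => by
    rw [← c1, mem_centralizer_singleton_iff, ← map_mul, ← map_mul, ← up_add, ← up_add, add_comm]
  have m2 : ∀ c, α (lo c) ∈ Rv z w := fun c => by
    rw [← c2, mem_centralizer_singleton_iff, ← map_mul, ← map_mul, lo, lo, ← map_mul, ← map_mul,
      ← uv_add, ← uv_add, add_comm]
  have hd : x * w - y * z ≠ 0 := fun e => by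
    obtain ⟨l, rfl, rfl⟩ := exists_smul hxy (z := z) (w := w) (by linear_combination -e)
    have := Rv_smul_le l x y h4
    rw [← c1, mem_centralizer_singleton_iff, ← map_mul, ← map_mul, α.injective.eq_iff, up, lo,
      piP_comm_iff, uv_conj] at this
    rcases this with e1 | e1
    · have := congrArg (fun g : SL(2, F) => g 1 0) e1
      simp [uv00, uv01, uv10, uv11] at this
    · have := congrArg (fun g : SL(2, F) => g 1 0) e1
      simp [SL2_neg_apply, uv00, uv01, uv10, uv11] at this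
  let H : SL(2, F) := ⟨!![x, z / (x * w - y * z); y, w / (x * w - y * z)], by
    rw [det_fin_two_of]; field_simp⟩
  have H00 : H 0 0 = x := rfl
  have H01 : H 0 1 = z / (x * w - y * z) := rfl
  have H10 : H 1 0 = y := rfl
  have H11 : H 1 1 = w / (x * w - y * z) := rfl
  have k1 : ∀ c, ∃ d, α (up c) = piP F H * up d * (piP F H)⁻¹ := fun c => by
    obtain ⟨d, e⟩ := mem_Rv.1 (m1 c)
    exact ⟨d, by rw [← e, up, ← map_inv, ← map_mul, ← map_mul, uv_conj, H00, H10]; simp⟩
  have k2 : ∀ c, ∃ d, α (lo c) = piP F H * lo d * (piP F H)⁻¹ := fun c => by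
    obtain ⟨d, e⟩ := mem_Rv.1 (m2 c)
    refine ⟨(x * w - y * z) ^ 2 * d, ?_⟩
    rw [← e, lo, ← map_inv, ← map_mul, ← map_mul, uv_conj, H01, H11, ← uv_smul, mul_zero,
      mul_zero, zero_add, zero_add, mul_one, mul_one, mul_div_cancel₀ _ hd, mul_div_cancel₀ _ hd]
  choose σ hσ using k1
  choose τ hτ using k2
  obtain ⟨ρ, s, hs, e1, e2⟩ := core h2 (MulAut.conj (piP F H)⁻¹ * α) (σ := σ) (τ := τ)
    (fun c => by simp [hσ, mul_assoc]) (fun c => by simp [hτ, mul_assoc])
  exact ⟨piP F H, ρ, s, hs, fun c => by rw [hσ, e1], fun c => by rw [hτ, e2]⟩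

/-- A diagonal element. -/
def dg (r : F) (hr : r ≠ 0) : SL(2, F) := ⟨!![r, 0; 0, r⁻¹], by rw [det_fin_two_of]; field_simp; ring⟩

theorem dg_up {r : F} (hr : r ≠ 0) (c : F) :
    piP F (dg r hr) * up c * (piP F (dg r hr))⁻¹ = up (r * r * c) := by
  rw [up, ← map_inv, ← map_mul, ← map_mul, uv_conj, up, ← sq, ← uv_smul]
  congr 2 <;> simp [dg]

theorem dg_lo {r : F} (hr : r ≠ 0) (c : F) :
    piP F (dg r hr) * lo c * (piP F (dg r hr))⁻¹ = lo ((r * r)⁻¹ * c) := by
  rw [lo, ← map_inv, ← map_mul, ← map_mul, uv_conj, lo, ← sq, ← inv_pow, ← uv_smul]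
  congr 2 <;> simp [dg]

theorem isSquare_of_conj (h2 : (2 : F) ≠ 0) {s : F} (h : IsConj (up 1) (up s)) : IsSquare s := by
  obtain ⟨g, hg⟩ := isConj_iff.1 h
  obtain ⟨X, rfl⟩ := piP_surj g
  rw [up, ← map_inv, ← map_mul, ← map_mul, uv_conj, up] at hg
  have := congrArg (fun g : SL(2, F) => g 0 1) (piP_uv_inj h2 hg)
  simp only [uv01] at this
  exact ⟨X 0 0, by linear_combination -this⟩

theorem isConj_sq {s : F} (hs : s ≠ 0) (h : IsSquare s) : IsConj (up 1) (up s) := by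
  obtain ⟨r, rfl⟩ := h
  exact isConj_iff.2 ⟨_, by rw [dg_up (left_ne_zero_of_mul hs), mul_one]⟩

theorem isSquare_mul [Finite F] {s : F} (ρ : F ≃+* F) : IsSquare (s * ρ s) := by
  classical
  have := Fintype.ofFinite F
  by_cases h : IsSquare s
  · exact h.mul (h.map ρ)
  · have h1 : ¬ IsSquare (ρ s) := fun e => h (by simpa using e.map ρ.symm)
    have s0 : s ≠ 0 := by rintro rfl; exact h IsSquare.zero
    rw [← quadraticChar_neg_one_iff_not_isSquare] at h h1
    rw [← quadraticChar_one_iff_isSquare (mul_ne_zero s0 ((map_ne_zero ρ).2 s0)), map_mul, h, h1]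
    norm_num

theorem aut_odd [Finite F] (h2 : (2 : F) ≠ 0) (α : MulAut PSL(2, F)) (ho : Odd (orderOf α)) :
    ∃ (g : PSL(2, F)) (ρ : F ≃+* F), α = MulAut.conj g * fld ρ := by
  obtain ⟨h, ρ, s, hs, e1, e2⟩ := aut_form h2 α
  have c0 : ∀ (β : MulAut PSL(2, F)) {x y}, IsConj x y → IsConj (β x) (β y) :=
    fun β _ _ hc => β.toMonoidHom.map_isConj hc
  have c1 : ∀ c, IsConj (up (s * ρ c)) (α (up c)) := fun c => isConj_iff.2 ⟨h, (e1 c).symm⟩
  have c2 : IsConj (up 1) ((α * α) (up 1)) := by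
    have := c0 α (c1 1)
    rw [map_one, mul_one] at this
    exact ((isConj_sq (mul_ne_zero hs ((map_ne_zero ρ).2 hs)) (isSquare_mul ρ)).trans
      (c1 s)).trans this
  have c3 : ∀ n, IsConj (up 1) (((α * α) ^ n) (up 1)) := fun n => by
    induction n with
    | zero => exact IsConj.refl _
    | succ n ih => rw [pow_succ']; exact c2.trans (c0 _ ih)
  obtain ⟨m, hm⟩ := ho
  have c4 := c3 (m + 1)
  rw [← sq, ← pow_mul, show 2 * (m + 1) = orderOf α + 1 by omega, pow_succ, pow_orderOf_eq_one,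
    one_mul] at c4
  obtain ⟨r, rfl⟩ := isSquare_of_conj h2 (s := s) (by simpa using c4.trans (c1 1).symm)
  have hr := left_ne_zero_of_mul hs
  refine ⟨h * piP F (dg r hr), ρ, MulEquiv.ext fun x => hom_ext (φ := α.toMonoidHom)
    (ψ := (MulAut.conj (h * piP F (dg r hr)) * fld ρ).toMonoidHom) (fun c => ?_) (fun c => ?_) x⟩
  · change α _ = _ * fld ρ _ * _
    rw [e1, fld_apply, pmap_up, ← dg_up hr]; simp [mul_assoc]
  · change α _ = _ * fld ρ _ * _
    rw [e2, fld_apply, pmap_lo, ← dg_lo hr]; simp [mul_assoc]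

/-- The standard element of order `4`. -/
def mI (F : Type*) [Field F] : SL(2, F) := ⟨!![0, -1; 1, 0], by rw [det_fin_two_of]; ring⟩

/-- An element of order `4` inverting `mI`. -/
def mJ {a b : F} (h : a ^ 2 + b ^ 2 = -1) : SL(2, F) :=
  ⟨!![a, b; b, -a], by rw [det_fin_two_of]; linear_combination -h⟩

theorem mI00 : mI F 0 0 = 0 := rfl
theorem mI01 : mI F 0 1 = -1 := rfl
theorem mI10 : mI F 1 0 = 1 := rfl
theorem mI11 : mI F 1 1 = 0 := rfl

section IJ

variable {a b : F} (h : a ^ 2 + b ^ 2 = -1)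

theorem mJ00 : mJ h 0 0 = a := rfl
theorem mJ01 : mJ h 0 1 = b := rfl
theorem mJ10 : mJ h 1 0 = b := rfl
theorem mJ11 : mJ h 1 1 = -a := rfl

theorem mI_mJ : mI F * mJ h = -(mJ h * mI F) := by
  apply SL2_ext <;> simp [SL2_mul_apply, SL2_neg_apply, mI00, mI01, mI10, mI11, mJ00, mJ01, mJ10,
    mJ11]

theorem mI_sq : mI F * mI F = -1 := SL2_sq_of_trace_zero (by simp [mI00, mI11])

theorem mJ_sq : mJ h * mJ h = -1 := SL2_sq_of_trace_zero (by simp [mJ00, mJ11])

theorem piP_ne_one (h2 : (2 : F) ≠ 0) {X : SL(2, F)} (hX : X * X = -1) : piP F X ≠ 1 := by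
  rw [Ne, piP_eq_one, SL2_mem_center_iff']
  rintro (rfl | rfl) <;> exact neg_one_ne_one h2 (by simpa using hX.symm)

theorem piP_sq {X : SL(2, F)} (hX : X * X = -1) : piP F X * piP F X = 1 := by
  rw [← map_mul, hX, piP_neg, map_one]

theorem ij_comm : piP F (mI F) * piP F (mJ h) = piP F (mJ h) * piP F (mI F) := by
  rw [← map_mul, mI_mJ, piP_neg, map_mul]

theorem ij_ne (h2 : (2 : F) ≠ 0) : piP F (mI F) ≠ piP F (mJ h) := fun e => by
  rcases piP_eq_iff.1 e with e | e
  · have h1 := congrArg (fun g : SL(2, F) => g 0 1) e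
    have h3 := congrArg (fun g : SL(2, F) => g 1 0) e
    simp only [mI01, mI10, mJ01, mJ10] at h1 h3
    exact h2 (by linear_combination h3 - h1)
  · have h1 := congrArg (fun g : SL(2, F) => g 0 1) e
    have h3 := congrArg (fun g : SL(2, F) => g 1 0) e
    simp only [SL2_neg_apply, mI01, mI10, mJ01, mJ10] at h1 h3
    exact h2 (by linear_combination h3 - h1)

theorem eq_one_of_comm (h2 : (2 : F) ≠ 0) {X : SL(2, F)} (h1 : X * mI F = mI F * X)
    (h3 : X * mJ h = mJ h * X) : piP F X = 1 := by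
  have e1 := congrArg (fun g : SL(2, F) => g 0 0) h1
  have e2 := congrArg (fun g : SL(2, F) => g 0 1) h1
  have e3 := congrArg (fun g : SL(2, F) => g 0 0) h3
  have e4 := congrArg (fun g : SL(2, F) => g 0 1) h3
  simp only [SL2_mul_apply, mI00, mI01, mI10, mI11, mJ00, mJ01, mJ10, mJ11] at e1 e2 e3 e4
  have e5 : X 0 1 = 0 := mul_left_cancel₀ h2 (by
    linear_combination (-b) * e3 + a * e4 - b ^ 2 * e1 + a * b * e2 + 2 * X 0 1 * h)
  rw [piP_eq_one, SL2_mem_center_iff]
  exact ⟨e5, by linear_combination e1 - e5, by linear_combination -e2⟩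

theorem cent_ij (h2 : (2 : F) ≠ 0) {g : PSL(2, F)} (h1 : g * piP F (mI F) = piP F (mI F) * g)
    (h3 : g * piP F (mJ h) = piP F (mJ h) * g) : g = 1 ∨ g = piP F (mI F) ∨ g = piP F (mJ h) ∨
      g = piP F (mI F) * piP F (mJ h) := by
  obtain ⟨X, rfl⟩ := piP_surj g
  have i2 := piP_sq (mI_sq (F := F))
  have j2 := piP_sq (mJ_sq h)
  have ij := mI_mJ h
  have ji : mJ h * mI F = -(mI F * mJ h) := by rw [ij, neg_neg]
  rw [piP_comm_iff, mul_inv_eq_iff_eq_mul, mul_inv_eq_iff_eq_mul, neg_mul] at h1 h3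
  rcases h1 with h1 | h1 <;> rcases h3 with h3 | h3
  · exact Or.inl (eq_one_of_comm h h2 h1 h3)
  · have := eq_one_of_comm h h2 (X := X * mI F) (by rw [h1, mul_assoc, h1])
      (by rw [mul_assoc, ij, mul_neg, ← mul_assoc, h3, neg_mul, neg_neg, mul_assoc])
    rw [map_mul, ← i2] at this
    exact Or.inr (Or.inl (mul_right_cancel this))
  · have := eq_one_of_comm h h2 (X := X * mJ h)
      (by rw [mul_assoc, ji, mul_neg, ← mul_assoc, h1, neg_mul, neg_neg, mul_assoc])
      (by rw [h3, mul_assoc, h3])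
    rw [map_mul, ← j2] at this
    exact Or.inr (Or.inr (Or.inl (mul_right_cancel this)))
  · have := eq_one_of_comm h h2 (X := X * mJ h * mI F)
      (by rw [mul_assoc X, mul_assoc X, ji, neg_mul, mul_neg, mul_assoc (mI F), ← mul_assoc X, h1,
        neg_mul, neg_neg, mul_assoc, ← ji])
      (by rw [mul_assoc, ij, mul_neg, h3, neg_mul, neg_neg, neg_mul, mul_neg, ← mul_assoc,
        ← mul_assoc, ← mul_assoc, mul_assoc (mJ h) X, h3]; simp only [mul_neg, neg_mul, mul_assoc])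
    rw [map_mul, map_mul, mul_assoc, mul_eq_one_iff_eq_inv, _root_.mul_inv_rev,
      inv_eq_of_mul_eq_one_right i2, inv_eq_of_mul_eq_one_right j2] at this
    exact Or.inr (Or.inr (Or.inr this))

end IJ

theorem exists_ab [Finite F] : ∃ m n : ℤ, (m : F) ^ 2 + (n : F) ^ 2 = -1 := by
  obtain ⟨p, hp⟩ := CharP.exists F
  have : Fact p.Prime := ⟨CharP.char_is_prime F p⟩
  obtain ⟨a, b, h⟩ := ZMod.sq_add_sq p (-1)
  obtain ⟨m, rfl⟩ := ZMod.intCast_surjective a
  obtain ⟨n, rfl⟩ := ZMod.intCast_surjective b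
  exact ⟨m, n, by simpa using congrArg (ZMod.castHom (dvd_refl p) F) h⟩

theorem fld_mI (σ : F ≃+* F) : fld σ (piP F (mI F)) = piP F (mI F) := by
  rw [fld_apply, pmap_piP]; congr 1
  apply SL2_ext <;> simp [smap_apply, mI00, mI01, mI10, mI11]

theorem fld_mJ (σ : F ≃+* F) {m n : ℤ} (h : (m : F) ^ 2 + (n : F) ^ 2 = -1) :
    fld σ (piP F (mJ h)) = piP F (mJ h) := by
  rw [fld_apply, pmap_piP]; congr 1
  apply SL2_ext <;> simp [smap_apply, mJ00, mJ01, mJ10, mJ11]

theorem odd_card_aut [Fintype F] (h8 : Fintype.card F % 8 = 3 ∨ Fintype.card F % 8 = 5) :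
    Odd (Nat.card (F ≃+* F)) := by
  obtain ⟨p, hp⟩ := CharP.exists F
  have : Fact p.Prime := ⟨CharP.char_is_prime F p⟩
  obtain ⟨n, -, hn⟩ := FiniteField.card F p
  rw [Suz.card_ringAut (p := p) (n := n) (by rw [Nat.card_eq_fintype_card, hn])]
  refine Nat.not_even_iff_odd.1 fun ⟨m, hm⟩ => ?_
  rw [hn, hm, pow_add] at h8
  generalize p ^ m = x at h8
  rw [Nat.mul_mod] at h8
  have : x % 8 < 8 := Nat.mod_lt _ (by norm_num)
  generalize x % 8 = y at *
  interval_cases y <;> omega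

theorem aut_eq_fld [Fintype F] (h8 : Fintype.card F % 8 = 3 ∨ Fintype.card F % 8 = 5)
    {m n : ℤ} (h : (m : F) ^ 2 + (n : F) ^ 2 = -1) (α : MulAut PSL(2, F)) (ho : Odd (orderOf α))
    (h1 : α (piP F (mI F)) = piP F (mI F)) (h3 : α (piP F (mJ h)) = piP F (mJ h)) :
    ∃ ρ : F ≃+* F, α = fld ρ := by
  have h2 := two_ne_zero_of_card h8
  obtain ⟨g, ρ, rfl⟩ := aut_odd h2 α ho
  rw [MulAut.mul_apply, fld_mI, MulAut.conj_apply, mul_inv_eq_iff_eq_mul] at h1
  rw [MulAut.mul_apply, fld_mJ, MulAut.conj_apply, mul_inv_eq_iff_eq_mul] at h3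
  have i2 := piP_sq (mI_sq (F := F))
  have j2 := piP_sq (mJ_sq h)
  obtain ⟨g2, gf⟩ : g * g = 1 ∧ fld ρ g = g := by
    rcases cent_ij h h2 h1 h3 with rfl | rfl | rfl | rfl
    · simp
    · exact ⟨i2, fld_mI ρ⟩
    · exact ⟨j2, fld_mJ ρ h⟩
    · exact ⟨by rw [mul_assoc, ← mul_assoc (piP F (mJ h)), ← ij_comm, mul_assoc, j2, mul_one, i2],
        by rw [map_mul, fld_mI, fld_mJ]⟩
  have hc : Commute (MulAut.conj g) (fld ρ) := by
    ext x; simp [gf]
  have o1 := odd_card_aut h8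
  have e1 : (MulAut.conj g * fld ρ) ^ Nat.card (F ≃+* F) = MulAut.conj g := by
    obtain ⟨k, hk⟩ := o1
    rw [hc.mul_pow, ← map_pow fld, pow_card_eq_one', map_one, mul_one, ← map_pow, hk, pow_succ,
      pow_mul, sq, g2, one_pow, one_mul]
  have e2 : MulAut.conj g = 1 := by
    have d1 : orderOf (MulAut.conj g) ∣ 2 := orderOf_dvd_of_pow_eq_one (by
      rw [sq, ← map_mul, g2, map_one])
    have d2 : Odd (orderOf (MulAut.conj g)) := e1 ▸ ho.of_dvd_nat (orderOf_pow_dvd _)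
    exact orderOf_eq_one_iff.1 (((Nat.dvd_prime Nat.prime_two).1 d1).resolve_right
      fun e => by rw [e] at d2; exact absurd d2 (by decide))
  exact ⟨ρ, by rw [e2, one_mul]⟩

theorem fld_comm [Finite F] (σ τ : F ≃+* F) : σ * τ = τ * σ := by
  obtain ⟨p, hp⟩ := CharP.exists F
  have : Fact p.Prime := ⟨CharP.char_is_prime F p⟩
  have := Fintype.ofFinite F
  obtain ⟨n, -, hn⟩ := FiniteField.card F p
  obtain ⟨j, -, hj⟩ := Suz.exists_frob_pow (p := p) (n := n)
    (by rw [Nat.card_eq_fintype_card, hn]) σ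
  ext x
  change σ (τ x) = τ (σ x)
  rw [hj, hj, map_pow]

/-- The fixed field. -/
abbrev fix (σ : F ≃+* F) : Subfield F := FixedPoints.subfield (zpowers σ) F

theorem mem_fix {σ : F ≃+* F} {x : F} : x ∈ fix σ ↔ σ x = x :=
  ⟨fun h => h ⟨σ, mem_zpowers σ⟩, fun h τ => (show zpowers σ ≤ MulAction.stabilizer _ x from
    zpowers_le.2 h) τ.2⟩

theorem card_fix [Finite F] (σ : F ≃+* F) : Nat.card (fix σ) ^ orderOf σ = Nat.card F := by
  have : Finite (F ≃+* F) := Finite.of_injective _ DFunLike.coe_injective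
  have := Fintype.ofFinite (zpowers σ)
  rw [Module.natCard_eq_pow_finrank (K := fix σ) (V := F), FixedPoints.finrank_eq_card,
    ← Nat.card_eq_fintype_card, Nat.card_zpowers]

theorem fld_fix_iff (h2 : (2 : F) ≠ 0) {σ : F ≃+* F} (ho : Odd (orderOf σ)) {y : PSL(2, F)} :
    fld σ y = y ↔ y ∈ (pmap (fix σ).subtype).range := by
  constructor
  · intro h
    obtain ⟨X, rfl⟩ := piP_surj y
    rw [fld_apply, pmap_piP, piP_eq_iff] at h
    have h3 : ∀ i j, σ (X i j) = X i j := by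
      rcases h with h | h
      · exact fun i j => congrArg (fun g : SL(2, F) => g i j) h
      · have h4 : ∀ i j, σ (X i j) = -X i j := fun i j => by
          rw [← SL2_neg_apply, ← h]; rfl
        have h5 : ∀ i j, X i j = 0 := fun i j => by
          have h6 : ∀ k, (σ ^ k) (X i j) = (-1) ^ k * X i j := fun k => by
            induction k with
            | zero => simp
            | succ k ih => rw [pow_succ', RingAut.mul_apply, ih, map_mul, h4]; simp [pow_succ]
          have := h6 (orderOf σ)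
          rw [pow_orderOf_eq_one, ho.neg_one_pow, RingAut.one_apply] at this
          exact mul_left_cancel₀ h2 (by linear_combination this)
        have := SL2_det X
        simp [h5] at this
    refine ⟨piP _ ⟨!![⟨X 0 0, mem_fix.2 (h3 _ _)⟩, ⟨X 0 1, mem_fix.2 (h3 _ _)⟩;
      ⟨X 1 0, mem_fix.2 (h3 _ _)⟩, ⟨X 1 1, mem_fix.2 (h3 _ _)⟩], ?_⟩, ?_⟩
    · rw [det_fin_two_of]; exact Subtype.ext (SL2_det X)
    · exact (pmap_piP _ _).trans (congrArg _ (SL2_ext rfl rfl rfl rfl))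
  · rintro ⟨z, rfl⟩
    rw [fld_apply, pmap_pmap]
    congr 2
    ext x
    exact mem_fix.1 x.2

theorem mem_zpowers_of_fix [Finite F] (h2 : (2 : F) ≠ 0) {σ τ : F ≃+* F}
    (h : ∀ y, fld σ y = y → fld τ y = y) : ∃ j : ℕ, τ = σ ^ j :=
  Suz.ringEquiv_eq_pow_of_fix σ τ fun x hx => up_inj h2 (by
    have := h (up x) (by rw [fld_apply, pmap_up]; exact congrArg up hx)
    rwa [fld_apply, pmap_up] at this)

theorem fix_of_prime [Finite F] {σ τ : F ≃+* F} (h : (Nat.card (fix σ)).Prime) {x : F}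
    (hx : σ x = x) : τ x = x := by
  have := Fintype.ofFinite (fix σ)
  have : Fact (Nat.card (fix σ)).Prime := ⟨h⟩
  obtain ⟨k, hk⟩ := ZMod.intCast_surjective
    ((ZMod.ringEquivOfPrime (fix σ) h Nat.card_eq_fintype_card.symm).symm ⟨x, mem_fix.2 hx⟩)
  have h1 := congrArg (ZMod.ringEquivOfPrime (fix σ) h Nat.card_eq_fintype_card.symm) hk
  rw [RingEquiv.apply_symm_apply, map_intCast] at h1
  have h3 : x = k := by simpa using (congrArg Subtype.val h1).symm
  rw [h3, map_intCast]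

end CfsgLib.H5.JB
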