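import Cfsg.Agent.Lib.Wal.H5BRed
import Cfsg.Agent.Lib.JR.BDefs

/-!
# Reduction of the absence of field automorphisms to the Ree case
-/

set_option autoImplicit false

namespace CfsgLib.H5.JB

open Subgroup Cfsg CfsgLib.FT CfsgLib.FT.BGN CfsgLib.Cop CfsgLib.GW CfsgLib.Wal
open CfsgLib.FT.U4 (mem_cent1 mem_cent1' mem_cent mem_cent1_comm cent1_conj
  eq_one_of_mem_inf eq_bot_of_forall conj_mem_conj_iff orderOf_conj)
open scoped commutatorElement MatrixGroups

universe u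

theorem two_mul_div {r : ℕ} : 2 * (r * (r ^ 2 - 1) / 2) = r * (r ^ 2 - 1) := by
  refine Nat.mul_div_cancel' (even_iff_two_dvd.1 ?_)
  rcases Nat.even_or_odd r with h | h
  · exact h.mul_right _
  · exact (h.pow.tsub_odd odd_one).mul_left _

theorem sq_sub_one (m : ℕ) : (m + 1) ^ 2 - 1 = m * (m + 2) := by
  rw [Nat.sub_eq_iff_eq_add (Nat.one_le_pow 2 (m + 1) m.succ_pos)]; ring

theorem sq_sub_self (m : ℕ) : (m + 1) ^ 2 - (m + 1) = m * (m + 1) := by
  rw [Nat.sub_eq_iff_eq_add (by nlinarith)]; ring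

variable {G : Type u} [Group G] [Finite G] {t a b f : G} {L : Subgroup G} {q : ℕ}

theorem card_sup_t (h : WJR t L q) {K : Subgroup G} (hK : K ≤ L) :
    Nat.card ↥(zpowers t ⊔ K) = 2 * Nat.card K := by
  rw [card_sup_of_disjoint (zpowers_le.2 (cent_le_norm _ (le_cent1_iff.1 (hK.trans h.le))))
    (eq_bot_of_forall fun x hx => ((mem_zpowers_inv h.ord).1 hx.1).resolve_right
      fun e => h.notMem (e ▸ hK hx.2)), card_zpowers_inv h.ord]

theorem index_of_hyp (h : WJR t L q) (h' : JR.Hyp t L q) (h5 : q ≠ 5) :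
    (𝐂[t]).index = q ^ 2 * (q ^ 2 - q + 1) := by
  have h1 : 𝐂[t] = zpowers t ⊔ L := le_antisymm (fun g hg => (h'.cent g (mem_cent1.1 hg)).elim
    mem_sup_right fun h2 => (mul_mem_cancel_left (mem_sup_left (mem_zpowers t))).1 (mem_sup_right h2))
    (sup_le (U4.zpowers_le_cent1 t) h.le)
  have h2 := (𝐂[t]).card_mul_index
  rcases h'.card with h3 | ⟨n, -, -, h3⟩
  · exact absurd h3.1 h5
  conv_lhs at h2 => rw [h1, card_sup_t h le_rfl, card_of_iso h.mod h.iso, two_mul_div, ← h1]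
  have h4 := h.five_le
  obtain ⟨m, rfl⟩ : ∃ m, q = m + 1 := ⟨q - 1, by omega⟩
  rw [h3, sq_sub_one, Nat.add_sub_cancel] at h2
  rw [sq_sub_self]
  exact Nat.eq_of_mul_eq_mul_left (show 0 < (m + 1) * (m * (m + 2)) by
    have : 0 < m := by omega
    positivity) (h2.trans (by ring))

theorem Fr.card_inf (h : Fr t L q a b) (hf : f ∈ h.F) :
    Nat.card ↥(𝐂[t] ⊓ 𝐂[f]) = Nat.card h.F * (2 * Nat.card ↥(L ⊓ 𝐂[f])) := by
  have h1 : h.F ≤ 𝐂[f] ⊓ 𝐂[t] := le_inf (h.F_comm.trans (cent_le_cent1 hf)) h.F_le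
  rw [← card_sup_t h.toWJR inf_le_left, ← card_sup_of_disjoint (H1.le_normalizer_sup
    (h.F_le.trans ((U4.cent_zpowers t).ge.trans (cent_le_norm _))) (h1.trans (h.norm0 hf)))
    (eq_bot_of_forall fun x hx => h.eq_one hx.1
      ((sup_le_sup_left inf_le_left _ : _ ≤ zpowers t ⊔ L) hx.2))]
  congr 2
  refine le_antisymm (fun y hy => ?_) (sup_le (h1.trans (inf_comm _ _).le) (sup_le
    (zpowers_le.2 ⟨U4.self_mem_cent1 t, h.t0 hf⟩) (inf_le_inf_right _ h.le)))
  obtain ⟨r, hr, v, hv, rfl⟩ := h.dec hy.1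
  have h2 := (mul_mem_cancel_right (mem_inf.1 (h1 hv)).1).1 (mem_inf.1 hy).2
  refine mul_mem (mem_sup_right ?_) (mem_sup_left hv)
  rcases h.mem_or hr with h3 | h3
  · exact mem_sup_right ⟨h3, h2⟩
  · exact (mul_mem_cancel_left (mem_sup_left (mem_zpowers t))).1
      (mem_sup_right ⟨h3, mul_mem (h.t0 hf) h2⟩)

theorem Fr.exists_gf [IsSimpleGroup G] (h : Fr t L q a b) (h3 : 3 ∣ q)
    (ih : ∀ (X : Type u) [Group X] [Finite X] [IsSimpleGroup X], Nat.card X < Nat.card G →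
      ∀ (t : X) (L : Subgroup X) (q : ℕ), WJR t L q → JR.Hyp t L q) :
    ∃ (q' r s : ℤ) (c : JR.Cfg G), JR.GF q' r s c h.F := by
  obtain ⟨F, _, _, hF, ⟨e⟩⟩ := h.iso
  obtain ⟨p, -, n, hp, hn⟩ := FiniteField.card' F
  obtain rfl : 3 = p := (Nat.prime_dvd_prime_iff_eq Nat.prime_three hp).1
    (Nat.prime_three.dvd_of_dvd_pow (hn ▸ hF ▸ h3))
  obtain ⟨q', r, s, hpar, hq⟩ := JR.exists_par h.five_le h.mod hp (hF ▸ hn)
  obtain ⟨c, hc, hL⟩ := JR.exists_ld (F := F) hpar (hq.trans hF.symm)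
  have h1 := hL.map (L.subtype.comp e.symm.toMonoidHom) (L.subtype_injective.comp e.symm.injective)
  have h2 : (c.map (L.subtype.comp e.symm.toMonoidHom)).L = L := by
    simp only [JR.Cfg.map, hc, ← map_map]
    rw [map_top_of_surjective _ e.symm.surjective, ← MonoidHom.range_eq_map, range_subtype]
  generalize c.map (L.subtype.comp e.symm.toMonoidHom) = c at h1 h2
  obtain ⟨l, hl, h4⟩ := h.maxV.exists_conj_le h.hel.abTwo (Wal.Four.el h1.four)
    (h2 ▸ V_le h1.uL h1.vL)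
  have h5 : (c.conj l).L = L := h2 ▸ cj_eq_of_mem (h2 ▸ hl)
  have h6 : V (c.conj l).u (c.conj l).v ≤ V a b := (V_conj l c.u c.v).le.trans h4
  have h7 := h1.conj l
  generalize c.conj l = c at h5 h6 h7
  subst h5
  have hp : _root_.commutator G = ⊤ := BSW.commutator_eq_top_of_simple fun hc =>
    h.nonab ⟨⟨fun x y => Subtype.ext (hc.is_comm.comm _ _)⟩⟩
  refine ⟨q', r, s, { c with t := t }, { h7 with
    ot := h.ord, comm := fun _ hx => mem_cent1.1 (h.le hx), tL := h.notMem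
    oddF := odd_card_of_forall fun x hx e => absurd (e ▸ hx.2) (by norm_num)
    cycF := h.cyc _ (fun _ hx => hx.1)
      (odd_card_of_forall fun x hx e => absurd (e ▸ hx.2) (by norm_num))
    FS := fun x hx => centralizer_le (show ((V c.u c.v ⊔ zpowers t : Subgroup G) : Set G) ⊆
      SS t a b from sup_le (h6.trans le_sup_right) le_sup_left) hx.1
    FL := h.F_le.trans h.norm
    faith := eq_bot_of_forall fun x hx => h.eq_one hx.1 (mem_sup_left (h.cent.le ⟨h.F_le hx.1, hx.2⟩))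
    cent := fun g hg => ?_, odd := h.odd, simpleG := inferInstance, fix := fun f hf hk => ?_ }⟩
  · obtain ⟨x, hx, v, hv, rfl⟩ := h.dec (mem_cent1.2 hg)
    exact (h.mem_or hx).imp (fun h8 => mul_mem (mem_sup_left h8) (mem_sup_right hv))
      fun h8 => mul_assoc t x v ▸ mul_mem (mem_sup_left h8) (mem_sup_right hv)
  obtain ⟨m, e1, e2, hO, e3⟩ := h.red hf hp hk
  have e4 : (𝐂[t]).relIndex 𝐂[f] = m ^ 2 * (m ^ 2 - m + 1) := by
    rw [← h.index_bar hf hO]
    rcases e3 with ⟨rfl, -, e3⟩ | ⟨h8, h9⟩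
    · exact e3
    · obtain ⟨_, -, t', L', h10, e3⟩ := exists_jv h9
      rw [← e3]
      exact index_of_hyp h10 (ih _ ((card_le_card_group _).trans_lt (h.card_lt hf hO hk)) _ _ _ h10)
        h8.ne'
  refine ⟨m, e1.trans hq.symm, (congrArg (2 * ·) e2).trans two_mul_div, ?_,
    e4 ▸ h.dvd_relIndex hf hp hk⟩
  rw [← card_inf_mul_relIndex 𝐂[t] 𝐂[f], h.card_inf hf, e4, e2, two_mul_div, mul_assoc]
  congr 1
  rcases m with _ | m
  · simp
  rw [sq_sub_one, sq_sub_self, Nat.add_sub_cancel]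
  ring

/-- The absence of field automorphisms follows from the Ree case. -/
theorem hyp_of_box [hs : IsSimpleGroup G] (box : ∀ (X : Type u) [Group X] [Finite X] (q r s : ℤ)
    (c : JR.Cfg X) (F : Subgroup X), JR.GF q r s c F → F = ⊥) (h : WJR t L q) : JR.Hyp t L q := by
  induction hn : Nat.card G using Nat.strong_induction_on generalizing G q with
  | _ n ih =>
  obtain ⟨a, b, h'⟩ := exists_fr h
  by_cases h5 : q = 5
  · exact h'.hyp_of_prime (h5 ▸ Nat.prime_five)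
  obtain ⟨q', r, s, c, h1⟩ := h'.exists_gf (real h h5).1
    fun X _ _ _ h1 _ _ _ h2 => ih _ (hn ▸ h1) h2 rfl
  exact h'.hyp fun x hx => mem_bot.1 (box _ _ _ _ _ _ h1 ▸ hx)

end CfsgLib.H5.JB
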