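import Cfsg.Agent.Lib.Wal.Walter
import Cfsg.Agent.Lib.Wal.H5BFull
import Cfsg.Agent.Lib.JR.BEnd

/-!
# Walter's theorem with the exact Janko–Ree centralizer
-/

set_option autoImplicit false

namespace CfsgLib.Wal

open Subgroup Cfsg

universe u

/-- No field automorphisms in the centralizer of an involution of a group of Janko–Ree type. -/
theorem WJR.hyp {G : Type u} [Group G] [Finite G] [IsSimpleGroup G] {t : G} {L : Subgroup G}
    {q : ℕ} (h : WJR t L q) : JR.Hyp t L q :=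
  H5.JB.hyp_of_box (fun _ _ _ _ _ _ _ _ h => h.eq_bot) h

/-- **Walter's theorem**. -/
theorem walter (G : Type u) [Group G] [Finite G] [IsSimpleGroup G] (hna : ¬ IsMulCommutative G)
    (hab : H1.AbTwo G) :
    (∃ n : ℕ, 2 ≤ n ∧ Nonempty (G ≃* Matrix.SpecialLinearGroup (Fin 2) (GaloisField 2 n))) ∨
    (∃ (F : Type) (_ : Field F) (_ : Fintype F), 5 ≤ Fintype.card F ∧
      (Fintype.card F % 8 = 3 ∨ Fintype.card F % 8 = 5) ∧
      Nonempty (G ≃* Matrix.ProjectiveSpecialLinearGroup (Fin 2) F)) ∨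
    ∃ (t : G) (L : Subgroup G) (q : ℕ), JR.Hyp t L q :=
  (walter' G hna hab).imp_right (Or.imp_right fun ⟨t, L, q, h⟩ => ⟨t, L, q, h.hyp⟩)

end CfsgLib.Wal
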