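import Cfsg.Agent.Lib.Wal.Gen

/-!
# Bender's theorem on maximal subgroups
-/

set_option autoImplicit false

namespace CfsgLib.Wal

open Subgroup Cfsg CfsgLib.FT CfsgLib.FT.BGN CfsgLib.Cop CfsgLib.GW
open CfsgLib.H1 (AbTwo CharIn layerIn genFitIn dSub)
open CfsgLib.FT.U4 (mem_cent1 mem_cent1' mem_cent mem_cent1_comm cent1_conj
  eq_one_of_mem_inf eq_bot_of_forall conj_mem_conj_iff orderOf_conj)
open scoped commutatorElement

universe u

variable {G : Type*} [Group G] [Finite G] {p : ℕ} [hp : Fact p.Prime]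

omit [Finite G] in
theorem norm_ne_top [IsSimpleGroup G] {X : Subgroup G} (h0 : X ≠ ⊥) (h1 : X ≠ ⊤) : 𝐍(X) ≠ ⊤ :=
  fun e => ((normalizer_eq_top_iff.1 e).eq_bot_or_eq_top).elim h0 h1

omit [Finite G] in
theorem norm_le_of_coatom [IsSimpleGroup G] {M X : Subgroup G} (hM : IsCoatom M) (h0 : X ≠ ⊥)
    (h1 : X ≤ M) (h2 : M ≤ 𝐍(X)) : 𝐍(X) ≤ M :=
  ((hM.le_iff.1 h2).resolve_left
    (norm_ne_top h0 fun e => hM.1 (top_le_iff.1 (e ▸ h1)))).le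

omit [Finite G] in
theorem cent_le_of_coatom [IsSimpleGroup G] {M X Y : Subgroup G} (hM : IsCoatom M) (h0 : X ≠ ⊥)
    (h1 : X ≤ M) (h2 : M ≤ 𝐍(X)) (h3 : X ≤ Y) : 𝐂(Y) ≤ M :=
  ((centralizer_le h3).trans (cent_le_norm X)).trans (norm_le_of_coatom hM h0 h1 h2)

theorem cent_le_of_Zp [IsSimpleGroup G] {M Y : Subgroup G} (hM : IsCoatom M)
    (h0 : pCoreOf p M ≠ ⊥) (h3 : LD.Zp p M ≤ Y) : 𝐂(Y) ≤ M :=
  cent_le_of_coatom hM (LD.Zp_ne_bot h0) (inf_le_left.trans (H1.pCoreOf_le M))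
    (LD.le_norm_Zp p M) h3

omit [Finite G] in
theorem primPair_of_coatom [IsSimpleGroup G] {M N : Subgroup G} (hM : IsCoatom M)
    (hN : IsCoatom N) (h : M ≠ N) : H1.PrimPair M N :=
  ⟨h, fun _ h0 _ h1 h2 => inf_le_right.trans (norm_le_of_coatom hM h0 h1 h2),
    fun _ h0 _ h1 h2 => inf_le_right.trans (norm_le_of_coatom hN h0 h1 h2)⟩

theorem le_cent_genFit {K Y : Subgroup G} (h1 : ∀ J, TC K J → Y ≤ 𝐂(J))
    (h2 : ∀ (q : ℕ) [Fact q.Prime], Y ≤ 𝐂(pCoreOf q K)) : Y ≤ 𝐂(genFitIn K) := by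
  rw [H1.genFitIn_eq, cent_sup]
  exact le_inf (le_centralizer_iff.1 (H1.layerIn_le_iff.2 fun J a b =>
    le_centralizer_iff.1 (h1 J ⟨a, b⟩))) (LD.le_cent_fit h2)

theorem le_pc_of_cent {K Y : Subgroup G} (hY : IsPGroup p Y) (h0 : Y ≤ K)
    (h1 : ∀ J, TC K J → Y ≤ 𝐂(J)) (h2 : ∀ (q : ℕ) [Fact q.Prime], Y ≤ 𝐂(pCoreOf q K)) :
    Y ≤ pCoreOf p K := H1.le_pCoreOf_of_le_fittingOf
  ((le_inf h0 (le_cent_genFit h1 h2)).trans (H1.inf_centralizer_genFitIn_le K)) hY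

/-- `O ^ p (F^*(Y)) ≤ U`. -/
def Fc (p : ℕ) (Y U : Subgroup G) : Prop :=
  (∀ J, TC Y J → J ≤ U) ∧ ∀ (q : ℕ) [Fact q.Prime], q ≠ p → pCoreOf q Y ≤ U

theorem fc_cent {Y V : Subgroup G} (h : V ≤ pCoreOf p Y) : Fc p Y 𝐂(V) :=
  ⟨fun _ hJ => le_centralizer_iff.1 (h.trans (hJ.pc_le p)),
    fun _ _ hq => (LD.pc_le_cent hq Y).trans (centralizer_le h)⟩

namespace Fc
variable {Y U : Subgroup G} (h : Fc p Y U)
include h

omit [Finite G] hp in
theorem mono {W : Subgroup G} (h1 : U ≤ W) : Fc p Y W :=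
  ⟨fun J hJ => (h.1 J hJ).trans h1, fun q _ hq => (h.2 q hq).trans h1⟩

omit [Finite G] hp in
theorem inf {W : Subgroup G} (h1 : Fc p Y W) : Fc p Y (U ⊓ W) :=
  ⟨fun J hJ => le_inf (h.1 J hJ) (h1.1 J hJ), fun q _ hq => le_inf (h.2 q hq) (h1.2 q hq)⟩

theorem pq {V P : Subgroup G} (hV : IsPGroup p V) (hP : IsPGroup p P) (h1 : V ≤ 𝐍(P))
    (h2 : U ≤ 𝐍(P)) (h3 : Fc p Y 𝐂(V)) (h4 : P ⊓ 𝐂(V) ≤ Y) : Fc p Y 𝐂(P) :=
  ⟨fun J hJ => hJ.pq hV hP h1 ((h.1 J hJ).trans h2) (h3.1 J hJ) h4, fun q _ hq =>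
    le_centralizer_iff.1 (pxq hV hP
      (H1.coprime_card_of_isPGroup_of_ne hq (H1.pCoreOf_isPGroup Y)) h1 ((h.2 q hq).trans h2)
      (le_centralizer_iff.1 (h3.2 q hq)) (le_cent_of_norm_of_inf
        (h4.trans (H1.le_normalizer_pCoreOf Y)) (H1.le_normalizer_inf ((h.2 q hq).trans h2)
          (H1.le_normalizer_centralizer ((h3.2 q hq).trans (cent_le_norm _))))
        (disjoint_iff.1 (IsPGroup.disjoint_of_ne p q hq.symm _ _ hP.to_inf_left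
          (H1.pCoreOf_isPGroup Y)))))⟩

theorem charIn (hU : IsPGroup p U) : CharIn p Y := by
  have h1 : layerIn Y = ⊥ := le_bot_iff.1 (H1.layerIn_le_iff.2 fun J a b =>
    absurd (solvable_of_isPGroup (hU.to_le (h.1 J ⟨a, b⟩))) (TC.not_solv ⟨a, b⟩))
  have e : fittingOf Y = pCoreOf p Y := le_antisymm (H1.fittingOf_le_of_forall fun q _ => by
    by_cases hq : q = p
    · exact hq ▸ le_rfl
    · exact (le_inf (h.2 q hq) le_rfl).trans (disjoint_iff_inf_le.1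
        (IsPGroup.disjoint_of_ne p q (Ne.symm hq) _ _ hU (H1.pCoreOf_isPGroup Y)) |>.trans bot_le))
    (H1.pCoreOf_le_fittingOf p Y)
  simpa only [CharIn, ← e] using H1.inf_centralizer_fittingOf_le h1

theorem genFit_le (h1 : pCoreOf p Y ≤ U) : genFitIn Y ≤ U := by
  rw [H1.genFitIn_eq]
  refine sup_le (H1.layerIn_le_iff.2 fun J a b => h.1 J ⟨a, b⟩)
    (H1.fittingOf_le_of_forall fun q _ => ?_)
  by_cases hq : q = p
  · exact hq ▸ h1
  · exact h.2 q hq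

end Fc

theorem Fc.charIn_or [IsSimpleGroup G] {Y P : Subgroup G} (h : Fc p Y 𝐂(P)) (hY : IsCoatom Y) :
    CharIn p Y ∨ P ≤ Y := by
  refine or_iff_not_imp_right.2 fun hP => Fc.charIn (U := ⊥) ⟨fun J hJ => ?_, fun q _ hq => ?_⟩
    IsPGroup.of_bot
  · by_contra e
    exact hP ((le_centralizer_iff.1 (H1.layerIn_le_iff.2 fun J a b => h.1 J ⟨a, b⟩)).trans
      (cent_le_of_coatom hY (fun e' => e (e' ▸ H1.le_layerIn hJ.1 hJ.2)) (H1.layerIn_le Y)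
        (le_normalizer.trans (H1.normalizer_le_normalizer_layerIn Y)) le_rfl))
  · by_contra e
    exact hP ((le_centralizer_iff.1 (h.2 q hq)).trans (cent_le_of_coatom hY
      (fun e' => e e'.le) (H1.pCoreOf_le Y) (H1.le_normalizer_pCoreOf Y) le_rfl))

theorem charIn_fc {Y : Subgroup G} (h : CharIn p Y) : Fc p Y (pCoreOf p Y) :=
  ⟨fun _ hJ => (le_inf hJ.le (le_centralizer_iff.1 (hJ.pc_le p))).trans h, fun q _ hq =>
    (le_inf (H1.pCoreOf_le Y) (LD.pc_le_cent hq Y)).trans h⟩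

theorem charIn_not_tc {Y J : Subgroup G} (h : CharIn p Y) (hJ : TC Y J) : False :=
  hJ.not_solv (solvable_of_isPGroup ((H1.pCoreOf_isPGroup Y).to_le ((charIn_fc h).1 J hJ)))

theorem charIn_pc {Y : Subgroup G} (h : CharIn p Y) {q : ℕ} [Fact q.Prime] (hq : q ≠ p) :
    pCoreOf q Y = ⊥ :=
  le_bot_iff.1 ((le_inf le_rfl ((charIn_fc h).2 q hq)).trans (LD.pc_inf hq Y Y).le)

/-- Bender's theorem. -/
theorem bender [IsSimpleGroup G] {M N V : Subgroup G} (hM : IsCoatom M) (hN : IsCoatom N)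
    (h0 : V ≠ ⊥) (h1 : V ≤ pCoreOf p M) (h2 : V ≤ pCoreOf p N) (h3 : 𝐂(V) ≤ N)
    (h4 : Fc p N M) : M = N ∨ CharIn p M ∧ CharIn p N := by
  have hM0 : pCoreOf p M ≠ ⊥ := fun e => h0 (le_bot_iff.1 (e ▸ h1))
  have hpM := H1.pCoreOf_isPGroup (p := p) M
  have hpN := H1.pCoreOf_isPGroup (p := p) N
  have h5 : Fc p M N := (fc_cent h1).mono h3
  have a1 : Fc p N 𝐂(pCoreOf p M) := h4.pq (hpM.to_le h1) hpM (h1.trans le_normalizer)
    (H1.le_normalizer_pCoreOf M) (fc_cent h2) (inf_le_right.trans h3)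
  have a2 : Fc p M 𝐂(pCoreOf p N) := h5.pq (V := pCoreOf p M ⊓ N) hpM.to_inf_left hpN
    (inf_le_right.trans (H1.le_normalizer_pCoreOf N)) (H1.le_normalizer_pCoreOf N)
    (fc_cent inf_le_left) (inf_le_right.trans (cent_le_of_Zp hM hM0 (le_inf inf_le_left
      ((inf_le_right.trans (centralizer_le h1)).trans h3))))
  rcases a2.charIn_or hM with b1 | b1
  · exact Or.inr ⟨b1, ((h4.inf a1).mono b1).charIn hpM⟩
  rcases a1.charIn_or hN with b2 | b2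
  · exact Or.inr ⟨((h5.inf a2).mono b2).charIn hpN, b2⟩
  refine or_iff_not_imp_left.2 fun e => ?_
  obtain ⟨r, hr, c1, c2, -⟩ := (primPair_of_coatom hM hN e).bender (h5.genFit_le b2)
    (h4.genFit_le b1)
  haveI := Fact.mk hr
  obtain rfl : p = r := by_contra fun e' => hM0 (charIn_pc c1 e')
  exact ⟨c1, c2⟩

theorem pc_inf_eq_bot {K M V : Subgroup G} (h1 : V ≤ pCoreOf p K) (h2 : V ≤ M) (h3 : 𝐂(V) ≤ M)
    {q : ℕ} [Fact q.Prime] (hq : q ≠ p) (h : pCoreOf q K = ⊥) : pCoreOf q M ⊓ K = ⊥ := by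
  have hY : IsPGroup q ↥(pCoreOf q M ⊓ K) := (H1.pCoreOf_isPGroup M).to_inf_left
  have h4 := (fc_cent h1).mono h3
  have key : ∀ (r : ℕ) [Fact r.Prime], r ≠ q → ∀ W ≤ pCoreOf r K, W ≤ M →
      W ≤ 𝐂(pCoreOf q M ⊓ K) := fun r _ hr W a b => LD.le_cent_of_comm a
    (inf_le_right.trans (H1.le_normalizer_pCoreOf K)) inf_le_left
    (b.trans (H1.le_normalizer_pCoreOf M)) (LD.pc_inf hr K M)
  refine le_bot_iff.1 (h ▸ le_pc_of_cent hY inf_le_right (fun J hJ => hJ.cent inf_le_right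
    (solvable_of_isPGroup hY) (H1.le_normalizer_inf ((h4.1 J hJ).trans
      (H1.le_normalizer_pCoreOf M)) (hJ.le.trans le_normalizer))) fun r _ => ?_)
  refine le_centralizer_iff.1 ?_
  by_cases e : r = q
  · rw [e, h]; exact bot_le
  by_cases e' : r = p
  · subst e'
    exact pxq ((H1.pCoreOf_isPGroup K).to_le h1) (H1.pCoreOf_isPGroup K)
      (H1.coprime_card_of_isPGroup_of_ne hq hY) (h1.trans le_normalizer)
      (inf_le_right.trans (H1.le_normalizer_pCoreOf K)) (key r e V h1 h2)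
      (key r e _ inf_le_left (inf_le_right.trans h3))
  · exact key r e _ le_rfl (h4.2 r e')

/-- If `O_q(K) ≠ 1`, then `O_q(M) ≤ K`. -/
theorem pc_le_of_ne_bot [IsSimpleGroup G] {K M V : Subgroup G} (hK : IsCoatom K) (h0 : V ≠ ⊥)
    (h1 : V ≤ pCoreOf p K) (h3 : 𝐂(V) ≤ M) {q : ℕ} [Fact q.Prime] (hq : q ≠ p)
    (h : pCoreOf q K ≠ ⊥) : pCoreOf q M ≤ K :=
  (LD.L1 (A := K) (B := M) hq.symm (cent_le_of_coatom hK h (H1.pCoreOf_le K)
    (H1.le_normalizer_pCoreOf K) (le_inf le_rfl (((fc_cent h1).mono h3).2 q hq)))).trans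
    (cent_le_of_Zp hK (fun e => h0 (le_bot_iff.1 (e ▸ h1))) (le_inf inf_le_left
      ((inf_le_right.trans (centralizer_le h1)).trans h3)))

section charp
variable [IsSimpleGroup G] (hab : AbTwo G) (hp2 : p ≠ 2) {M : Subgroup G} (hM : IsCoatom M)
  (hc : CharIn p M) (h0 : M ≠ ⊥)
include hab hp2 hM hc h0

theorem norm_dSub_eq {S : Subgroup G} (hS : IsSylowIn p S M) : 𝐍(dSub S) = M := by
  have h := (H1.stableIn_of_abTwo hp2 (ab_sub hab M)).le_normalizer_dSub hc hS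
  exact le_antisymm (norm_le_of_coatom hM (H1.dSub_ne_bot hS.isPGroup fun e =>
    hc.pCoreOf_ne_bot h0 (le_bot_iff.1 (e ▸ H1.pCoreOf_le_sylow hS)))
    ((H1.dSub_le S).trans hS.le) h) h

theorem sylow_top_of_charIn {S : Subgroup G} (hS : IsSylowIn p S M) : IsSylowIn p S ⊤ :=
  sylow_of_norm' hS le_top (inf_le_right.trans
    ((H1.normalizer_le_normalizer_dSub S).trans (norm_dSub_eq hab hp2 hM hc h0 hS).le))

theorem exists_norm_dSub {S : Subgroup G} (hS : IsSylowIn p S ⊤) : ∃ g : G, 𝐍(dSub S) = g •ᶜ M := by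
  obtain ⟨T, hT⟩ := IsSylowIn.exists_in (p := p) M
  obtain ⟨g, -, rfl⟩ := hS.exists_conj_eq (sylow_top_of_charIn hab hp2 hM hc h0 hT)
  exact ⟨g, by rw [H1.dSub_map_conj, normalizer_map_conj, norm_dSub_eq hab hp2 hM hc h0 hT]⟩

omit hM hc h0 hp2 [IsSimpleGroup G] in
theorem exists_norm_conj {A : Subgroup G} (hA : MaxE A ⊤) (h1 : A ≤ M) {g : G} (h2 : A ≤ g •ᶜ M) :
    ∃ n ∈ 𝐍(A), g •ᶜ M = n •ᶜ M := by
  have h3 := (hA.mono h1 le_top).cj g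
  obtain ⟨k, hk, e⟩ := (hA.mono h2 le_top).exists_conj_eq hab h3
  rw [cj_cj] at e
  exact ⟨k * g, mem_normalizer_of_map_conj_eq e, by rw [← cj_cj, cj_eq_of_mem hk]⟩

theorem exists_conj_of_charIn {A N : Subgroup G} (hA : MaxE A ⊤) (h1 : A ≤ M) (hN : IsCoatom N)
    (hc' : CharIn p N) (h2 : A ≤ N) (h3 : N ≠ ⊥) : ∃ n ∈ 𝐍(A), N = n •ᶜ M := by
  obtain ⟨T, hT⟩ := IsSylowIn.exists_in (p := p) N
  obtain ⟨g, e⟩ := exists_norm_dSub hab hp2 hM hc h0 (sylow_top_of_charIn hab hp2 hN hc' h3 hT)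
  rw [norm_dSub_eq hab hp2 hN hc' h3 hT] at e
  subst e
  exact exists_norm_conj hab hA h1 h2

end charp

end CfsgLib.Wal
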