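import Cfsg.Agent.Lib.Wal.Shape

/-!
# Signalizer functors in a minimal counterexample
-/

set_option autoImplicit false

namespace CfsgLib.Wal

open Subgroup Cfsg CfsgLib.FT CfsgLib.FT.BGN CfsgLib.Cop CfsgLib.GW
open CfsgLib.H1 (AbTwo CharIn layerIn genFitIn dSub)
open CfsgLib.FT.U4 (mem_cent1 mem_cent1' mem_cent mem_cent1_comm cent1_conj
  eq_one_of_mem_inf eq_bot_of_forall conj_mem_conj_iff orderOf_conj)
open scoped commutatorElement

universe u

variable {G : Type*} [Group G] [Finite G]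

theorem sig {B : Subgroup G} (hB : El B) (h8 : 8 ≤ Nat.card B) (θ : G → Subgroup G)
    (h1 : ∀ a ∈ B, a ≠ 1 → θ a ≤ 𝐂[a]) (h2 : ∀ a ∈ B, a ≠ 1 → B ≤ 𝐍(θ a))
    (h3 : ∀ a ∈ B, a ≠ 1 → Odd (Nat.card (θ a)))
    (h4 : ∀ a ∈ B, a ≠ 1 → ∀ b ∈ B, b ≠ 1 → θ a ⊓ 𝐂[b] ≤ θ b) :
    ∃ W : Subgroup G, Odd (Nat.card W) ∧ B ≤ 𝐍(W) ∧ (∀ a ∈ B, a ≠ 1 → θ a ≤ W) ∧
      ∀ a ∈ B, a ≠ 1 → W ⊓ 𝐂[a] ≤ θ a := by
  have := Fact.mk Nat.prime_two
  obtain ⟨k, hk⟩ := hB.isPGroup.exists_card_eq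
  obtain ⟨W, a, b⟩ := Sig.complete_of_odd
    { r := 2, k := k, A := B, θ := θ, prime := Nat.prime_two, elem := hB.elem, card := hk
      three_le := (Nat.pow_le_pow_iff_right (by norm_num : 1 < 2)).1 (hk ▸ h8)
      le_cent := h1, norm := h2, cop := fun a ha h => Nat.coprime_two_right.2 (h3 a ha h)
      solv := fun a ha h => solvable_of_odd (h3 a ha h), bal := h4 } fun a ha => h3 a ha.1 ha.2
  exact ⟨W, Nat.coprime_two_right.1 a.cop, a.norm, fun x hx h => b x ⟨hx, h⟩,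
    fun x hx h => a.le x ⟨hx, h⟩⟩

theorem mem_norm_of_le {g : G} {H : Subgroup G} (h : g •ᶜ H ≤ H) : g ∈ 𝐍(H) :=
  mem_normalizer_of_map_conj_eq (eq_of_le_of_card_ge h
    (card_map_of_injective (MulAut.conj g).injective).ge)

omit [Finite G] in
theorem odd_cj {H : Subgroup G} (h : Odd (Nat.card H)) (g : G) : Odd (Nat.card (g •ᶜ H)) := by
  rwa [card_map_of_injective (MulAut.conj g).injective]

omit [Finite G] in
theorem le_norm_cj' {A H : Subgroup G} {g : G} (h : A ≤ 𝐍(H)) (hg : g ∈ 𝐍(A)) :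
    A ≤ 𝐍(g •ᶜ H) := (map_conj_eq_of_mem_normalizer hg).ge.trans (le_norm_cj h)

theorem El.norm_cent {A B : Subgroup G} (hA : El A) (h : B ≤ A) : A ≤ 𝐍(𝐂(B)) :=
  (hA.le_cent' le_rfl h).trans le_normalizer

theorem El.norm_cent1 {A : Subgroup G} (hA : El A) {a : G} (h : a ∈ A) : A ≤ 𝐍(𝐂[a]) :=
  (hA.le_cent1 h).trans le_normalizer

theorem Ctx.exists_real {A : Subgroup G} (h : Ctx A) : ∃ T D J, Real A T D J := by
  by_contra e
  push Not at e
  have h1 : ∀ a ∈ A, a ≠ 1 → ∀ Q ≤ 𝐂[a], Odd (Nat.card Q) → A ≤ 𝐍(Q) → Q ≤ Od 𝐂[a] :=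
    fun a ha a1 Q b c d => (h.gdc a1).le_Od (h.mc ha) b c d fun L hL =>
      absurd (h.real ha a1 hL) (e _ _ _)
  have h2 : ∀ a ∈ A, A ≤ 𝐍(Od 𝐂[a]) := fun a ha => (h.el.le_cent1 ha).trans (le_norm_Od _)
  obtain ⟨W, w1, w2, w3, -⟩ := sig h.el h.eight (fun a => Od 𝐂[a]) (fun _ _ _ => Od_le _)
    (fun a ha _ => h2 a ha) (fun _ _ _ => odd_Od _) fun a ha _ b hb b1 => h1 b hb b1 _ inf_le_right
      (odd_card_of_le (odd_Od _) inf_le_left) (H1.le_normalizer_inf (h2 a ha) (h.el.norm_cent1 hb))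
  have h3 : 𝐍(A) ≤ 𝐍(W) := fun n hn => mem_norm_of_le (gen_pt h.el h.four (odd_cj w1 n)
    (le_norm_cj' w2 hn) fun a ha a1 => (h1 a ha a1 _ inf_le_right
      (odd_card_of_le (odd_cj w1 n) inf_le_left)
      (H1.le_normalizer_inf (le_norm_cj' w2 hn) (h.el.norm_cent1 ha))).trans (w3 a ha a1))
  obtain ⟨a, ha, a1⟩ := exists_ne_one_of_card (h.four.trans' (by norm_num : 2 ≤ 4))
  exact h.se 𝐍(A ⊔ W) (h.norm_ne (ne_bot_of_mem (mem_sup_left ha) a1)
    (isSolvable_sup w2 h.el.solv (solvable_of_odd w1))) (H1.le_normalizer_sup le_rfl h3)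
    fun x hx x1 => h.gen hx x1 (((w3 x hx x1).trans le_sup_right).trans le_normalizer)
      (H1.le_normalizer_sup le_rfl h3) fun L hL => absurd (h.real hx x1 hL) (e _ _ _)

/-- `Δ(B)`. -/
def dl (B : Subgroup G) : Subgroup G := ⨅ (x : G) (_ : x ∈ B) (_ : x ≠ 1), Od 𝐂[x]

omit [Finite G] in
theorem le_dl {B Q : Subgroup G} : Q ≤ dl B ↔ ∀ x ∈ B, x ≠ 1 → Q ≤ Od 𝐂[x] := by
  simp only [dl, le_iInf_iff]

omit [Finite G] in
theorem dl_le {B : Subgroup G} {x : G} (hx : x ∈ B) (h : x ≠ 1) : dl B ≤ Od 𝐂[x] :=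
  le_dl.1 le_rfl x hx h

omit [Finite G] in
theorem dl_anti {B C : Subgroup G} (h : B ≤ C) : dl C ≤ dl B :=
  le_dl.2 fun _ hx h1 => dl_le (h hx) h1

theorem cj_dl_le (g : G) (B : Subgroup G) : g •ᶜ dl B ≤ dl (g •ᶜ B) := le_dl.2 (by
  rintro _ ⟨x, hx, rfl⟩ h
  change _ ≤ Od 𝐂[g * x * g⁻¹]
  rw [cent1_conj, Od_conj]
  exact map_mono (dl_le hx fun e => h (by simp [e])))

theorem norm_le_norm_dl (B : Subgroup G) : 𝐍(B) ≤ 𝐍(dl B) := fun g hg =>
  mem_norm_of_le ((cj_dl_le g B).trans (by rw [map_conj_eq_of_mem_normalizer hg]))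

theorem odd_dl {B : Subgroup G} (h : 4 ≤ Nat.card B) : Odd (Nat.card (dl B)) :=
  let ⟨_, hb, h1⟩ := exists_ne_one_of_card (h.trans' (by norm_num : 2 ≤ 4))
  odd_card_of_le (odd_Od _) (dl_le hb h1)

theorem dl_le_cent (B : Subgroup G) : dl B ≤ 𝐂(B) := fun y hy => mem_cent.2 fun x hx => by
  by_cases e : x = 1
  · simp [e]
  · exact mem_cent1'.1 (Od_le _ (dl_le hx e hy))

/-- `Δ(B) O(C(A))`. -/
def lam (A B : Subgroup G) : Subgroup G := dl B ⊔ Od 𝐂(A)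

section lam
variable {A B : Subgroup G} (hB : B ≤ A)
include hB

theorem cent_le_norm_dl : 𝐂(A) ≤ 𝐍(dl B) :=
  (centralizer_le hB).trans ((cent_le_norm B).trans (norm_le_norm_dl B))

theorem cent_le_norm_lam : 𝐂(A) ≤ 𝐍(lam A B) :=
  H1.le_normalizer_sup (cent_le_norm_dl hB) (le_norm_Od _)

theorem lam_le_cent : lam A B ≤ 𝐂(B) :=
  sup_le (dl_le_cent B) ((Od_le _).trans (centralizer_le hB))

theorem odd_lam (h : 4 ≤ Nat.card B) : Odd (Nat.card (lam A B)) :=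
  LD.odd_sup ((Od_le _).trans (cent_le_norm_dl hB)) (odd_Od _) (odd_dl h)

theorem comm_lam (hA : El A) : ⁅lam A B, A⁆ ≤ dl B := by
  rw [commutator_comm]
  exact H1.commutator_sup_le le_normalizer ((Od_le _).trans (cent_le_norm_dl hB))
    (comm_le_right (hA.le_cent.trans (cent_le_norm_dl hB)))
    ((comm_eq_bot_iff.2 (le_centralizer_iff.1 (Od_le _))).le.trans bot_le)

end lam

theorem cj_lam_le {A : Subgroup G} {g : G} (hg : g ∈ 𝐍(A)) (B : Subgroup G) :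
    g •ᶜ lam A B ≤ lam A (g •ᶜ B) := by
  rw [lam, cj_sup]
  exact sup_le_sup (cj_dl_le g B) (map_conj_eq_of_mem_normalizer
    (norm_le_norm_Od _ (U4.norm_le_norm_cent A hg))).le

theorem le_norm_comm {Q A : Subgroup G} (h : A ≤ 𝐍(Q)) : A ≤ 𝐍(⁅Q, A⁆) :=
  le_normalizer_commutator h le_normalizer

namespace Ctx
variable {A : Subgroup G} (h : Ctx A)
include h

theorem comm_le_Od {B Y X : Subgroup G} (hB : B ≤ A) (h4 : 4 ≤ Nat.card B)
    (ho : Odd (Nat.card Y)) (hn : A ≤ 𝐍(Y)) (h1 : ⁅Y, A⁆ ≤ dl B) (hX : X ≠ ⊤) (hA : A ≤ X)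
    (h2 : Y ≤ X) : ⁅Y, A⁆ ≤ Od X := by
  obtain ⟨b, hb, c, hc, h5⟩ := (h.el.mono hB).exists_four' h4
  rw [← comm_comm h.el ho hn]
  exact (h.gd X hX).lemD (h.mx hA) h5 ((V_le hb hc).trans hB) ((U4.comm_le_left hn).trans h2)
    (le_norm_comm hn) fun x hx x1 => h1.trans (dl_le (V_le hb hc hx) x1)

theorem lam_inf {B C : Subgroup G} (hB : B ≤ A) (h4 : 4 ≤ Nat.card B) (hC : C ≤ A) :
    lam A B ⊓ 𝐂(C) ≤ lam A C := by
  have ho := odd_card_of_le (odd_lam hB h4) (inf_le_left (b := 𝐂(C)))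
  have hn := H1.le_normalizer_inf (h.el.le_cent.trans (cent_le_norm_lam hB)) (h.el.norm_cent hC)
  rw [← comm_sup_cent h.el ho hn]
  refine sup_le_sup (le_dl.2 fun x hx x1 => h.comm_le_Od hB h4 ho hn
    ((commutator_mono inf_le_left le_rfl).trans (comm_lam hB h.el)) (h.cent1_ne x1)
    (h.el.le_cent1 (hC hx)) (inf_le_right.trans (cent_le_cent1 hx)))
    (le_Od inf_le_right (H1.le_normalizer_inf (H1.le_normalizer_inf (cent_le_norm_lam hB)
      ((centralizer_le hC).trans le_normalizer)) le_normalizer) (odd_card_of_le ho inf_le_left))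

theorem exists_wa (h16 : 16 ≤ Nat.card A) {a : G} (ha : a ∈ A) (a1 : a ≠ 1) :
    ∃ W : Subgroup G, Odd (Nat.card W) ∧ A ≤ 𝐍(W) ∧ W ≤ 𝐂[a] ∧
      ∀ b ∈ A, Four a b → lam A (V a b) ≤ W ∧ W ⊓ 𝐂[b] ≤ lam A (V a b) := by
  obtain ⟨E, -, ⟨e1, e2⟩, e3⟩ := Finite.exists_le_maximal
    (p := fun E : Subgroup G => E ≤ A ∧ a ∉ E) (a := ⊥) ⟨bot_le, fun e => a1 (mem_bot.1 e)⟩
  have e4 : ∀ x ∈ A, x ∈ E ∨ a * x ∈ E := fun x hx => or_iff_not_imp_left.2 fun e => by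
    have : a ∈ E ⊔ zpowers x := by_contra fun e' => e (e3 ⟨sup_le e1 (zpowers_le.2 hx), e'⟩
      le_sup_left (mem_sup_right (mem_zpowers x)))
    obtain ⟨y, hy, z, hz, rfl⟩ := h.el.mem_sup e1 (zpowers_le.2 hx) this
    rcases h.el.mem_zp hx hz with rfl | rfl
    · exact absurd (by rwa [mul_one]) e2
    · rwa [mul_assoc, h.el z hx, mul_one]
  have e5 : E ⊔ zpowers a = A := le_antisymm (sup_le e1 (zpowers_le.2 ha)) fun x hx =>
    (e4 x hx).elim mem_sup_left fun e => by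
      have := mul_mem (mem_sup_right (S := E) (mem_zpowers a)) (mem_sup_left e)
      rwa [← mul_assoc, h.el a ha, one_mul] at this
  have e6 := Hy.card ⟨e1, a, ha, e5⟩ h.el
  have f4 : ∀ b ∈ E, b ≠ 1 → Four a b := fun b hb b1 =>
    h.el.four ha (e1 hb) a1 b1 fun e => e2 (e ▸ hb)
  have fv : ∀ b ∈ E, V a b ≤ A := fun b hb => V_le ha (e1 hb)
  obtain ⟨W, w1, w2, w3, w4⟩ := sig (h.el.mono e1) (by omega) (fun b => lam A (V a b))
    (fun b hb _ => (lam_le_cent (fv b hb)).trans (cent_le_cent1 (s_mem_V a b)))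
    (fun b hb _ => e1.trans (h.el.le_cent.trans (cent_le_norm_lam (fv b hb))))
    (fun b hb b1 => odd_lam (fv b hb) (f4 b hb b1).card_V.ge)
    fun b hb b1 c hc _ => le_trans (le_inf inf_le_left (by
      rw [cent_V]
      exact inf_le_inf_right _ ((lam_le_cent (fv b hb)).trans (cent_le_cent1 (t_mem_V a b)))))
      (h.lam_inf (fv b hb) (f4 b hb b1).card_V.ge (fv c hc))
  have w5 : W ≤ 𝐂[a] := gen_pt (h.el.mono e1) (by omega) w1 w2 fun b hb b1 =>
    (w4 b hb b1).trans ((lam_le_cent (fv b hb)).trans (cent_le_cent1 (t_mem_V a b)))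
  refine ⟨W, w1, e5 ▸ sup_le w2 (zpowers_le.2 (cent_le_norm _ (mem_cent_cent1 w5))), w5,
    fun b hb h4 => (e4 b hb).elim (fun e => ⟨w3 b e h4.s1, w4 b e h4.s1⟩) fun e => ?_⟩
  rw [← h4.V_mul]
  refine ⟨w3 _ e h4.ts1, le_trans (b := W ⊓ 𝐂[a * b]) (fun x hx => ⟨hx.1, mem_cent1.2 ?_⟩)
    (w4 _ e h4.ts1)⟩
  rw [← mul_assoc, mem_cent1.1 (w5 hx.1), mul_assoc, mem_cent1.1 hx.2, mul_assoc]

end Ctx

/-- The completion of the signalizer functor. -/
structure Wst (A W : Subgroup G) : Prop where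
  odd : Odd (Nat.card W)
  norm : 𝐍(A) ≤ 𝐍(W)
  le : ∀ B ≤ A, 4 ≤ Nat.card B → dl B ≤ W
  comm : ∀ B ≤ A, 4 ≤ Nat.card B → ⁅W ⊓ 𝐂(B), A⁆ ≤ dl B

theorem Ctx.exists_wst {A : Subgroup G} (h : Ctx A) (h16 : 16 ≤ Nat.card A) : ∃ W, Wst A W := by
  choose! θ t1 t2 t3 t4 using fun a ha a1 => h.exists_wa h16 (a := a) ha a1
  obtain ⟨W, w1, w2, w3, w4⟩ := sig h.el h.eight θ t3 t2 t1 fun a ha a1 b hb b1 => by
    by_cases e : a = b
    · exact e ▸ inf_le_left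
    have h4 := h.el.four ha hb a1 b1 e
    exact (t4 a ha a1 b hb h4).2.trans (V_comm a b ▸ (t4 b hb b1 a ha h4.symm).1)
  have l1 : ∀ a ∈ A, ∀ b ∈ A, Four a b → lam A (V a b) ≤ W := fun a ha b hb h4 =>
    (t4 a ha h4.t1 b hb h4).1.trans (w3 a ha h4.t1)
  have l2 : ∀ a ∈ A, ∀ b ∈ A, Four a b → W ⊓ 𝐂(V a b) ≤ lam A (V a b) := fun a ha b hb h4 => by
    rw [cent_V, ← inf_assoc]
    exact (inf_le_inf_right _ (w4 a ha h4.t1)).trans (t4 a ha h4.t1 b hb h4).2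
  refine ⟨W, w1, fun n hn => mem_norm_of_le (gen_hy h.el (odd_cj w1 n) (le_norm_cj' w2 hn)
    fun E hE => ?_), fun B hB h4 => ?_, fun B hB h4 => le_dl.2 fun x hx x1 => ?_⟩
  · have := hE.card h.el
    obtain ⟨a, ha, b, hb, h4⟩ := (h.el.mono hE.1).exists_four' (by omega)
    have c := fun x (hx : x ∈ E) => conj_mem_of_mem_normalizer (inv_mem hn) (hE.1 hx)
    refine le_trans ?_ (l1 a (hE.1 ha) b (hE.1 hb) h4)
    have := (map_mono (l2 _ (c a ha) _ (c b hb) (h4.conj _))).trans (cj_lam_le hn _)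
    rw [map_conj_inf, ← centralizer_map_conj, V_conj, map_conj_map_conj_inv] at this
    exact (inf_le_inf_left _ (centralizer_le (V_le ha hb))).trans this
  · obtain ⟨a, ha, b, hb, h4⟩ := (h.el.mono hB).exists_four' h4
    exact (dl_anti (V_le ha hb)).trans (le_sup_left.trans (l1 a (hB ha) b (hB hb) h4))
  · obtain ⟨b, hb, h4⟩ := (h.el.mono hB).exists_four h4 hx x1
    exact ((commutator_mono ((inf_le_inf_left _ (centralizer_le (V_le hx hb))).trans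
      (l2 x (hB hx) b (hB hb) h4)) le_rfl).trans (comm_lam (V_le (hB hx) (hB hb)) h.el)).trans
      (dl_le (t_mem_V x b) x1)

theorem comm_le_comm {Y A E K : Subgroup G} (hA : El A) (ho : Odd (Nat.card Y)) (hn : A ≤ 𝐍(Y))
    (hE : E ≤ A) (h : ⁅Y, A⁆ ≤ K) : ⁅Y, E⁆ ≤ ⁅K, E⁆ := commutator_le.2 fun y hy e he => by
  obtain ⟨n, hn', c, hc, rfl⟩ :=
    exists_commutator_mul_centralizer hn (hA.coprime ho) (Or.inl hA.solv) hy
  have : ⁅n * c, e⁆ = ⁅n, e⁆ := by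
    have := mem_cent.1 hc.2 e (hE he)
    calc ⁅n * c, e⁆ = n * (c * e) * c⁻¹ * n⁻¹ * e⁻¹ := by simp only [commutatorElement_def]; group
      _ = _ := by rw [← this]; simp only [commutatorElement_def]; group
  rw [this]
  exact commutator_mem_commutator (h hn') he

namespace Wst
variable {A W : Subgroup G} (w : Wst A W) (h : Ctx A)
include w

omit [Finite G] in
theorem an : A ≤ 𝐍(W) := le_normalizer.trans w.norm

omit [Finite G] in
theorem normP (p : ℕ) : 𝐍(A) ≤ 𝐍(pCoreOf p W) :=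
  w.norm.trans (H1.normalizer_le_normalizer_pCoreOf W)

omit [Finite G] in
theorem anP (p : ℕ) : A ≤ 𝐍(pCoreOf p W) := le_normalizer.trans (w.normP p)

theorem oddP (p : ℕ) : Odd (Nat.card (pCoreOf p W)) := odd_card_of_le w.odd (H1.pCoreOf_le W)

include h

theorem norm_comm {E : Subgroup G} (hE : E ≤ A) (h8 : 8 ≤ Nat.card E) : 𝐍(E) ≤ 𝐍(⁅W, E⁆) :=
  fun g hg => mem_norm_of_le (cj_le_iff.2 (comm_hy (h.el.mono hE) (h.el.mono hE) w.odd
    (hE.trans w.an) (hE.trans w.an) (le_norm_cj' (le_norm_comm (hE.trans w.an)) (inv_mem hg))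
    fun B hB => by
      have c := hB.card (h.el.mono hE)
      have hB' := hB.1.trans hE
      refine (comm_le_comm h.el (odd_card_of_le w.odd inf_le_left)
        (H1.le_normalizer_inf w.an (h.el.norm_cent hB')) hE (w.comm B hB' (by omega))).trans
        (cj_le_iff.1 ?_)
      rw [cj_commutator, map_conj_eq_of_mem_normalizer hg]
      exact commutator_mono ((cj_dl_le g B).trans (w.le _ ((cj_le_of_norm hB.1 hg).trans hE)
        (by rw [card_map_of_injective (MulAut.conj g).injective]; omega))) le_rfl))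

theorem norm_commP (p : ℕ) {E : Subgroup G} (hE : E ≤ A) (h8 : 8 ≤ Nat.card E) :
    𝐍(E) ≤ 𝐍(⁅pCoreOf p W, E⁆) := by
  have h1 : ⁅W, E⁆ ≤ W := U4.comm_le_left (hE.trans w.an)
  have : ⁅pCoreOf p W, E⁆ = ⁅pCoreOf p ⁅W, E⁆, E⁆ := by
    refine le_antisymm ?_ (commutator_mono (H1.pCoreOf_le_of_le_normalizer h1
      (normalizer_commutator_ge_left _ _)) le_rfl)
    rw [← comm_comm (h.el.mono hE) (w.oddP p) (hE.trans (w.anP p))]
    exact commutator_mono ((le_inf (U4.comm_le_left (hE.trans (w.anP p)))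
      (commutator_mono (H1.pCoreOf_le W) le_rfl)).trans (H1.pCoreOf_inf_le h1)) le_rfl
  rw [this]
  exact le_normalizer_commutator ((w.norm_comm h hE h8).trans
    (H1.normalizer_le_normalizer_pCoreOf _)) le_rfl

theorem comm_le_Od {X Y : Subgroup G} (hX : X ≠ ⊤) (hA : A ≤ X) (h1 : Y ≤ W) (h2 : Y ≤ X)
    (hn : A ≤ 𝐍(Y)) : ⁅Y, A⁆ ≤ Od X :=
  comm_hy h.el h.el (odd_card_of_le w.odd h1) hn hn (hA.trans (le_norm_Od X)) fun E hE => by
    have c := hE.card h.el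
    have := h.eight
    exact h.comm_le_Od hE.1 (by omega) (odd_card_of_le w.odd (inf_le_left.trans h1))
      (H1.le_normalizer_inf hn (h.el.norm_cent hE.1))
      ((commutator_mono (inf_le_inf_right _ h1) le_rfl).trans (w.comm E hE.1 (by omega))) hX hA
      (inf_le_left.trans h2)

theorem robust (h16 : 16 ≤ Nat.card A) {p : ℕ} [Fact p.Prime] (hp2 : p ≠ 2) {X : Subgroup G}
    (hX : X ≠ ⊤) (hA : A ≤ X) : ⁅pCoreOf p W ⊓ X, A⁆ ≤ pCoreOf p X := by
  have hP := H1.pCoreOf_isPGroup (p := p) W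
  have n1 := H1.le_normalizer_inf (w.anP p) (hA.trans le_normalizer)
  have n2 := H1.le_normalizer_inf (w.anP p) (hA.trans (le_norm_Od X))
  have o2 := odd_card_of_le (w.oddP p) (inf_le_left (b := Od X))
  rw [← comm_comm h.el (odd_card_of_le (w.oddP p) inf_le_left) n1]
  refine (commutator_mono (le_inf ((U4.comm_le_left n1).trans inf_le_left) (w.comm_le_Od h hX hA
    (inf_le_left.trans (H1.pCoreOf_le W)) inf_le_right n1)) le_rfl).trans
    (comm_le_of_forall fun a ha => ?_)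
  have za := zpowers_le.2 ha
  have l1 := U4.comm_le_left (za.trans n2)
  rw [← comm_comm (el_zpowers (h.el a ha)) o2 (za.trans n2)]
  refine (Sig.commutator_zpowers_le_pCoreOf Nat.prime_two (by rw [pow_two, h.el a ha])
    (solvable_Od X) (Nat.coprime_two_right.2 (odd_Od X)) (za.trans (hA.trans (le_norm_Od X)))
    (hP.to_le (l1.trans inf_le_left)) (l1.trans inf_le_right) (le_norm_comm (za.trans n2))
    (gen_hy' h.el (odd_card_of_le (odd_Od X) inf_le_left)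
      (H1.le_normalizer_inf (hA.trans (le_norm_Od X)) (h.el.norm_cent za)) ha
      (inf_le_right.trans (cent_zpowers a).le) fun E hE haE => ?_) fun _ _ _ => hp2).trans
    (H1.pCoreOf_le_of_le_normalizer (Od_le X) (le_norm_Od X))
  have c := hE.card h.el
  have e : ⁅pCoreOf p W ⊓ Od X, zpowers a⁆ = ⁅⁅pCoreOf p W, E⁆ ⊓ Od X, zpowers a⁆ := by
    refine le_antisymm ?_ (commutator_mono
      (inf_le_inf_right _ (U4.comm_le_left (hE.1.trans (w.anP p)))) le_rfl)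
    rw [← comm_comm (el_zpowers (h.el a ha)) o2 (za.trans n2)]
    exact commutator_mono (le_inf (commutator_mono inf_le_left (zpowers_le.2 haE))
      (l1.trans inf_le_right)) le_rfl
  rw [e]
  exact le_normalizer_commutator (H1.le_normalizer_inf ((inf_le_right.trans (cent_le_norm E)).trans
    (w.norm_commP h p hE.1 (by omega))) (inf_le_left.trans (inf_le_left.trans le_normalizer)))
    (inf_le_left.trans (inf_le_right.trans (cent_le_norm _)))

end Wst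

end CfsgLib.Wal
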