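import Cfsg.Agent.Lib.Wal.Real
import Cfsg.Agent.Lib.Suz.Huppert

/-!
# A minimal counterexample to Walter's theorem: the shape of the `2`-components
-/

set_option autoImplicit false

namespace CfsgLib.Wal

open Subgroup Cfsg CfsgLib.FT CfsgLib.FT.BGN CfsgLib.Cop CfsgLib.GW
open CfsgLib.H1 (AbTwo CharIn layerIn genFitIn dSub)
open CfsgLib.FT.U4 (mem_cent1 mem_cent1' mem_cent mem_cent1_comm cent1_conj
  eq_one_of_mem_inf eq_bot_of_forall conj_mem_conj_iff orderOf_conj)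
open scoped commutatorElement

universe u

variable {G : Type*} [Group G] [Finite G]

open scoped IsMulCommutative in
theorem hup (hab : AbTwo G) {A : Subgroup G} (hA : MaxE A ⊤)
    (htr : ∀ u ∈ A, ∀ v ∈ A, u ≠ 1 → v ≠ 1 → ∃ n ∈ 𝐍(A), n * u * n⁻¹ = v) {d : G} (hd : d ∈ A)
    (h1 : d ≠ 1) {m : ℕ} (hm : Nat.card A = 2 ^ m) (h0 : 0 < m) :
    (∀ t ∈ A, ∃ f : ℕ → G, ∀ n ∈ 𝐍(A) ⊓ 𝐂[d], ∃ j < m, n * t * n⁻¹ = f j) ∧
      ∀ n ∈ 𝐍(A) ⊓ 𝐂[d], n ^ m ∈ 𝐂(A) := by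
  classical
  have := Fact.mk Nat.prime_two
  have := hA.el.mulComm
  have : Nontrivial A := ⟨⟨⟨d, hd⟩, 1, fun h => h1 (congrArg Subtype.val h)⟩⟩
  have ho : Odd (Nat.card A.normalizerMonoidHom.range) := by
    rw [← index_ker, normalizerMonoidHom_ker]
    exact hA.odd_relIndex hab (K := 𝐂(A)) inf_le_right (inf_le_right.trans (cent_le_norm A)) le_top
  obtain ⟨F, i1, i2, i3, e, a1, a2, a3⟩ := Suz.huppert_field (r := 2)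
    (φ := A.normalizerMonoidHom.range.subtype) ho (solvable_of_odd ho)
    (fun v => Subtype.ext (by change (v : G) ^ 2 = 1; rw [sq]; exact hA.el v v.2))
    (Nat.coprime_two_right.2 ho) fun a b ha hb => by
      obtain ⟨n, hn, h⟩ := htr a a.2 b b.2 (fun h => ha (Subtype.ext h)) fun h => hb (Subtype.ext h)
      exact ⟨⟨_, ⟨n, hn⟩, rfl⟩, Subtype.ext h⟩
  have e1 : e 1 = 0 := by
    have := a2 1 1
    rw [mul_one] at this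
    exact left_eq_add.1 this
  have ed : e ⟨d, hd⟩ ≠ 0 := fun h => h1 (congrArg Subtype.val (a1.1 (h.trans e1.symm)))
  have hc : Fintype.card F = 2 ^ m := by
    rw [← hm, ← Nat.card_eq_fintype_card, Nat.card_eq_of_bijective e a1]
  have hp : ∀ (x : F) (k : ℕ), x ^ 2 ^ (m * k) = x := fun x k => by
    rw [pow_mul, ← hc, FiniteField.pow_card_pow]
  have key : ∀ n (hn : n ∈ 𝐍(A) ⊓ 𝐂[d]), ∃ j, ∀ v (hv : v ∈ A),
      e ⟨n * v * n⁻¹, conj_mem_of_mem_normalizer hn.1 hv⟩ / e ⟨d, hd⟩ =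
        (e ⟨v, hv⟩ / e ⟨d, hd⟩) ^ 2 ^ j := fun n hn => by
    obtain ⟨c, j, -, h⟩ := a3 ⟨_, ⟨n, hn.1⟩, rfl⟩
    have h2 : e ⟨d, hd⟩ = c * e ⟨d, hd⟩ ^ 2 ^ j := by
      rw [← h]; congr 1
      exact Subtype.ext (by
        change d = n * d * n⁻¹
        rw [mem_cent1.1 hn.2, mul_inv_cancel_right])
    refine ⟨j, fun v hv => ?_⟩
    have h3 : e ⟨n * v * n⁻¹, conj_mem_of_mem_normalizer hn.1 hv⟩ = c * e ⟨v, hv⟩ ^ 2 ^ j :=
      h ⟨v, hv⟩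
    rw [h3, div_pow, div_eq_div_iff ed (pow_ne_zero _ ed)]
    linear_combination (-e ⟨v, hv⟩ ^ 2 ^ j) * h2
  refine ⟨fun t ht => ⟨fun j =>
    ((Function.invFun e ((e ⟨t, ht⟩ / e ⟨d, hd⟩) ^ 2 ^ j * e ⟨d, hd⟩) : A) : G),
    fun n hn => ?_⟩, fun n hn => mem_cent.2 fun v hv => ?_⟩
  · obtain ⟨j, h⟩ := key n hn
    refine ⟨j % m, Nat.mod_lt _ h0, ?_⟩
    have := h t ht
    rw [← Nat.div_add_mod j m, pow_add, pow_mul, hp] at this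
    simp only
    rw [← this, div_mul_cancel₀ _ ed, Function.leftInverse_invFun a1.1]
  · obtain ⟨j, h⟩ := key n hn
    have h2 : ∀ k : ℕ, e ⟨n ^ k * v * (n ^ k)⁻¹, conj_mem_of_mem_normalizer (pow_mem hn.1 k) hv⟩ /
        e ⟨d, hd⟩ = (e ⟨v, hv⟩ / e ⟨d, hd⟩) ^ 2 ^ (k * j) := fun k => by
      induction k with
      | zero => simp
      | succ k ih =>
        rw [add_mul, one_mul, pow_add 2, pow_mul, ← ih, ← h]
        congr 3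
        rw [pow_succ']; group
    have h3 := h2 m
    rw [hp, div_left_inj' ed] at h3
    exact (mul_inv_eq_iff_eq_mul.1 (congrArg Subtype.val (a1.1 h3))).symm

theorem Gd.le_Od {X A Q : Subgroup G} (hX : Gd X) (hA : MaxE A X) (hQ : Q ≤ X)
    (ho : Odd (Nat.card Q)) (hn : A ≤ 𝐍(Q)) (h : ∀ L, Cp X L → Q ≤ cm X L) : Q ≤ Od X := by
  rw [← comm_sup_cent hA.el ho hn]
  exact sup_le (comm_le_of_forall fun a ha => hX.kill' hA hQ ho hn ha fun L hL => Or.inr (h L hL))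
    (hX.kill2 hA (inf_le_left.trans hQ) (odd_card_of_le ho inf_le_left) inf_le_right
      fun L hL => inf_le_left.trans (h L hL))

omit [Finite G] in
theorem mem_cent_cent1 {X : Subgroup G} {d : G} (h : X ≤ 𝐂[d]) : d ∈ 𝐂(X) := le_cent1_iff.1 h

theorem Cp.mem_cm {L : Subgroup G} {d : G} (h : Cp 𝐂[d] L) : d ∈ cm 𝐂[d] L :=
  inf_cent_le_cm ⟨U4.self_mem_cent1 d, mem_cent_cent1 h.le⟩

/-- A minimal counterexample of `2`-rank at least `3`. -/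
structure Ctx (A : Subgroup G) : Prop where
  simple : IsSimpleGroup G
  nonab : ¬ IsMulCommutative G
  ab : AbTwo G
  gd : ∀ X : Subgroup G, X ≠ ⊤ → Gd X
  max : MaxE A ⊤
  eight : 8 ≤ Nat.card A
  se : ∀ M : Subgroup G, M ≠ ⊤ → 𝐍(A) ≤ M → (∀ x ∈ A, x ≠ 1 → 𝐂[x] ≤ M) → False

namespace Ctx
variable {A : Subgroup G} (h : Ctx A)
include h

omit [Finite G] in
theorem el : El A := h.max.el

omit [Finite G] in
theorem four : 4 ≤ Nat.card A := h.eight.trans' (by norm_num)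

omit [Finite G] in
theorem mx {X : Subgroup G} (hX : A ≤ X) : MaxE A X := h.max.mono hX le_top

omit [Finite G] in
theorem not_solv : ¬ Group.IsSolvable (⊤ : Subgroup G) :=
  haveI := h.simple
  not_solv_of_simple topEquiv.isSimpleGroup fun hc =>
    h.nonab ⟨⟨fun a b => congrArg Subtype.val (hc.is_comm.comm ⟨a, trivial⟩ ⟨b, trivial⟩)⟩⟩

omit [Finite G] in
theorem norm_ne {X : Subgroup G} (h0 : X ≠ ⊥) (hs : Group.IsSolvable X) : 𝐍(X) ≠ ⊤ :=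
  haveI := h.simple
  norm_ne_top h0 fun e => h.not_solv (e ▸ hs)

theorem norm_ne' {p : ℕ} [Fact p.Prime] {X : Subgroup G} (h0 : X ≠ ⊥) (hs : IsPGroup p X) :
    𝐍(X) ≠ ⊤ := h.norm_ne h0 (solvable_of_isPGroup hs)

theorem cent1_ne {x : G} (h1 : x ≠ 1) : 𝐂[x] ≠ ⊤ := fun e =>
  h.norm_ne (X := zpowers x) (fun e => h1 (zpowers_eq_bot.1 e))
    (solv_of_le_cent (zpowers_le.2 ((cent_zpowers x).ge (U4.self_mem_cent1 x))))
    (top_le_iff.1 (norm_zp e.ge))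

theorem cent_ne {B : Subgroup G} (h1 : B ≠ ⊥) : 𝐂(B) ≠ ⊤ := fun e =>
  let ⟨_, hb, h2⟩ := exists_mem_ne_one h1
  h.cent1_ne h2 (top_le_iff.1 (e.ge.trans (cent_le_cent1 hb)))

theorem gdc {x : G} (h1 : x ≠ 1) : Gd 𝐂[x] := h.gd _ (h.cent1_ne h1)

omit [Finite G] in
theorem mc {x : G} (hx : x ∈ A) : MaxE A 𝐂[x] := h.mx (h.el.le_cent1 hx)

theorem Od_top : Od (⊤ : Subgroup G) = ⊥ :=
  haveI := h.simple
  Od_of_simple topEquiv.isSimpleGroup fun hc =>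
    h.nonab ⟨⟨fun a b => congrArg Subtype.val (hc.is_comm.comm ⟨a, trivial⟩ ⟨b, trivial⟩)⟩⟩

theorem nf {B : Subgroup G} (hB : B ≤ A) {x : G} (hx : x ∈ A)
    (hn : ∀ n ∈ 𝐍(A), n * x * n⁻¹ * x⁻¹ ∈ B) : x ∈ B := by
  obtain ⟨b, hb, h1⟩ := h.max.avg h.ab (N := 𝐍(A)) (le_inf le_top le_rfl) hB hx hn
  have h2 : x * b = 1 := by_contra fun e => h.cent1_ne e (top_le_iff.1 fun g _ => mem_cent1.2 (by
    have := h.max.zstar h.ab (mul_mem hx (hB hb)) (by rwa [top_inf_eq]) (mem_top g)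
    rw [h.Od_top, mem_bot, mul_inv_eq_one] at this
    exact mul_inv_eq_iff_eq_mul.1 this))
  rw [eq_inv_of_mul_eq_one_left h2]
  exact inv_mem hb

theorem real {x : G} (hx : x ∈ A) (h1 : x ≠ 1) {L : Subgroup G} (hL : Cp 𝐂[x] L) :
    Real A (A ⊓ L) (A ⊓ cm 𝐂[x] L) (jc 𝐂[x] A L) :=
  (h.gdc h1).real (h.mc hx) hL (ne_bot_of_mem ⟨hx, hL.mem_cm⟩ h1)

theorem gen {x : G} (hx : x ∈ A) (h1 : x ≠ 1) {M : Subgroup G} (a : Od 𝐂[x] ≤ M) (b : 𝐍(A) ≤ M)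
    (c : ∀ L, Cp 𝐂[x] L → jc 𝐂[x] A L ≤ M) : 𝐂[x] ≤ M :=
  (h.gdc h1).gen (h.mc hx) a (fun L hL => ((h.gdc h1).le_sup_jc (h.mc hx) hL).trans
    (sup_le a (c L hL))) (inf_le_right.trans b)

theorem loc {T D : Subgroup G} (hm : Mx A T D) {d : G} (hd : d ∈ D) (h1 : d ≠ 1) :
    ∃ L, Cp 𝐂[d] L ∧ A ⊓ L = T ∧ A ⊓ cm 𝐂[d] L = D := by
  obtain ⟨J, hJ⟩ := hm.1
  obtain ⟨L, hL, a, b⟩ := (h.gdc h1).exists_cp (h.mc (hJ.le2 hd)) h.max hJ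
    (hJ.cent.trans (cent_le_cent1 hd))
  exact ⟨L, hL, hm.eq h.el (h.real (hJ.le2 hd) h1 hL) a b⟩

theorem pair {T D T' D' : Subgroup G} (hm : Mx A T D) (hm' : Mx A T' D') {d : G} (hd : d ∈ D)
    (hd' : d ∈ D') (h1 : d ≠ 1) : T = T' ∧ D = D' ∨ T ≤ D' ∧ T' ≤ D := by
  obtain ⟨L, hL, rfl, rfl⟩ := h.loc hm hd h1
  obtain ⟨L', hL', rfl, rfl⟩ := h.loc hm' hd' h1
  by_cases e : L = L'
  · exact Or.inl ⟨e ▸ rfl, e ▸ rfl⟩
  · exact Or.inr ⟨inf_le_inf_left A ((hL.eq_or_le hL').resolve_left e),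
      inf_le_inf_left A ((hL'.eq_or_le hL).resolve_left (Ne.symm e))⟩

theorem sup_eq {T D J T' D' J' : Subgroup G} (a : Real A T D J) (b : Real A T' D' J')
    (h0 : D ⊓ D' = ⊥) : T ⊔ T' = A := by
  have hB : T ⊔ T' ≤ A := sup_le a.le1 b.le1
  refine le_antisymm hB fun x hx => ?_
  have hN : J ⊓ 𝐍(T) ⊔ J' ⊓ 𝐍(T') ≤ 𝐍(A) := sup_le a.norm b.norm
  have c1 : ⁅A, J ⊓ 𝐍(T)⁆ ≤ T ⊔ T' := commutator_comm _ A ▸ commutator_le.2 fun g hg y hy =>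
    mem_sup_left (a.comm_mem h.max hg hy)
  have c2 : ⁅A, J' ⊓ 𝐍(T')⁆ ≤ T ⊔ T' := commutator_comm _ A ▸ commutator_le.2 fun g hg y hy =>
    mem_sup_right (b.comm_mem h.max hg hy)
  have c3 := H1.commutator_sup_le
    (le_normalizer_of_commutator_le ((commutator_mono hB le_rfl).trans c1) le_rfl)
    (le_normalizer_of_commutator_le ((commutator_mono hB le_rfl).trans c2) le_rfl) c1 c2
  rw [commutator_comm] at c3
  obtain ⟨y, hy, h1⟩ := h.max.avg h.ab (le_inf le_top hN) hB hx fun n hn =>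
    c3 (commutator_mem_commutator hn hx)
  have h2 := mul_mem hx (hB hy)
  have h3 := eq_one_of_mem_inf h0 (a.fix h.max h.ab h2 fun n hn => mul_inv_eq_iff_eq_mul.2
    (mem_cent.1 h1 n (mem_sup_left hn))) (b.fix h.max h.ab h2 fun n hn => mul_inv_eq_iff_eq_mul.2
    (mem_cent.1 h1 n (mem_sup_right hn)))
  rw [eq_inv_of_mul_eq_one_left h3]
  exact inv_mem hy

end Ctx

/-- The generic shape. -/
structure Sa (A : Subgroup G) : Prop where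
  four : ∀ T D J, Real A T D J → 4 ≤ Nat.card D
  mx : ∀ T D T' D' J', Mx A T D → Real A T' D' J' → T' ≤ T ∧ D ≤ D' ∨ T' ≤ D ∧ T ≤ D'

/-- The Janko–Ree shape. -/
structure Sb (A : Subgroup G) : Prop where
  card : Nat.card A = 8
  tr : ∀ u ∈ A, ∀ v ∈ A, u ≠ 1 → v ≠ 1 → ∃ n ∈ 𝐍(A), n * u * n⁻¹ = v
  ex : ∃ T D J, Real A T D J

namespace Ctx
variable {A : Subgroup G} (h : Ctx A) {T D J : Subgroup G} (hR : Real A T D J)
  (hm : ∀ T' D' J', Real A T' D' J' → Nat.card T' ≤ Nat.card T)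
include h hR hm

omit h in
theorem mx_of_max : Mx A T D :=
  ⟨⟨J, hR⟩, fun _ _ _ a b _ => (eq_of_le_of_card_ge b (hm _ _ _ a)).ge⟩

theorem sa (hc : ∀ n ∈ 𝐍(A), n •ᶜ T = T ∧ n •ᶜ D = D ∨ n •ᶜ T ≤ D ∧ T ≤ n •ᶜ D) : Sa A := by
  have h4 : 4 ≤ Nat.card D := by
    by_contra e
    obtain ⟨d, hd, h1⟩ := exists_mem_ne_one hR.ne
    refine h1 (mem_bot.1 (h.nf bot_le (hR.le2 hd) fun n hn => mem_bot.2 (mul_inv_eq_one.2 ?_)))
    rcases hc n hn with a | a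
    · by_contra e'
      have := (h.el.mono hR.le2).four (a.2 ▸ conj_mem_map_conj hd) hd
        (U4.conj_ne_one_iff.2 h1) h1 e'
      exact e (this.card_V ▸ card_le_of_le (V_le (a.2 ▸ conj_mem_map_conj hd) hd))
    · exact absurd ((hR.cj hn).four.trans (card_le_of_le a.1)) e
  have h0 : ∀ T' D' J', Real A T' D' J' → T' ≤ T ∧ D ≤ D' ∨ T' ≤ D ∧ T ≤ D' := fun T' D' J' a =>
    a.sup2 h.max h.ab (P := fun T₁ D₁ => ∃ n ∈ 𝐍(A), T₁ = n •ᶜ T ∧ D₁ = n •ᶜ D)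
      (by rintro _ _ ⟨n, hn, rfl, rfl⟩; exact ⟨(hR.cj hn).toDec, (hR.cj hn).four⟩)
      (by
        rintro g hg _ _ ⟨n, hn, rfl, rfl⟩
        exact ⟨g * n, mul_mem (a.norm hg) hn, cj_cj _ _ _, cj_cj _ _ _⟩)
      (by
        rintro _ _ _ _ ⟨n, hn, rfl, rfl⟩ ⟨k, hk, rfl, rfl⟩
        have e : ∀ U : Subgroup G, n •ᶜ U = k •ᶜ (k⁻¹ * n) •ᶜ U := fun U => by
          rw [cj_cj, mul_inv_cancel_left]
        rw [e T, e D, cj_inj, cj_inj, cj_le_cj_iff, cj_le_cj_iff]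
        exact hc _ (mul_mem (inv_mem hk) hn))
      ⟨1, one_mem _, (map_conj_one _).symm, (map_conj_one _).symm⟩
  have h1 : ∀ T₁ D₁, Mx A T₁ D₁ → T₁ = T ∧ D₁ = D ∨ T₁ ≤ D ∧ T ≤ D₁ := fun T₁ D₁ a =>
    let ⟨_, b⟩ := a.1
    (h0 _ _ _ b).imp_left fun c => let e := a.eq h.el hR c.1 c.2; ⟨e.1.symm, e.2.symm⟩
  refine ⟨fun T' D' J' a => h4.trans (Nat.le_of_mul_le_mul_left (c := Nat.card T) ?_
    Nat.card_pos), fun T₁ D₁ T' D' J' a b => b.sup2 h.max h.ab (P := Mx A)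
      (fun _ _ c => let ⟨_, c⟩ := c.1; ⟨c.toDec, c.four⟩) (fun g hg _ _ c => c.cj (b.norm hg))
      (fun T₁ D₁ T₂ D₂ c d => ?_) a⟩
  · rw [hR.card h.el, ← a.card h.el]
    exact Nat.mul_le_mul_right _ (hm _ _ _ a)
  obtain ⟨t, ht, h2⟩ := hR.exists_ne_one
  rcases h1 _ _ c with ⟨rfl, rfl⟩ | c' <;> rcases h1 _ _ d with ⟨rfl, rfl⟩ | d'
  · exact Or.inl ⟨rfl, rfl⟩
  · exact Or.inr d'.symm
  · exact Or.inr c'
  · exact h.pair c d (c'.2 ht) (d'.2 ht) h2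

theorem tr_of (hc : ¬ ∀ n ∈ 𝐍(A), n •ᶜ T = T ∧ n •ᶜ D = D ∨ n •ᶜ T ≤ D ∧ T ≤ n •ᶜ D) :
    (∀ u ∈ A, ∀ v ∈ A, u ≠ 1 → v ≠ 1 → ∃ n ∈ 𝐍(A), n * u * n⁻¹ = v) ∧
      Nat.card A ≤ Nat.card T * Nat.card T := by
  have hM := mx_of_max hR hm
  obtain ⟨t, ht, ht1⟩ := hR.exists_ne_one
  -- the orbit of `t`
  let O : G → Prop := fun y => ∃ n ∈ 𝐍(A), n * t * n⁻¹ = y
  have oc : ∀ {y g : G}, O y → g ∈ 𝐍(A) → O (g * y * g⁻¹) := by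
    rintro _ g ⟨n, hn, rfl⟩ hg
    exact ⟨g * n, mul_mem hg hn, by group⟩
  let F : Subgroup G → Subgroup G → Subgroup G → Prop := fun T₁ D₁ J₁ =>
    Real A T₁ D₁ J₁ ∧ Mx A T₁ D₁ ∧ ∀ y ∈ T₁, y ≠ 1 → O y
  have f0 : F T D J := ⟨hR, hM, fun y hy h1 =>
    let ⟨n, hn, e⟩ := hR.trans h.max h.ab ht hy ht1 h1; ⟨n, hR.norm hn, e⟩⟩
  have fc : ∀ {T₁ D₁ J₁ g}, F T₁ D₁ J₁ → g ∈ 𝐍(A) → F (g •ᶜ T₁) (g •ᶜ D₁) (g •ᶜ J₁) := by
    refine fun a hg => ⟨a.1.cj hg, a.2.1.cj hg, ?_⟩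
    rintro _ ⟨y, hy, rfl⟩ h1
    exact oc (a.2.2 y hy fun e => h1 (by simp [e])) hg
  have pr : ∀ {T₁ D₁ J₁ T₂ D₂ J₂}, F T₁ D₁ J₁ → F T₂ D₂ J₂ →
      (T₁ = T₂ ∧ D₁ = D₂ ∨ T₁ ≤ D₂ ∧ T₂ ≤ D₁) ∨ D₁ ⊓ D₂ = ⊥ := fun a b =>
    or_iff_not_imp_right.2 fun e =>
      let ⟨_, hd, h1⟩ := exists_mem_ne_one e; h.pair a.2.1 b.2.1 hd.1 hd.2 h1
  have b0 : ∀ {T₁ D₁ J₁ T₂ D₂ J₂}, F T₁ D₁ J₁ → F T₂ D₂ J₂ → D₁ ⊓ D₂ = ⊥ → ∀ y ∈ A, y ∉ D₁ →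
      O y ∨ T₁ ⊓ T₂ = ⊥ ∧ D₁ ⊓ T₂ ≠ ⊥ := fun {T₁ D₁ J₁ T₂ D₂ J₂} a b e y hy h1 => by
    obtain ⟨s, hs, d, hd, rfl⟩ := a.1.dec h.el hy
    have s1 : s ≠ 1 := fun e => h1 (by rwa [e, one_mul])
    have key : ∀ r ∈ T₁, r ≠ 1 → r * d ∈ T₂ → O (s * d) := fun r hr r1 h2 => by
      obtain ⟨n, hn, e'⟩ := a.1.trans' h.max h.ab hr hs r1 s1 hd
      exact e' ▸ oc (b.2.2 _ h2 fun e'' => r1 (a.1.eq_one hr
        (eq_inv_of_mul_eq_one_left e'' ▸ inv_mem hd))) (a.1.norm hn)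
    by_cases d1 : d = 1
    · exact Or.inl (by rw [d1, mul_one]; exact a.2.2 s hs s1)
    obtain ⟨r, hr, r', hr', e'⟩ := h.el.mem_sup a.1.le1 b.1.le1
      ((h.sup_eq a.1 b.1 e).ge (a.1.le2 hd))
    by_cases r1 : r = 1
    · rw [r1, one_mul] at e'
      refine or_iff_not_imp_right.2 fun c => ?_
      obtain ⟨z, hz, z1⟩ := exists_mem_ne_one fun c' => c ⟨c', ne_bot_of_mem ⟨hd, e' ▸ hr'⟩ d1⟩
      exact key z hz.1 z1 (mul_mem hz.2 (e' ▸ hr'))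
    · exact Or.inl (key r hr r1 (by rwa [← e', ← mul_assoc, h.el r (a.1.le1 hr), one_mul]))
  have b1 : ∀ {T₁ D₁ J₁ T₂ D₂ J₂}, F T₁ D₁ J₁ → F T₂ D₂ J₂ → D₁ ⊓ D₂ = ⊥ → T₁ ⊓ T₂ ≠ ⊥ →
      ∀ y ∈ A, y ≠ 1 → O y := fun {T₁ D₁ J₁ T₂ D₂ J₂} a b e e' y hy h1 => by
    by_cases c : y ∈ D₁
    · exact (b0 b a (inf_comm D₁ D₂ ▸ e) y hy fun c' =>
        h1 (eq_one_of_mem_inf e c c')).resolve_right fun c => e' (inf_comm T₂ T₁ ▸ c.1)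
    · exact (b0 a b e y hy c).resolve_right fun c => e' c.1
  have b2 : ∀ {T₁ D₁ J₁ T₂ D₂ J₂}, F T₁ D₁ J₁ → F T₂ D₂ J₂ → D₁ ⊓ D₂ = ⊥ →
      ¬ (T₁ ≤ D₂ ∧ T₂ ≤ D₁) → ∀ y ∈ A, y ∉ D₁ → O y := fun {T₁ D₁ J₁ T₂ D₂ J₂} a b e e' y hy h1 => by
    refine (b0 a b e y hy h1).elim id fun ⟨c1, c2⟩ => ?_
    obtain ⟨d, hd, d1⟩ := exists_mem_ne_one c2
    by_contra c
    have : ∀ g ∈ J₁ ⊓ 𝐍(T₁), g •ᶜ T₂ = T₂ ∧ g •ᶜ D₂ = D₂ := fun g hg => by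
      have h2 : d ∈ g •ᶜ T₂ := by
        have := conj_mem_map_conj (g := g) hd.2
        rwa [← mem_cent.1 (a.1.cent hg.1) d hd.1, mul_inv_cancel_right] at this
      rcases pr (fc b (a.1.norm hg)) b with (h3 | h3) | h3
      · exact h3
      · exact absurd (b.1.eq_one hd.2 (h3.1 h2)) d1
      · exact absurd (b1 (fc b (a.1.norm hg)) b h3 (ne_bot_of_mem ⟨h2, hd.2⟩ d1) y hy
          fun e => h1 (e ▸ one_mem _)) c
    rcases a.1.nl h.max h.ab b.1.toDec (fun g hg => mem_normalizer_of_map_conj_eq (this g hg).1)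
      (fun g hg => mem_normalizer_of_map_conj_eq (this g hg).2) with h3 | h3
    · exact a.1.not_le ((le_inf le_rfl h3.1).trans (c1.le.trans bot_le))
    · exact e' h3
  push Not at hc
  obtain ⟨n, hn, c1, c2⟩ := hc
  have f1 := fc f0 hn
  have e := (pr f1 f0).resolve_left fun c => c.elim (fun c => c1 c.1 c.2) fun c => c2 c.1 c.2
  have all : ∀ y ∈ A, y ≠ 1 → O y := fun y hy h1 => by
    by_cases c : y ∈ D
    · exact b2 f1 f0 e (fun c => c2 c.1 c.2) y hy fun c' => h1 (eq_one_of_mem_inf e c' c)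
    · exact b2 f0 f1 (inf_comm _ D ▸ e) (fun c => c2 c.2 c.1) y hy c
  refine ⟨fun u hu v hv u1 v1 => ?_, ?_⟩
  · obtain ⟨a, ha, rfl⟩ := all u hu u1
    obtain ⟨b, hb, rfl⟩ := all v hv v1
    exact ⟨b * a⁻¹, mul_mem hb (inv_mem ha), by group⟩
  · have := h.el.card_sup f1.1.le1 hR.le1
    rw [h.sup_eq f1.1 hR e, card_map_of_injective (MulAut.conj n).injective] at this
    exact this ▸ Nat.le_mul_of_pos_right _ Nat.card_pos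

theorem sb (hc : ¬ ∀ n ∈ 𝐍(A), n •ᶜ T = T ∧ n •ᶜ D = D ∨ n •ᶜ T ≤ D ∧ T ≤ n •ᶜ D) : Sb A := by
  have := Fact.mk Nat.prime_two
  obtain ⟨h1, h2⟩ := h.tr_of hR hm hc
  obtain ⟨m, hm'⟩ := h.el.isPGroup.exists_card_eq
  obtain ⟨k, hk⟩ := (hR.el h.max).isPGroup.exists_card_eq
  obtain ⟨d, hd, d1⟩ := exists_mem_ne_one hR.ne
  have m3 : 3 ≤ m := (Nat.pow_le_pow_iff_right (by norm_num : 1 < 2)).1 (hm' ▸ h.eight)
  have k2 : 2 ≤ k := (Nat.pow_le_pow_iff_right (by norm_num : 1 < 2)).1 (hk ▸ hR.four)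
  obtain ⟨a, b⟩ := hup h.ab h.max h1 (hR.le2 hd) d1 hm' (by omega)
  obtain ⟨t, ht, s, hs, h4⟩ := (hR.el h.max).exists_four' hR.four
  have hH : J ⊓ 𝐍(T) ≤ 𝐍(A) ⊓ 𝐂[d] :=
    le_inf hR.norm (inf_le_left.trans (hR.cent.trans (cent_le_cent1 hd)))
  obtain ⟨f, hf⟩ := a t (hR.le1 ht)
  have c1 : Nat.card T ≤ m + 1 := by
    have : (T : Set G) ⊆ insert 1 (f '' Set.Iio m) := fun y hy => by
      by_cases e : y = 1
      · exact Or.inl e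
      obtain ⟨n, hn, rfl⟩ := hR.trans h.max h.ab ht hy h4.t1 e
      obtain ⟨j, hj, e'⟩ := hf n (hH hn)
      exact Or.inr ⟨j, hj, e'.symm⟩
    calc Nat.card T = (T : Set G).ncard := rfl
      _ ≤ _ := Set.ncard_le_ncard this
      _ ≤ _ := Set.ncard_insert_le _ _
      _ ≤ m + 1 := Nat.add_le_add_right ((Set.ncard_image_le (Set.finite_Iio m)).trans
        (by simp)) 1
  rw [hm', hk, ← pow_add, Nat.pow_le_pow_iff_right (by norm_num)] at h2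
  have c2 : k = 2 := by
    by_contra e
    obtain ⟨j, rfl⟩ := Nat.exists_eq_add_of_le (show 3 ≤ k by omega)
    have := j.lt_two_pow_self
    rw [hk, pow_add] at c1
    omega
  have c3 : m ≠ 4 := fun e => by
    obtain ⟨n, hn, e'⟩ := hR.trans h.max h.ab ht hs h4.t1 h4.s1
    have c4 := b n (hH hn)
    rw [e, show 4 = 2 * 2 from rfl, pow_mul, pow_two, pow_two] at c4
    have := mem_cent.1 (mem_of_sq h.ab h.max le_rfl (hR.norm hn) (mem_of_sq h.ab h.max le_rfl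
      (mul_mem (hR.norm hn) (hR.norm hn)) c4)) t (hR.le1 ht)
    rw [← this, mul_inv_cancel_right] at e'
    exact h4.ne e'
  exact ⟨by rw [hm', show m = 3 by omega]; rfl, h1, T, D, J, hR⟩

end Ctx

theorem Ctx.shape {A : Subgroup G} (h : Ctx A) (h1 : ∃ T D J, Real A T D J) : Sa A ∨ Sb A := by
  obtain ⟨T, D, J, hR⟩ := h1
  obtain ⟨T, ⟨D, J, hR⟩, hm⟩ := Set.exists_max_image {T : Subgroup G | ∃ D J, Real A T D J}
    (fun T => Nat.card T) (Set.toFinite _) ⟨T, D, J, hR⟩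
  exact (em _).imp (h.sa hR fun _ _ _ a => hm _ ⟨_, _, a⟩) (h.sb hR fun _ _ _ a => hm _ ⟨_, _, a⟩)

end CfsgLib.Wal
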