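import Cfsg.Agent.Lib.Wal.ThreeB

/-!
# Rank three: the centralizer of an involution is of Janko–Ree type
-/

set_option autoImplicit false

namespace CfsgLib.Wal

open Subgroup Cfsg CfsgLib.FT CfsgLib.FT.BGN CfsgLib.Cop CfsgLib.GW
open CfsgLib.H1 (AbTwo CharIn layerIn genFitIn dSub)
open CfsgLib.FT.U4 (mem_cent1 mem_cent1' mem_cent mem_cent1_comm cent1_conj
  eq_one_of_mem_inf eq_bot_of_forall conj_mem_conj_iff orderOf_conj)
open scoped commutatorElement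

universe u

theorem Od_le_cent {G : Type*} [Group G] [Finite G] {H E : Subgroup G} (hE : El E) (h : E ≤ H)
    (hp : ∀ (q : ℕ) [Fact q.Prime], q ≠ 2 → pCoreOf q H ≤ 𝐂(E)) : Od H ≤ 𝐂(E) := by
  have n := h.trans (le_norm_Od H)
  have k : ∀ (q : ℕ) [Fact q.Prime], pCoreOf q (Od H) ≤ 𝐂(E) := fun q _ => by
    by_cases e : q = 2
    · subst e
      exact (eq_bot_of_odd_of_two (odd_card_of_le (odd_Od H) (H1.pCoreOf_le _))
        (H1.pCoreOf_isPGroup _) le_rfl).le.trans bot_le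
    · exact (H1.le_pCoreOf ((H1.pCoreOf_le _).trans (Od_le H)) ((le_norm_Od H).trans
        (H1.normalizer_le_normalizer_pCoreOf _)) (H1.pCoreOf_isPGroup _)).trans (hp q e)
  have k' : fittingOf (Od H) ≤ 𝐂(E) := H1.fittingOf_le_of_forall k
  exact le_cent_of_comm_comm hE (odd_Od H) n (((le_inf (commutator_le_left_of_le_normalizer n)
    ((commutator_mono le_rfl (le_centralizer_iff.1 k')).trans (comm_le_right
      ((le_norm_fittingOf _).trans (U4.norm_le_norm_cent _))))).trans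
    (cent_sub_Fitting (solvable_Od H))).trans k')

variable {G : Type u} [Group G] [Finite G]

namespace M3
variable {A : Subgroup G} (h : M3 A)
include h

theorem sup_eq {B : Subgroup G} (hB : B ≤ A) (h4 : 4 ≤ Nat.card B) {x : G} (hx : x ∈ A)
    (h1 : x ∉ B) : B ⊔ zpowers x = A := by
  have a := sup_le hB (zpowers_le.2 hx)
  have b := card_lt' (lt_of_le_of_ne (le_sup_left (b := zpowers x))
    fun e => h1 (e.ge (mem_sup_right (mem_zpowers x))))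
  obtain ⟨k, hk⟩ := card_dvd_of_le a
  refine eq_of_le_of_card_ge a ?_
  rw [h.sb.card] at hk ⊢
  rcases k with _ | _ | k <;> nlinarith

variable {a : G} (ha : a ∈ A) (a1 : a ≠ 1)
include ha a1

theorem coatom : IsCoatom 𝐂[a] := by
  obtain ⟨M, m1, m2⟩ := LD.exists_max (h.ctx.cent1_ne a1)
  have := Od_le_cent (el_zpowers (h.ctx.el a ha)) (zpowers_le.2 (h.le_of_cent ha m2 ha))
    fun q _ e => by
      by_contra hc
      exact C1.elim ⟨h, ha, a1, m1, m2, e, U4.cent_zpowers a ▸ hc⟩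
  rwa [le_antisymm m2 ((h.le_sup ha a1 m1.1 m2).trans
    (sup_le (U4.cent_zpowers a ▸ this) le_rfl))]

theorem Od_of_cent (h1 : Od 𝐂[a] ≤ 𝐂(A)) : Od 𝐂[a] = ⊥ := by
  by_contra h0
  have c := h.ctx
  have g := c.gdc a1
  have m := c.mc ha
  obtain ⟨L, l⟩ := h.loc ha a1 (c.cent1_ne a1) le_rfl
  obtain ⟨b, hb, b1⟩ := g.exists_ne_one m l.cp
  obtain ⟨n, hn, e⟩ := h.sb.tr a ha b hb.1 a1 b1
  have e1 : Od 𝐂[b] = n •ᶜ Od 𝐂[a] := by rw [← e, ← cj_cent1, Od_conj]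
  have h2 : Od 𝐂[b] ≤ 𝐂(A) := e1 ▸ cj_le_of_norm h1 (U4.norm_le_norm_cent _ hn)
  have h3 := h2.trans (cent_le_cent1 ha)
  have h4 : Od 𝐂[b] = Od 𝐂[a] := eq_of_le_of_card_ge (g.kill2 m h3 (odd_Od _) h2 fun L' hL' =>
    l.uniq _ hL' ▸ g.cm_of_cent m l.cp l.four hb b1 h3 (odd_Od _)
      (h2.trans (centralizer_le inf_le_left)) ((ct_le_cent1 b).trans (le_norm_Od _)))
    (by rw [e1, card_map_conj])
  exact b1 (g.eq_one l.cp (c.el b hb.1) hb.2 (h.two_cent ha a1 (c.norm_ne h0 (solvable_Od _))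
    (le_norm_Od _) hb.1 b1 (h4 ▸ le_norm_Od _) ▸ l.mem_cm))

theorem inf_cent_le {P : Subgroup G} (hn : 𝐂[a] ≤ 𝐍(P)) (h1 : P ≤ 𝐂[a]) (h2 : ¬ P ≤ 𝐂(A)) :
    A ⊓ 𝐂(P) ≤ zpowers a := by
  have c := h.ctx
  obtain ⟨T, J, r⟩ := h.real ha a1
  refine (r.le_or_le c.max c.ab inf_le_left (H1.le_normalizer_inf r.norm
    ((inf_le_left.trans ((U4.cent_zpowers a ▸ r.cent).trans hn)).trans
      (U4.norm_le_norm_cent P)))).resolve_left fun e => h2 (le_centralizer_iff.1 ?_)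
  exact r.sup ▸ sup_le (e.trans inf_le_right) (zpowers_le.2 (mem_cent_cent1 h1))

theorem pc_le {p : ℕ} [hp : Fact p.Prime] (hp2 : p ≠ 2) : pCoreOf p 𝐂[a] ≤ 𝐂(A) := by
  by_contra h0
  have c := h.ctx
  have := c.simple
  have := Fact.mk Nat.prime_two
  have hM := h.coatom ha a1
  have a2 := c.el a ha
  have cjp : ∀ b ∈ A, b ≠ 1 → ∃ n ∈ 𝐍(A), ∀ q, pCoreOf q 𝐂[b] = n •ᶜ pCoreOf q 𝐂[a] :=
    fun b hb b1 => by
      obtain ⟨n, hn, rfl⟩ := h.sb.tr a ha b hb a1 b1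
      exact ⟨n, hn, fun q => by rw [← cj_cent1, H1.pCoreOf_map_conj]⟩
  obtain ⟨T, J, r⟩ := h.real ha a1
  have eT := c.el.mono r.le1
  have aT : a ∉ T := fun e => a1 (r.eq_one e (mem_zpowers a))
  have JH : J ≤ 𝐂[a] := U4.cent_zpowers a ▸ r.cent
  set Z := LD.Zp p 𝐂[a] with hZ
  have z0 : Z ≠ ⊥ := LD.Zp_ne_bot fun e => h0 (e.le.trans bot_le)
  have z1 : IsPGroup p Z := (H1.pCoreOf_isPGroup _).to_le inf_le_left
  have z2 : Z ≤ 𝐂[a] := inf_le_left.trans (H1.pCoreOf_le _)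
  have z3 : 𝐂[a] ≤ 𝐍(Z) := LD.le_norm_Zp p 𝐂[a]
  have zo := odd_card_of_isPGroup hp.1 hp2 z1
  have zA := (c.el.le_cent1 ha).trans z3
  have all : ∀ K : Subgroup G, J ⊓ 𝐍(T) ≤ 𝐍(K) → ∀ t ∈ T, t ≠ 1 → Z ⊓ 𝐂[t] ≤ K → Z ≤ K :=
    fun K hK t ht t1 e => gen_pt eT r.four zo (r.le1.trans zA) fun s hs s1 => by
      obtain ⟨n, hn, rfl⟩ := r.trans c.max c.ab ht hs t1 s1
      rw [← cj_cent1, ← map_conj_eq_of_mem_normalizer (z3 (JH hn.1)), ← map_conj_inf]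
      exact cj_le_of_norm e (hK hn)
  obtain ⟨t, ht, t1⟩ := r.exists_ne_one
  have tA := r.le1 ht
  have h4 : Four a t := c.el.four ha tA a1 t1 fun e => aT (e ▸ ht)
  have hB : V a t ≤ A := V_le ha tA
  have v0 : Z ⊓ 𝐂[t] ≠ ⊥ := fun e => z0 (le_bot_iff.1 (all ⊥ (le_norm_bot _) t ht t1 e.le))
  have v1 : IsPGroup p ↥(Z ⊓ 𝐂[t]) := z1.to_le inf_le_left
  have v2 : 𝐂(V a t) ≤ 𝐍(Z ⊓ 𝐂[t]) := H1.le_normalizer_inf
    ((cent_le_cent1 (t_mem_V a t)).trans z3) ((cent_le_cent1 (s_mem_V a t)).trans le_normalizer)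
  have xA := (c.el.le_cent' le_rfl hB).trans v2
  have xT := c.norm_ne' v0 v1
  have nP : 𝐂[t] ≤ 𝐍(pCoreOf p 𝐂[t]) := H1.le_normalizer_pCoreOf _
  have aP := nP (c.el.le_cent1 tA ha)
  obtain ⟨n, hn, e⟩ := cjp t tA t1
  refine h4.ne ((c.el.mem_zp tA (h.inf_cent_le tA t1 nP (H1.pCoreOf_le _) (fun e' => h0 ?_)
    ⟨ha, mem_cent_cent1 (pxq1 hp2 a2 v1 (H1.pCoreOf_isPGroup _) (inf_le_right.trans nP) aP
      (inf_le_left.trans z2) ?_)⟩)).resolve_left a1)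
  · rwa [e, cj_le_iff, map_conj_eq_of_mem_normalizer (U4.norm_le_norm_cent A (inv_mem hn))] at e'
  by_cases hc : Z ≤ 𝐂(T)
  · rw [inf_eq_left.2 (hc.trans (cent_le_cent1 ht))]
    exact inf_le_right.trans (cent_le_of_coatom hM z0 z2 z3 le_rfl)
  have nc : ∀ s ∈ T, s ≠ 1 → ¬ Z ⊓ 𝐂[s] ≤ 𝐂(T) := fun s hs s1 e =>
    hc (all _ (inf_le_right.trans (U4.norm_le_norm_cent T)) s hs s1 e)
  have fX : ∀ (q : ℕ) [Fact q.Prime], LD.Zp q 𝐂[a] ≤ 𝐍(Z ⊓ 𝐂[t]) := fun q _ =>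
    ((LD.Zp_le_cent q _).trans (centralizer_le (show Z ⊓ 𝐂[t] ≤ _ from (inf_le_left.trans
      inf_le_left).trans (H1.pCoreOf_le_fittingOf p _)))).trans (cent_le_norm _)
  have key : zpowers a ≤ pCoreOf 2 𝐍(Z ⊓ 𝐂[t]) := by
    refine le_pc_of_cent (el_zpowers a2).isPGroup (zpowers_le.2 (xA ha)) (fun J' hJ => ?_)
      fun q hq => le_centralizer_iff.1 ?_
    · exfalso
      have g := c.gd _ xT
      have d := g.dec' (c.mx xA) hJ.cp
      have f := g.four_le (c.mx xA) hJ.cp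
      rw [hJ.inf_cm, hJ.inf_eq g c.el] at d
      rw [hJ.inf_eq g c.el] at f
      have j1 := hJ.cent le_normalizer (solvable_of_isPGroup v1) hJ.le
      by_cases e : A ⊓ J' ≤ V a t
      swap
      · obtain ⟨x, hx, hx'⟩ := SetLike.not_le_iff_exists.1 e
        refine nc t ht t1 (le_centralizer_iff.1 (r.le1.trans ((h.sup_eq hB h4.card_V.ge hx.1
          hx').ge.trans (sup_le (V_le (mem_cent_cent1 (inf_le_left.trans z2))
            (mem_cent_cent1 inf_le_right)) (zpowers_le.2 (le_centralizer_iff.1 j1 hx.2))))))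
      have e1 := eq_of_le_of_card_ge e (h4.card_V.le.trans f)
      obtain ⟨d', hd, d1⟩ := exists_mem_ne_one (X := A ⊓ (𝐍(Z ⊓ 𝐂[t]) ⊓ 𝐂(J'))) fun e' => by
        have := d.card c.el
        rw [e', e1, h4.card_V, h.sb.card, card_bot] at this
        omega
      obtain ⟨s, hs, w, hw, rfl⟩ := r.dec c.el hd.1
      have s0 : s ∉ zpowers t := fun e' => d1 (d.eq_one (e1.ge (mul_mem
        (zpowers_le.2 (s_mem_V a t) e') (zpowers_le.2 (t_mem_V a t) hw))) hd)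
      have st : s * t ≠ 1 := fun e' => s0 (eq_inv_of_mul_eq_one_left e' ▸ inv_mem (mem_zpowers t))
      have h5 : Four t s := eT.four ht hs t1 (fun e' => s0 (e' ▸ one_mem _))
        fun e' => s0 (e' ▸ mem_zpowers t)
      have n3 := H1.le_normalizer_inf zA (c.el.norm_cent1 (r.le1 (mul_mem hs ht)))
      have u1 := commutator_le_left_of_le_normalizer ((zpowers_le.2 tA).trans n3)
      have u2 : ⁅Z ⊓ 𝐂[s * t], zpowers t⁆ ≤ J' :=
        (commutator_mono le_rfl (zpowers_le.2 (e1.ge (s_mem_V a t)).2)).trans (comm_le_right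
          (inf_le_left.trans (c.tc_norm xT xA hJ (fX p) zo zA)))
      have u3 := mul_mem (inv_mem (mul_mem (centralizer_le u2 hd.2.2) (inv_mem (zpowers_le.2
        (mem_cent_cent1 ((u1.trans inf_le_left).trans z2)) hw))))
        (mem_cent_cent1 (u1.trans inf_le_right))
      rw [mul_inv_cancel_right, inv_mul_cancel_left] at u3
      have u4 := mem_cent_cent1 (le_cent1_of_comm_comm (eT t ht) (odd_card_of_le zo inf_le_left)
        (n3 tA) (le_cent1_iff.2 u3))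
      refine nc _ (mul_mem hs ht) st (le_centralizer_iff.1 ((eq_of_le_of_card_ge (V_le ht hs)
        ((h.card_real r).1.trans h5.card_V.symm).le).ge.trans (V_le u4 ?_)))
      exact (Subgroup.mul_mem_cancel_right _ u4).1 (mem_cent_cent1 inf_le_right)
    by_cases e2 : q = 2
    · exact e2 ▸ (two_le_cent c.ab c.el xA).trans (centralizer_le (zpowers_le.2 ha))
    by_cases e3 : pCoreOf q 𝐂[a] = ⊥
    swap
    · exact (LD.L1 (Ne.symm e2) (cent_le_of_Zp hM e3 (le_inf inf_le_left (fX q)))).trans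
        (centralizer_le (le_inf (H1.le_pCoreOf (zpowers_le.2 (c.el.le_cent1 ha ha))
          (norm_zp le_rfl) (el_zpowers a2).isPGroup) (zpowers_le.2 (xA ha))))
    have qo := odd_card_of_isPGroup hq.1 e2 (H1.pCoreOf_isPGroup 𝐍(Z ⊓ 𝐂[t]))
    refine gen_pt (Four.el h4) h4.card_V.ge qo
      ((hB.trans xA).trans (H1.le_normalizer_pCoreOf _)) fun d hd d1 => ?_
    by_cases e4 : a = d
    · exact inf_le_right.trans (e4 ▸ (U4.cent_zpowers a).ge)
    obtain ⟨m, -, e5⟩ := cjp d (hB hd) d1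
    refine comm_eq_bot_iff.1 (le_bot_iff.1 (((c.gdc d1).lemU a2 (c.el.le_cent1 (hB hd) ha) hq.1 e2
      ((H1.pCoreOf_isPGroup _).to_le inf_le_left) inf_le_right (H1.le_normalizer_inf ?_
        (inf_le_left.trans le_normalizer))).trans (by rw [e5, e3, Subgroup.map_bot])))
    rw [inf_comm, ← cent_V, h4.V_eq (c.el.four ha (hB hd) a1 d1 e4) (t_mem_V a t) hd]
    exact v2.trans (H1.le_normalizer_pCoreOf _)
  exact U4.cent_zpowers a ▸ LD.le_cent_of_comm inf_le_left (zpowers_le.2 aP) key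
    ((inf_le_right.trans (cent_le_norm _)).trans (H1.le_normalizer_pCoreOf _)) (LD.pc_inf hp2 _ _)

theorem Od_eq : Od 𝐂[a] = ⊥ :=
  h.Od_of_cent ha a1 (Od_le_cent h.ctx.el (h.ctx.el.le_cent1 ha) fun _ _ e => h.pc_le ha a1 e)

end M3

/-- A subgroup of `X` is isomorphic to its image when `O(X) = 1`. -/
theorem nonempty_equiv_im {X L : Subgroup G} (h : Od X = ⊥) (hL : L ≤ X) :
    Nonempty (L ≃* im X L) :=
  ⟨(subgroupOfEquivOfLe hL).symm.trans (equivMapOfInjective _ _ ((injective_iff_map_eq_one _).2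
    fun x hx => Subtype.ext (mem_bot.1 (h ▸ (br_eq_one x.2).1 ((br_of_mem x.2).trans hx)))))⟩

theorem M3.wjr {A : Subgroup G} (h : M3 A) : ∃ (t : G) (L : Subgroup G) (q : ℕ), WJR t L q := by
  have c := h.ctx
  have := Fact.mk Nat.prime_two
  obtain ⟨a, ha, a1⟩ := exists_ne_one_of_card (le_trans (by norm_num) c.four)
  obtain ⟨L, l⟩ := h.loc ha a1 (c.cent1_ne a1) le_rfl
  have g := c.gdc a1
  have m := c.mc ha
  have o := h.Od_eq ha a1
  have mT := g.maxE_im m l.cp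
  have c4 : Nat.card (im 𝐂[a] (A ⊓ L)) = 4 :=
    (card_im (c.el.mono inf_le_left) (inf_le_left.trans m.le)).trans l.four
  obtain ⟨e⟩ := nonempty_equiv_im o l.cp.le
  obtain ⟨F, _, _, h5, h8, ⟨e'⟩⟩ := (g.kt l.cp).psl mT c4
  have sc := ((g.kt l.cp).pslIn mT c4).2 _ mT
  have r := g.real m l.cp (l.cm ▸ zpowers_ne_bot.2 a1)
  have k1 : ∀ x ∈ 𝐂(A), x * x ∈ A → x ∈ A := fun x hx h1 => by
    by_contra h2
    have x1 : x * x ≠ 1 := fun e => h2 (c.max.mem x trivial e hx)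
    obtain ⟨t, ht, s, hs, h4⟩ := (c.el.mono r.le1).exists_four' r.four
    obtain ⟨k, hk, e1⟩ := h.sb.tr _ h1 t ht.1 x1 h4.t1
    obtain ⟨n, hn, e2⟩ := r.trans c.max c.ab ht hs h4.t1 h4.s1
    have y1 : k * x * k⁻¹ ∈ 𝐂(A) := conj_mem_of_mem_normalizer (U4.norm_le_norm_cent A hk) hx
    rw [← _root_.conj_mul] at e1
    generalize k * x * k⁻¹ = y at y1 e1
    have y2 : ⁅n, y⁆ ∈ L := comm_mem_left (jc_le _ A L hn.1) (l.norm (cent_le_cent1 ha y1))
    have y3 : ⁅n, y⁆ ∈ 𝐂(A) := comm_mem_right (U4.norm_le_norm_cent A (r.norm hn)) y1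
    have y4 : ⁅n, y⁆ ∈ A ⊓ L := by
      have := (im_le_im (zpowers_le.2 (l.cp.le y2)) (inf_le_left.trans m.le)).1
        ((le_inf (im_mono (zpowers_le.2 y2))
          (im_cent (zpowers_le.2 (centralizer_le inf_le_left y3)))).trans sc) (mem_zpowers _)
      rwa [o, bot_sup_eq] at this
    refine h4.ne ?_
    calc t = ⁅n, y⁆ * ⁅n, y⁆ * (y * y) := by rw [c.el _ y4.1, one_mul, e1]
      _ = ⁅n, y⁆ * y * (⁅n, y⁆ * y) := by
        rw [mul_assoc _ y, ← mul_assoc y, ← mem_cent.1 y1 _ y4.1]; simp only [mul_assoc]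
      _ = s := by rw [← e2, ← e1, commutatorElement_def]; group
  have k2 : ∀ P : Subgroup G, IsPGroup 2 P → P ≤ 𝐂(A) → P ≤ A := fun P hP h1 x hx => by
    obtain ⟨k, hk⟩ := hP ⟨x, hx⟩
    replace hk : x ^ 2 ^ k = 1 := congrArg Subtype.val hk
    induction k generalizing x with
    | zero => rw [pow_zero, pow_one] at hk; exact hk ▸ one_mem A
    | succ k ih => exact k1 x (h1 hx) (ih _ (mul_mem hx hx) (by rw [← sq, ← pow_mul, ← pow_succ', hk]))
  have hS : IsSylowIn 2 A ⊤ := IsSylowIn.of_maximal le_top c.el.isPGroup fun P hP h1 _ =>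
    k2 P hP (ab_le_cent c.ab hP le_rfl h1)
  have AL : A ≤ zpowers a ⊔ L := (g.sup_eq m l.cp).ge.trans (sup_le
    (inf_le_right.trans le_sup_right) (l.cm.le.trans le_sup_left))
  have w : 𝐂[a] ⊓ 𝐂(L) ≤ 𝐂(A) := le_centralizer_iff.1 (AL.trans (sup_le
    (zpowers_le.2 (mem_cent_cent1 inf_le_left)) (le_centralizer_iff.1 inf_le_right)))
  have := (g.kt l.cp).simple
  refine ⟨a, L, _, c.el.ord ha a1, l.cp.le, l.norm, le_antisymm (le_trans (le_inf (k2 _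
    (isPGroup_two_of_forall_odd fun x hx ho => mem_bot.1 (o ▸ g.kill2 m (zpowers_le.2 hx.1)
      (by rwa [Nat.card_zpowers]) (zpowers_le.2 (w hx)) (fun L' hL' => l.uniq _ hL' ▸
        zpowers_le.2 (inf_cent_le_cm hx)) (mem_zpowers x))) w) inf_cent_le_cm) l.cm.le)
    (zpowers_le.2 ⟨m.le ha, mem_cent_cent1 l.cp.le⟩), ?_,
    odd_relIndex_of_sylow hS AL m.le le_top, ⟨F, _, _, rfl, ⟨e.trans e'⟩⟩, h8, h5,
    e.isSimpleGroup, fun hc => (g.kt l.cp).nonab ?_, fun u _ v _ h1 h2 => ?_⟩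
  · exact relIndex_top_right 𝐂[a] ▸ odd_relIndex_of_sylow hS m.le le_top le_rfl
  · exact ⟨⟨fun x y => e.symm.injective (by rw [map_mul, map_mul, hc.is_comm.comm])⟩⟩
  obtain ⟨x, -, hx⟩ := c.max.exists_conj_mem c.ab (mem_top u) (mul_self_of_inv h1)
  obtain ⟨y, -, hy⟩ := c.max.exists_conj_mem c.ab (mem_top v) (mul_self_of_inv h2)
  obtain ⟨n, -, e⟩ := h.sb.tr _ hx _ hy (U4.conj_ne_one_iff.2 (ne_one_of_inv h1))
    (U4.conj_ne_one_iff.2 (ne_one_of_inv h2))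
  refine ⟨y⁻¹ * n * x, trivial, ?_⟩
  calc _ = y⁻¹ * (n * (x * u * x⁻¹) * n⁻¹) * y := by group
    _ = v := by rw [e]; group

theorem Ctx.wjr {A : Subgroup G} (h : Ctx A) : ∃ (t : G) (L : Subgroup G) (q : ℕ), WJR t L q :=
  M3.wjr ⟨h, h.sb'⟩

end CfsgLib.Wal
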