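import Cfsg.Agent.Lib.Wal.Basic
import Cfsg.Agent.Lib.FT.BG4c
import Cfsg.Agent.Lib.PGroupMaxClass
import Cfsg.Agent.Lib.ClassSize2
import Cfsg.Agent.Lib.ClassCount
import Cfsg.Agent.Lib.FusionRadical

/-!
# A transfer argument for an element of prime order `k` whose centralizer has order `k ^ 2 * k'`
-/

set_option autoImplicit false

namespace CfsgLib.H5.JB

open Subgroup Cfsg CfsgLib.FT CfsgLib.FT.BGN CfsgLib.Cop CfsgLib.GW
open CfsgLib.FT.U4 (mem_cent1 mem_cent1' mem_cent mem_cent1_comm cent1_conj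
  eq_one_of_mem_inf eq_bot_of_forall conj_mem_conj_iff orderOf_conj)
open scoped commutatorElement

variable {G : Type*} [Group G] [Finite G]

/-- Evaluation of the transfer into `U / N` in a perfect group. -/
theorem pow_index_mem (hp : _root_.commutator G = ⊤) {U N : Subgroup G} (hN : ⁅U, U⁆ ≤ N) {f : G}
    (hf : f ∈ U) (h : ∀ (n : ℕ) (g : G), g⁻¹ * f ^ n * g ∈ U → g⁻¹ * f ^ n * g * (f ^ n)⁻¹ ∈ N) :
    f ^ U.index ∈ N := by
  classical
  have hd : _root_.commutator U ≤ N.subgroupOf U := fun x hx =>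
    hN (map_subtype_der U ▸ mem_map_of_mem U.subtype hx)
  haveI : (N.subgroupOf U).Normal := normal_of_commutator_le hd
  letI : CommGroup (U ⧸ N.subgroupOf U) :=
    { (inferInstance : Group (U ⧸ N.subgroupOf U)) with
      mul_comm := (Normal.quotient_commutative_iff_commutator_le.2 hd).is_comm.comm }
  let φ : U →* U ⧸ N.subgroupOf U := QuotientGroup.mk' _
  letI := Fintype.ofFinite (Quotient (MulAction.orbitRel (zpowers f) (G ⧸ U)))
  have h1 : f ∈ (MonoidHom.transfer φ).ker :=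
    Abelianization.commutator_subset_ker _ (hp ▸ mem_top f)
  rw [MonoidHom.mem_ker, MonoidHom.transfer_eq_prod_quotient_orbitRel_zpowers_quot] at h1
  have h2 : ∀ (n : ℕ) (g : G) (hg : g⁻¹ * f ^ n * g ∈ U), φ ⟨_, hg⟩ = φ ⟨f, hf⟩ ^ n :=
    fun n g hg => by
      rw [← map_pow, ← mul_inv_eq_one, ← map_inv, ← map_mul]
      exact (QuotientGroup.eq_one_iff _).2 (h n g hg)
  simp only [h2] at h1
  rw [Finset.prod_pow_eq_pow_sum, ← index_eq_sum_minimalPeriod U f, ← map_pow] at h1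
  exact (QuotientGroup.eq_one_iff (N := N.subgroupOf U) _).1 h1

/-- Counting the fixed points of an element of prime order on a coset space. -/
theorem index_modEq {k : ℕ} (hk : k.Prime) {f : G} (hf : orderOf f = k) {U H : Subgroup G}
    (h : ∀ g, g⁻¹ * f * g ∈ U ↔ ∃ x ∈ H, x⁻¹ * g ∈ U) : U.index ≡ U.relIndex H [MOD k] := by
  haveI := Fact.mk hk
  have h1 := (isPGroup_of_card_prime (X := zpowers f)
    (by rw [Nat.card_zpowers, hf])).card_modEq_card_fixedPoints (G ⧸ U)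
  rw [ClassCount.relIndex_eq_ncard_orbit, index]
  convert h1 using 1
  rw [← Nat.card_coe_set_eq]
  congr 2
  ext y
  obtain ⟨g, rfl⟩ := QuotientGroup.mk_surjective y
  have h2 : (g : G ⧸ U) ∈ MulAction.fixedPoints (zpowers f) (G ⧸ U) ↔ g⁻¹ * f * g ∈ U := by
    rw [MulAction.mem_fixedPoints]
    constructor
    · intro h3
      have : ((f * g : G) : G ⧸ U) = g := h3 ⟨f, mem_zpowers f⟩
      simpa [mul_assoc] using QuotientGroup.eq.1 this.symm
    · rintro h3 ⟨x, hx⟩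
      have h4 : zpowers f ≤ g •ᶜ U := zpowers_le.2 (mem_map_conj_iff.2 h3)
      have : ((x * g : G) : G ⧸ U) = g :=
        (QuotientGroup.eq.2 (by simpa [mul_assoc] using mem_map_conj_iff.1 (h4 hx))).symm
      exact this
  rw [h2, h]
  constructor
  · rintro ⟨x, hx⟩
    have : (((x : G) * 1 : G) : G ⧸ U) = g := hx
    rw [mul_one, QuotientGroup.eq] at this
    exact ⟨x, x.2, this⟩
  · rintro ⟨x, hx, h3⟩
    refine ⟨⟨x, hx⟩, ?_⟩
    change ((x * 1 : G) : G ⧸ U) = g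
    rwa [mul_one, QuotientGroup.eq]

variable {k : ℕ} [hk : Fact k.Prime]

theorem sq_le_relIndex_der {D : Subgroup G} (hD : IsPGroup k D) (h : k ^ 2 ≤ Nat.card D) :
    k ^ 2 ≤ (⁅D, D⁆).relIndex D := by
  by_cases hc : IsCyclic D
  · rwa [comm_eq_bot_iff.2 (U4.le_cent_of_isCyclic hc), relIndex_bot_left]
  · rw [← map_subtype_der, H5.relIndex_map_subtype]
    exact PGrp.sq_le_index_of_le_frattini hD hc _ (PGrp.commutator_le_frattini hD)

theorem sq_le_card_inf {D : Subgroup G} (hD : IsPGroup k D) (h : k ^ 2 ≤ Nat.card D) {g : G}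
    (hg : g ∈ D) : k ^ 2 ≤ Nat.card ↥(𝐂[g] ⊓ D) := by
  have h1 := PGrp.relIndex_centralizer_le_card (a := g) (D := D) (N := ⁅D, D⁆)
    fun x hx => commutator_mem_commutator hg hx
  have h2 := card_inf_mul_relIndex 𝐂[g] D
  have h3 := card_mul_relIndex (der_le D)
  have h4 := sq_le_relIndex_der hD h
  have h5 : 0 < Nat.card (⁅D, D⁆ : Subgroup G) := Nat.card_pos
  refine Nat.le_of_mul_le_mul_right ?_ h5
  calc _ ≤ (⁅D, D⁆).relIndex D * Nat.card (⁅D, D⁆ : Subgroup G) := Nat.mul_le_mul_right _ h4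
    _ = _ := by rw [mul_comm, h3, ← h2]
    _ ≤ _ := Nat.mul_le_mul_left _ h1

/-- If `|C_D(g)| = k ^ 2` then the class of `g` in the `k`-group `D` is the coset `D' g`. -/
theorem cls {D : Subgroup G} (hD : IsPGroup k D) (h : k ^ 2 ≤ Nat.card D) {g : G} (hg : g ∈ D)
    (hc : Nat.card ↥(𝐂[g] ⊓ D) ≤ k ^ 2) : (⁅D, D⁆).relIndex D = k ^ 2 ∧
      ∀ y ∈ ⁅D, D⁆, ∃ p ∈ D, p * g * p⁻¹ = y * g := by
  have h1 := Frob.ncard_conj_subgroup D g
  have h2 := card_inf_mul_relIndex 𝐂[g] D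
  have h3 := card_mul_relIndex (der_le D)
  have h4 := sq_le_relIndex_der hD h
  have h5 : 0 < Nat.card (⁅D, D⁆ : Subgroup G) := Nat.card_pos
  have h6 : {y : G | ∃ x ∈ D, x * g * x⁻¹ = y} ⊆ (· * g) '' (⁅D, D⁆ : Subgroup G) := by
    rintro _ ⟨x, hx, rfl⟩
    exact ⟨_, commutator_mem_commutator hx hg, by simp [commutatorElement_def]⟩
  have h7 : ((· * g) '' (⁅D, D⁆ : Subgroup G)).ncard = Nat.card (⁅D, D⁆ : Subgroup G) := by
    rw [Set.ncard_image_of_injective _ (mul_left_injective g)]; rfl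
  have h8 := Set.ncard_le_ncard h6
  rw [h1, h7] at h8
  have h9 : Nat.card (⁅D, D⁆ : Subgroup G) * (⁅D, D⁆).relIndex D ≤ k ^ 2 * 𝐂[g].relIndex D := by
    rw [h3, ← h2]; exact Nat.mul_le_mul_right _ hc
  refine ⟨le_antisymm (Nat.le_of_mul_le_mul_left (h9.trans ?_) h5) h4, fun y hy => ?_⟩
  · rw [mul_comm]; exact Nat.mul_le_mul_right _ h8
  · have := Set.eq_of_subset_of_ncard_le h6 (by
      rw [h1, h7]
      refine Nat.le_of_mul_le_mul_left (le_trans ?_ h9) (pow_pos hk.out.pos 2)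
      rw [mul_comm]; exact Nat.mul_le_mul_left _ h4)
    exact this.ge ⟨y, hy, rfl⟩

/-- The elements of `P` centralized by `v` modulo `P'`. -/
def fixm (P : Subgroup G) (v : G) (hv : v ∈ 𝐍(P)) : Subgroup G where
  carrier := {y | y ∈ P ∧ v * y * v⁻¹ * y⁻¹ ∈ ⁅P, P⁆}
  one_mem' := ⟨one_mem _, by simp⟩
  mul_mem' := fun {a b} ha hb => ⟨mul_mem ha.1 hb.1, by
    convert mul_mem ha.2 (conj_mem_of_mem_normalizer (le_norm_der P ha.1) hb.2) using 1
    group⟩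
  inv_mem' := fun {a} ha => ⟨inv_mem ha.1, by
    convert inv_mem (conj_mem_of_mem_normalizer' (le_norm_der P ha.1) ha.2) using 1
    group⟩

/-- The hypothesis of the local lemma. -/
structure LLH (k : ℕ) (f : G) (E : Subgroup G) : Prop where
  ne2 : k ≠ 2
  ord : orderOf f = k
  norm : 𝐍(zpowers f) ≤ 𝐂[f]
  syl : IsSylowIn k E 𝐂[f]
  card : Nat.card E = k ^ 2
  loc : ∀ D : Subgroup G, IsPGroup k D → E ≤ D → ¬ 4 ∣ Nat.card 𝐍(D)

namespace LLH

variable {f : G} {E D : Subgroup G} (h : LLH k f E)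
include h

theorem card_zp : Nat.card (zpowers f) = k := by rw [Nat.card_zpowers, h.ord]

theorem mem : f ∈ E :=
  le_sylow_of_norm' h.syl (isPGroup_of_card_prime h.card_zp) (U4.zpowers_le_cent1 f)
    (h.syl.le.trans ((U4.cent_zpowers f).ge.trans (cent_le_norm _))) (mem_zpowers f)

theorem ne_one : f ≠ 1 := fun e => hk.out.one_lt.ne' (by rw [← h.ord, e, orderOf_one])

theorem le_cent : E ≤ 𝐂(E) := fun x hx => mem_cent.2 fun y hy => congrArg Subtype.val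
  ((IsPGroup.commutative_of_card_eq_prime_sq h.card) (⟨y, hy⟩ : E) ⟨x, hx⟩)

theorem inf_eq (hD : IsPGroup k D) (hE : E ≤ D) : 𝐂[f] ⊓ D = E :=
  h.syl.eq_of_le hD.to_inf_right (le_inf h.syl.le hE) inf_le_left

theorem sq_le (hE : E ≤ D) : k ^ 2 ≤ Nat.card D := h.card ▸ card_le_of_le hE

theorem cls' (hD : IsPGroup k D) (hE : E ≤ D) {g : G} (hg : g ∈ zpowers f) (h1 : g ≠ 1) :
    (⁅D, D⁆).relIndex D = k ^ 2 ∧ ∀ y ∈ ⁅D, D⁆, ∃ p ∈ D, p * g * p⁻¹ = y * g :=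
  cls hD (h.sq_le hE) (hE (zpowers_le.2 h.mem hg)) (by
    rw [cent1_eq_of_card_prime h.card_zp hg h1, U4.cent_zpowers, h.inf_eq hD hE, h.card])

theorem notMem (hD : IsPGroup k D) (hE : E ≤ D) : f ∉ ⁅D, D⁆ := fun e => by
  obtain ⟨p, -, h1⟩ := (h.cls' hD hE (mem_zpowers f) h.ne_one).2 _ (inv_mem e)
  exact U4.conj_ne_one_iff.2 h.ne_one (h1.trans (inv_mul_cancel f))

theorem bound (hE : E ≤ D) {R : Subgroup G} (hR : IsPGroup k R) (h1 : D ≤ R) (h2 : R ≤ 𝐍(D)) :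
    Nat.card R ≤ k * Nat.card D := by
  obtain ⟨h3, h4⟩ := h.cls' hR (hE.trans h1) (mem_zpowers f) h.ne_one
  have h5 : ⁅R, R⁆ < D := lt_of_le_of_ne (fun y hy => by
    obtain ⟨p, hp, e⟩ := h4 y hy
    exact (mul_mem_cancel_right (hE h.mem)).1
      (e ▸ conj_mem_of_mem_normalizer (h2 hp) (hE h.mem)))
    fun e => h.notMem hR (hE.trans h1) (e ▸ hE h.mem)
  rw [← card_mul_relIndex (der_le R), h3, pow_two, ← mul_assoc, mul_comm, mul_comm _ k]
  exact Nat.mul_le_mul_left _ (PGrp.mul_card_le_card_of_lt (hR.to_le h1) h5)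

theorem cent_of_der (hD : IsPGroup k D) (hE : E ≤ D) {x : G} (hx : x ∈ ⁅Od 𝐍(D), Od 𝐍(D)⁆)
    (hc : (orderOf x).Coprime k) : x ∈ 𝐂(D) := by
  refine mem_centralizer_of_commutator_mem_frattini (Od_le _ (der_le _ hx)) ?_
    (der1_cent_section2 (Od_le _) (Cop.le_normalizer_frattini (Od_le _)) (map_subtype_le _)
      (Cop.commutator_le_frattini_map hD) (fun _ => Cop.pow_mem_frattini_map hD) (odd_Od _) ?_ hx hc)
  · obtain ⟨n, hn⟩ := IsPGroup.iff_card.1 hD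
    exact hn ▸ hc.pow_right n
  · rw [← (h.cls' hD hE (mem_zpowers f) h.ne_one).1]
    exact relIndex_le_of_le_left (Cop.commutator_le_frattini_map hD) FiniteIndex.index_ne_zero

theorem le_Od (hD : IsPGroup k D) (hE : E ≤ D) {R : Subgroup G} (hR : IsPGroup k R)
    (h1 : R ≤ 𝐍(D)) : R ≤ Od 𝐍(D) :=
  (nilp2_of_not_four_dvd (h.loc D hD hE)).le_Od h1 (odd_card_of_isPGroup hk.out h.ne2 hR)

theorem der_le_sup (hD : IsPGroup k D) (hE : E ≤ D) {R : Subgroup G} (hR : IsSylowIn k R 𝐍(D)) :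
    ⁅Od 𝐍(D), Od 𝐍(D)⁆ ≤ 𝐂(D) ⊔ R := by
  refine le_of_forall_sylow fun r hr _ => ?_
  by_cases e : r = k
  · subst e
    exact ⟨_, hR.inf_of_le_normalizer ((der_le _).trans (Od_le _))
      (hR.le.trans ((le_norm_Od _).trans (norm_le_norm_der _))), inf_le_left.trans le_sup_right⟩
  · obtain ⟨S, hS⟩ := IsSylowIn.exists_in (p := r) ⁅Od 𝐍(D), Od 𝐍(D)⁆
    refine ⟨S, hS, fun x hx => mem_sup_left (h.cent_of_der hD hE (hS.le hx) ?_)⟩
    obtain ⟨n, hn⟩ := orderOf_eq_pow_of_mem_isPGroup hS.isPGroup hx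
    exact hn ▸ ((Nat.coprime_primes hr.out hk.out).2 e).pow_left n

theorem step (hD : IsPGroup k D) (hE : E ≤ D) {R T : Subgroup G} (hR : IsPGroup k R)
    (h1 : D < R) (h2 : R ≤ 𝐍(D)) (hT : IsPGroup k T) (h3 : T ≤ 𝐍(D)) :
    ∃ c ∈ 𝐂(D), c •ᶜ T ≤ R := by
  have hS : IsSylowIn k R 𝐍(D) := IsSylowIn.of_maximal h2 hR fun U hU h4 h5 =>
    (eq_of_le_of_card_ge h4 ((h.bound hE hU (h1.le.trans h4) h5).trans
      (PGrp.mul_card_le_card_of_lt hR h1))).ge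
  obtain ⟨a, ha, h4⟩ := (hS.mono (h.le_Od hD hE hR h2) (Od_le _)).exists_conj_le hT
    (h.le_Od hD hE hT h3)
  have h5 : T ≤ 𝐂(D) ⊔ R := fun x hx => by
    have h6 := h4 (conj_mem_map_conj hx)
    convert mul_mem (h.der_le_sup hD hE hS (commutator_mem_commutator (inv_mem ha)
      (h.le_Od hD hE hR h2 h6))) (mem_sup_right h6) using 1
    simp only [commutatorElement_def]; group
  obtain ⟨z, hz, h6⟩ := (hS.mono le_sup_right (sup_le (cent_le_norm D) h2)).exists_conj_le hT h5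
  obtain ⟨c, hc, d, hd, rfl⟩ := mem_sup_norm (H1.le_normalizer_centralizer h2) hz
  refine ⟨d⁻¹ * c * d, conj_mem_of_mem_normalizer' (H1.le_normalizer_centralizer h2 hd) hc, ?_⟩
  rw [mul_assoc, ← cj_cj]
  exact cj_le_of_norm h6 (le_normalizer (inv_mem hd))

theorem conj_sylow (hD : IsPGroup k D) (hE : E ≤ D) {P Q : Subgroup G} (hP : IsSylowIn k P ⊤)
    (hQ : IsSylowIn k Q ⊤) (h1 : D ≤ P) (h2 : D ≤ Q) : ∃ c ∈ 𝐂(E), c •ᶜ Q = P := by
  induction D using WellFoundedGT.induction generalizing Q with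
  | ind D ih =>
  rcases h1.eq_or_lt with rfl | h3
  · exact ⟨1, one_mem _, (cj_eq_of_mem (one_mem _)).trans (hP.eq_of_le hQ.isPGroup h2 le_top)⟩
  rcases h2.eq_or_lt with rfl | h4
  · exact absurd (hQ.eq_of_le hP.isPGroup h1 le_top) h3.ne'
  obtain ⟨c, hc, h5⟩ := h.step hD hE hP.isPGroup.to_inf_left
    (lt_inf_normalizer_of_isPGroup hP.isPGroup h3) inf_le_right
    (hQ.isPGroup.to_inf_left (K := 𝐍(D))) inf_le_right
  have h6 : D < c •ᶜ (Q ⊓ 𝐍(D)) := by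
    have := map_conj_lt_map_conj c (lt_inf_normalizer_of_isPGroup hQ.isPGroup h4)
    rwa [cj_eq_of_mem_cent hc] at this
  obtain ⟨d, hd, h7⟩ := ih _ h6 (hP.isPGroup.to_le (h5.trans inf_le_left)) (hE.trans h6.le)
    (hQ.map_conj_of_mem_normalizer (g := c) (le_normalizer trivial)) (h5.trans inf_le_left) (map_mono inf_le_left)
  exact ⟨d * c, mul_mem hd (centralizer_le hE hc), by rw [← cj_cj, h7]⟩

variable {P : Subgroup G} (hP : IsSylowIn k P ⊤) (hE : E ≤ P)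
include hP hE

theorem exists_norm {g : G} (hg : E ≤ g⁻¹ •ᶜ P) : ∃ c ∈ 𝐂(E), g * c ∈ 𝐍(P) := by
  obtain ⟨c, hc, e⟩ := h.conj_sylow h.syl.isPGroup le_rfl
    (hP.map_conj_of_mem_normalizer (g := g⁻¹) (le_normalizer trivial)) hP hg hE
  exact ⟨c, hc, mem_normalizer_of_map_conj_eq (by rw [← cj_cj, e, map_conj_map_conj_inv])⟩

theorem fusion {g : G} (hg : g * f * g⁻¹ ∈ P) : ∃ n ∈ 𝐍(P), n * f * n⁻¹ = g * f * g⁻¹ := by
  have h1 := h.syl.map_conj g
  rw [← cent1_conj] at h1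
  obtain ⟨x, hx, e⟩ := (h1.of_card_le (hP.isPGroup.to_inf_right) inf_le_left (by
    rw [card_map_conj, h.card]; exact sq_le_card_inf hP.isPGroup (h.sq_le hE) hg)).exists_conj_eq h1
  obtain ⟨c, hc, h2⟩ := h.exists_norm hP hE (g := x * g) (by
    rw [← cj_le_iff, ← cj_cj, e]; exact inf_le_right)
  refine ⟨_, h2, ?_⟩
  calc x * g * c * f * (x * g * c)⁻¹ = x * (g * (c * f * c⁻¹) * g⁻¹) * x⁻¹ := by group
    _ = _ := by rw [U4.conj_eq_of_mem_cent1 (cent_le_cent1 h.mem hc), U4.conj_eq_of_mem_cent1 hx]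

theorem exists_v {c : G} (h1 : c ∈ 𝐂[f]) (h2 : c ∈ 𝐍(E)) (h3 : Odd (orderOf c)) (h4 : c ∉ 𝐂(E)) :
    ∃ v ∈ Od 𝐍(P), v ∈ 𝐂[f] ∧ (orderOf v).Coprime k ∧ v ∉ 𝐂(E) := by
  obtain ⟨d, hd, h5⟩ := h.exists_norm hP hE (g := c) (by
    rw [← cj_le_iff, map_conj_eq_of_mem_normalizer h2]; exact hE)
  have h6 : c * d * (c * d) ∈ Od 𝐍(P) := by
    refine nilp2_of_not_four_dvd (h.loc P hP.isPGroup hE) _ (mul_mem h5 h5) ?_
    rw [← pow_two, orderOf_pow, ← Nat.not_even_iff_odd, even_iff_two_dvd]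
    intro h7
    refine h.loc P hP.isPGroup hE (Dvd.dvd.trans ?_ (Subgroup.orderOf_dvd_natCard _ h5))
    by_cases h8 : 2 ∣ orderOf (c * d)
    · rw [Nat.gcd_eq_right h8] at h7; omega
    · exact absurd (h7.trans (Nat.div_dvd_of_dvd (Nat.gcd_dvd_left _ _))) h8
  have h7 : c * d ∈ 𝐂[f] := mul_mem h1 (cent_le_cent1 h.mem hd)
  obtain ⟨u, hu, v, hv, e, -, hu', hv'⟩ := exists_p_part hk.out (c * d * (c * d))
  refine ⟨v, zpowers_le.2 h6 hv, zpowers_le.2 (mul_mem h7 h7) hv, hv', fun h8 => h4 ?_⟩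
  have h9 : u ∈ E := (h.inf_eq hP.isPGroup hE).le ⟨zpowers_le.2 (mul_mem h7 h7) hu,
    le_sylow_of_norm hP (isPGroup_zpowers_iff.2 hu') le_top
      ((zpowers_le.2 hu).trans (zpowers_le.2 (mul_mem h5 h5))) (mem_zpowers u)⟩
  have h10 := mul_mem (mul_mem (mul_mem (h.le_cent h9) h8) (inv_mem hd))
    (inv_mem (conj_mem_of_mem_normalizer' (H1.le_normalizer_centralizer le_rfl h2) hd))
  rw [← e] at h10
  exact zpowers_le.2 h10 (by convert mem_zpowers_sq h3 using 2; group)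

theorem comm_mem {v : G} (h1 : v ∈ Od 𝐍(P)) (h2 : v ∈ 𝐂[f]) (h3 : (orderOf v).Coprime k)
    (h4 : v ∉ 𝐂(E)) {n : G} (hn : n ∈ 𝐍(P)) : n * f * n⁻¹ * f⁻¹ ∈ ⁅P, P⁆ := by
  have hf := hE h.mem
  have h5 : fixm P v (Od_le _ h1) < P := lt_of_le_of_ne (fun _ hx => hx.1) fun e =>
    h4 (centralizer_le hE (mem_centralizer_of_commutator_mem_frattini (Od_le _ h1) (by
      obtain ⟨n, hn⟩ := IsPGroup.iff_card.1 hP.isPGroup
      exact hn ▸ h3.pow_right n) fun y hy =>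
        Cop.commutator_le_frattini_map hP.isPGroup (e.ge hy).2))
  have h6 : ⁅P, P⁆ ⊔ zpowers f = fixm P v (Od_le _ h1) := by
    refine eq_of_le_of_card_ge (sup_le (fun x hx => ⟨der_le P hx, mul_mem
      (conj_mem_of_mem_normalizer (norm_le_norm_der P (Od_le _ h1)) hx) (inv_mem hx)⟩)
      (zpowers_le.2 ⟨hf, by rw [U4.conj_eq_of_mem_cent1 h2, mul_inv_cancel]; exact one_mem _⟩)) ?_
    have a1 := PGrp.mul_card_le_card_of_lt hP.isPGroup h5
    have a2 := PGrp.mul_card_le_card_of_lt (H := ⁅P, P⁆) (K := ⁅P, P⁆ ⊔ zpowers f)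
      (hP.isPGroup.to_le (sup_le (der_le P) (zpowers_le.2 hf))) (lt_of_le_of_ne le_sup_left
        fun e => h.notMem hP.isPGroup hE (e.ge (mem_sup_right (mem_zpowers f))))
    rw [← card_mul_relIndex (der_le P), (h.cls' hP.isPGroup hE (mem_zpowers f) h.ne_one).1,
      pow_two, ← mul_assoc, mul_comm _ k, mul_comm _ k] at a1
    exact (Nat.le_of_mul_le_mul_left a1 hk.out.pos).trans a2
  have key : ∀ m ∈ 𝐍(P), m⁻¹ * v * m * f * (m⁻¹ * v * m)⁻¹ * f⁻¹ ∈ ⁅P, P⁆ →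
      m * f * m⁻¹ * f⁻¹ ∈ ⁅P, P⁆ := fun m hm h7 => by
    obtain ⟨y, hy, g, hg, e⟩ := mem_sup_norm (zpowers_le.2 (le_norm_der P hf)) (h6.ge
      ⟨conj_mem_of_mem_normalizer hm hf, by
        convert conj_mem_of_mem_normalizer (norm_le_norm_der P hm) h7 using 1; group⟩)
    have h8 : g ≠ 1 := fun e' => h.notMem hP.isPGroup hE (by
      rw [e', mul_one] at e
      convert conj_mem_of_mem_normalizer' (norm_le_norm_der P hm) hy using 1
      rw [e]; group)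
    obtain ⟨p, hp, e'⟩ := (h.cls' hP.isPGroup hE hg h8).2 y hy
    have h9 : p⁻¹ * m ∈ 𝐂[f] := h.norm (mem_normalizer_of_map_conj_eq (by
      rw [cj_zpowers, ← zpowers_eq_prime h.card_zp hg h8]
      congr 1
      calc p⁻¹ * m * f * (p⁻¹ * m)⁻¹ = p⁻¹ * (m * f * m⁻¹) * p := by group
        _ = g := by rw [← e, ← e']; group))
    convert commutator_mem_commutator hp hf using 1
    calc m * f * m⁻¹ * f⁻¹ = p * (p⁻¹ * m * f * (p⁻¹ * m)⁻¹) * p⁻¹ * f⁻¹ := by group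
      _ = _ := by rw [U4.conj_eq_of_mem_cent1 h9, commutatorElement_def]
  have k2 : ∀ a ∈ Od 𝐍(P), a * f * a⁻¹ * f⁻¹ ∈ ⁅P, P⁆ := fun a ha => key a (Od_le _ ha) (by
    obtain ⟨c, hc, p, hp, e⟩ := mem_sup_norm (H1.le_normalizer_centralizer le_normalizer)
      (h.der_le_sup hP.isPGroup hE (hP.mono le_normalizer le_top)
        (commutator_mem_commutator (inv_mem h1) (inv_mem ha)))
    have e1 : a⁻¹ * v * a = v * c * p := by rw [mul_assoc v, e, commutatorElement_def]; group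
    have e2 := U4.conj_eq_of_mem_cent1 (cent_le_cent1 (conj_mem_of_mem_normalizer
      (le_normalizer hp) hf) hc)
    convert conj_mem_of_mem_normalizer (norm_le_norm_der P (Od_le _ h1))
      (commutator_mem_commutator hp hf) using 1
    calc _ = v * (c * (p * f * p⁻¹) * c⁻¹) * v⁻¹ * f⁻¹ := by rw [e1]; group
      _ = v * (p * f * p⁻¹) * v⁻¹ * (v * f * v⁻¹)⁻¹ := by rw [e2, U4.conj_eq_of_mem_cent1 h2]
      _ = _ := by rw [commutatorElement_def]; group)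
  exact key n hn (k2 _ (conj_mem_of_mem_normalizer' (le_norm_Od _ hn) h1))

omit hP hE in
/-- The local lemma. -/
theorem not_perfect {c : G} (h1 : c ∈ 𝐂[f]) (h2 : c ∈ 𝐍(E)) (h3 : Odd (orderOf c))
    (h4 : c ∉ 𝐂(E)) : _root_.commutator G ≠ ⊤ := fun hp => by
  obtain ⟨P, hE, hP⟩ := IsSylowIn.exists_ge h.syl.isPGroup (le_top (a := E))
  obtain ⟨v, a1, a2, a3, a4⟩ := h.exists_v hP hE h1 h2 h3 h4
  refine h.notMem hP.isPGroup hE (FrobNPC.mem_of_pow_mem_of_coprime (n := P.index) ?_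
    (pow_index_mem hp le_rfl (hE h.mem) fun n g hg => ?_))
  · rw [h.ord, hk.out.coprime_iff_not_dvd, ← relIndex_top_right]
    exact hP.not_dvd
  by_cases e : f ^ n = 1
  · simp [e]
  obtain ⟨m, hm, e'⟩ := h.fusion hP hE (g := g⁻¹) (by
    rw [inv_inv, ← mem_map_conj_iff]
    exact (zpowers_eq_prime h.card_zp (pow_mem (mem_zpowers f) n) e).ge.trans
      (zpowers_le.2 (mem_map_conj_iff.2 hg)) (mem_zpowers f))
  have := (pow_mem (show f ∈ fixm P m hm from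
    ⟨hE h.mem, h.comm_mem hP hE a1 a2 a3 a4 hm⟩) n).2
  rwa [← conj_pow, e', conj_pow, inv_inv] at this

end LLH

end CfsgLib.H5.JB
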