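import Cfsg.Agent.Lib.Wal.List
import Cfsg.Agent.Lib.Wal.H5BAut
import Cfsg.Agent.Lib.Wal.H5BLoc

/-!
# Involution centralizers of Janko–Ree type up to field automorphisms: the frame
-/

set_option autoImplicit false

namespace CfsgLib.H5.JB

open Subgroup Cfsg CfsgLib.FT CfsgLib.FT.BGN CfsgLib.Cop CfsgLib.GW CfsgLib.Wal
open CfsgLib.H1 (AbTwo)
open CfsgLib.FT.U4 (mem_cent1 mem_cent1' mem_cent mem_cent1_comm cent1_conj
  eq_one_of_mem_inf eq_bot_of_forall conj_mem_conj_iff orderOf_conj)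
open scoped commutatorElement MatrixGroups

universe u

section general
variable {G : Type*} [Group G] [Finite G] {S X M K : Subgroup G} {a b n t s : G}

/-- All `2`-subgroups are elementary abelian. -/
def AllEl (G : Type*) [Group G] : Prop := ∀ P : Subgroup G, IsPGroup 2 P → El P

theorem allEl_of_sylow (hS : IsSylowIn 2 S ⊤) (h : El S) : AllEl G := fun P hP => by
  obtain ⟨g, -, h1⟩ := hS.exists_conj_le hP le_top
  have := (h.mono h1).cj g⁻¹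
  rwa [map_conj_inv_map_conj] at this

omit [Finite G] in
theorem AllEl.abTwo (h : AllEl G) : AbTwo G := fun P hP => (h P hP).mulComm

theorem AllEl.sylow (h : AllEl G) (hS : MaxE S X) : IsSylowIn 2 S X :=
  IsSylowIn.of_maximal hS.le hS.el.isPGroup fun P hP h1 h2 =>
    hS.le_of_cent (h P hP) h2 ((h P hP).le_cent' le_rfl h1)

theorem AllEl.two_part (h : AllEl G) (x : G) : ∃ u ∈ zpowers x, ∃ v ∈ zpowers x, x = u * v ∧
    u * u = 1 ∧ Odd (orderOf v) := by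
  obtain ⟨u, hu, v, hv, e, -, h1, h2⟩ := exists_p_part Nat.prime_two x
  exact ⟨u, hu, v, hv, e, h _ (isPGroup_zpowers_iff.2 h1) u (mem_zpowers u),
    Nat.coprime_two_right.1 h2⟩

theorem AllEl.exists_four (h : AllEl G) (h4 : 4 ∣ Nat.card M) : ∃ a ∈ M, ∃ b ∈ M, Four a b := by
  obtain ⟨P, hP⟩ := Sylow.exists_subgroup_card_pow_prime (G := M) 2 (n := 2) h4
  have h1 : Nat.card (P.map M.subtype) = 4 := (card_map_of_injective M.subtype_injective).trans hP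
  have h2 := h (P.map M.subtype) (IsPGroup.of_card (n := 2) h1)
  obtain ⟨a, ha, a1⟩ := exists_mem_ne_one (X := P.map M.subtype) fun e => by
    rw [e, card_bot] at h1; omega
  obtain ⟨b, hb, b1⟩ : ∃ b ∈ P.map M.subtype, b ∉ zpowers a := SetLike.not_le_iff_exists.1 fun e => by
    have := card_le_of_le e
    rw [h1, card_zpowers_inv (h2.ord ha a1)] at this
    omega
  rw [mem_zpowers_inv (h2.ord ha a1), not_or] at b1
  exact ⟨a, map_subtype_le P ha, b, map_subtype_le P hb, h2.four ha hb a1 b1.1 (Ne.symm b1.2)⟩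

theorem AllEl.fix (h : AllEl G) (h4 : Four a b) (hn : n ∈ 𝐍(V a b)) (e : n ∈ 𝐂[a]) :
    n ∈ 𝐂(V a b) := by
  obtain ⟨u, hu, v, hv, e', h1, h2⟩ := h.two_part n
  refine e' ▸ mul_mem (ab_cent_of_norm h.abTwo (el_zpowers h1).isPGroup h4.isPGroup_V
    ((zpowers_le.2 hu).trans (zpowers_le.2 hn)) (mem_zpowers u)) ?_
  have h3 := U4.conj_eq_of_mem_cent1 (zpowers_le.2 e hv)
  rw [cent_V]
  refine ⟨zpowers_le.2 e hv, mem_cent1_comm.1 (mem_cent1_of_sq h2 (mem_cent1_comm.1 ?_))⟩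
  rcases h4.mem_V.1 (conj_mem_of_mem_normalizer (zpowers_le.2 hn hv) (s_mem_V a b))
    with h5 | h5 | h5 | h5
  · exact absurd h5 (U4.conj_ne_one_iff.2 h4.s1)
  · exact absurd (mul_left_cancel (mul_right_cancel (h5.trans h3.symm))).symm h4.ne
  · exact mul_mem (U4.mem_cent1_of_conj_eq h5) (U4.mem_cent1_of_conj_eq h5)
  · refine U4.mem_cent1_of_conj_eq ?_
    calc v * v * b * (v * v)⁻¹ = v * (v * b * v⁻¹) * v⁻¹ := by group
      _ = v * (a * b) * v⁻¹ := by rw [h5]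
      _ = (v * a * v⁻¹) * (v * b * v⁻¹) := by group
      _ = b := by rw [h3, h5, ← mul_assoc, h4.tt, one_mul]

variable (h : AllEl G) (hS : MaxE S ⊤) (h8 : Nat.card S = 8) (h1 : OneCl (⊤ : Subgroup G))
include h hS h8 h1

theorem relIndex_seven (ht : t ∈ S) (t1 : t ≠ 1) : (𝐂[t]).relIndex 𝐍(S) = 7 := by
  rw [← Frob.ncard_conj_subgroup]
  have : {y : G | ∃ x ∈ 𝐍(S), x * t * x⁻¹ = y} = (S : Set G) \ {1} := by
    ext y
    constructor
    · rintro ⟨x, hx, rfl⟩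
      exact ⟨conj_mem_of_mem_normalizer hx ht, U4.conj_ne_one_iff.2 t1⟩
    · rintro ⟨hy, y1⟩
      obtain ⟨x, hx, e⟩ := hS.trans h.abTwo h1 ht hy t1 y1
      exact ⟨x, hx.2, e⟩
  rw [this, Set.ncard_diff_singleton_of_mem (one_mem S)]
  exact congrArg (· - 1) h8

theorem trans8 (ht : t ∈ S) (t1 : t ≠ 1) (hK : K ≤ 𝐍(S)) (hn : 𝐍(S) ≤ 𝐍(K)) (hc : ¬ K ≤ 𝐂(S))
    (hs : s ∈ S) (s1 : s ≠ 1) : ∃ k ∈ K, k * t * k⁻¹ = s := by
  have h2 := relIndex_mul_relIndex (𝐂[t] ⊓ 𝐍(S)) (K ⊔ 𝐂[t] ⊓ 𝐍(S)) 𝐍(S) le_sup_right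
    (sup_le hK inf_le_right)
  rw [inf_relIndex_right, relIndex_seven h hS h8 h1 ht t1] at h2
  rcases (Nat.dvd_prime (by norm_num)).1 (Dvd.intro _ h2) with h3 | h3
  · refine absurd (fun x hx => mem_cent.2 fun y hy => ?_) hc
    by_cases e : y = 1
    · simp [e]
    obtain ⟨m, hm, rfl⟩ := hS.trans h.abTwo h1 ht hy t1 e
    refine mem_cent1'.1 ?_
    rw [cent1_conj, mem_map_conj_iff]
    exact (relIndex_eq_one.1 h3 (mem_sup_left (conj_mem_of_mem_normalizer' (hn hm.2) hx))).1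
  · rw [h3] at h2
    obtain ⟨m, hm, rfl⟩ := hS.trans h.abTwo h1 ht hs t1 s1
    obtain ⟨k, hk, c, hc, rfl⟩ := mem_sup_norm (inf_le_right.trans hn)
      (relIndex_eq_one.1 (by omega : (K ⊔ 𝐂[t] ⊓ 𝐍(S)).relIndex 𝐍(S) = 1) hm.2)
    refine ⟨k, hk, ?_⟩
    calc _ = k * (c * t * c⁻¹) * k⁻¹ := by rw [U4.conj_eq_of_mem_cent1 hc.1]
      _ = _ := by group

theorem simple_Jv (hO : Od (⊤ : Subgroup G) = ⊥) (hJ : ¬ Jv ⊤ ≤ S) : OneCl (Jv (⊤ : Subgroup G)) ∧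
    IsSimpleGroup (Jv (⊤ : Subgroup G)) ∧ ¬ IsMulCommutative (Jv (⊤ : Subgroup G)) := by
  have hSJ : S ≤ Jv ⊤ := fun x hx => by
    by_cases e : x = 1
    · exact e ▸ one_mem _
    · exact mem_Jv trivial (hS.el.ord hx e)
  have hS' := hS.mono hSJ le_top
  have hO' : Od (Jv (⊤ : Subgroup G)) = ⊥ := le_bot_iff.1 (hO ▸ Od_le_Od le_top (le_norm_Jv ⊤))
  have hc : ¬ Jv ⊤ ⊓ 𝐍(S) ≤ 𝐂(S) := fun hc => hJ (Jv_le_of fun u _ hu => by
    refine hS.mem u trivial (mul_self_of_inv hu) (mem_cent.2 fun y hy => ?_)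
    have := hS'.zstar h.abTwo hy (mem_cent.2 fun z hz => (mem_cent.1 (hc hz) y hy).symm)
      (mem_Jv trivial hu)
    rw [hO', mem_bot, mul_inv_eq_one, mul_inv_eq_iff_eq_mul] at this
    exact this.symm)
  have h2 : OneCl (Jv (⊤ : Subgroup G)) := fun u hu v hv h3 h4 => by
    obtain ⟨g, hg, h5⟩ := hS'.exists_conj_mem h.abTwo hu (mul_self_of_inv h3)
    obtain ⟨k, hk, h6⟩ := hS'.exists_conj_mem h.abTwo hv (mul_self_of_inv h4)
    obtain ⟨m, hm, e⟩ := trans8 h hS h8 h1 h5 (U4.conj_ne_one_iff.2 (ne_one_of_inv h3))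
      inf_le_right (H1.le_normalizer_inf (le_top.trans (le_norm_Jv ⊤)) le_normalizer) hc h6
      (U4.conj_ne_one_iff.2 (ne_one_of_inv h4))
    refine ⟨k⁻¹ * m * g, mul_mem (mul_mem (inv_mem hk) hm.1) hg, ?_⟩
    calc _ = k⁻¹ * (m * (g * u * g⁻¹) * m⁻¹) * k := by group
      _ = v := by rw [e]; group
  obtain ⟨a, ha, b, hb, h4⟩ := h.exists_four (M := Jv ⊤)
    ((Dvd.intro 2 h8.symm).trans (card_dvd_of_le hSJ))
  have h5 := h4.coe ha hb
  have : Nontrivial (Jv (⊤ : Subgroup G)) := ⟨_, _, h5.ne⟩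
  refine ⟨h2, ⟨fun N hN => ?_⟩, fun hc => ?_⟩
  · by_cases ho : Odd (Nat.card N)
    · exact Or.inl (eq_bot_of_forall fun x hx => Subtype.ext (mem_bot.1
        (hO' ▸ mem_Od_top.1 (le_Od le_top le_normalizer_of_normal ho hx))))
    · exact Or.inr (top_le_iff.1 ((Jv_top (Jv_Jv (⊤ : Subgroup G))).ge.trans (Jv_le_of
        fun u hu h3 => h2.top.mem_of_not_odd le_top le_normalizer_of_normal ho h3 hu)))
  · obtain ⟨g, -, e⟩ := h2.top _ trivial _ trivial h5.ot h5.os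
    rw [hc.is_comm.comm g, mul_inv_cancel_right] at e
    exact h5.ne e

end general

variable {G : Type u} [Group G] [Finite G] {t a b : G} {L : Subgroup G} {q : ℕ}

theorem allEl (h : WJR t L q) : AllEl G := by
  obtain ⟨P, hP⟩ := IsSylowIn.exists_in (p := 2) 𝐂[t]
  exact allEl_of_sylow (sylow_trans hP le_top (by
    rw [relIndex_top_right, ← even_iff_two_dvd, Nat.not_even_iff_odd]; exact h.odd))
    (h.el_cent hP.isPGroup hP.le)

/-- The Sylow `2`-subgroup. -/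
abbrev SS (t a b : G) : Subgroup G := zpowers t ⊔ V a b

/-- A four-subgroup of `L` whose odd centralizers are field automorphisms. -/
structure Fr (t : G) (L : Subgroup G) (q : ℕ) (a b : G) : Prop extends WJR t L q where
  four : Four a b
  aL : a ∈ L
  bL : b ∈ L
  cV : L ⊓ 𝐂(V a b) ≤ V a b
  comm : ∀ x ∈ 𝐂(SS t a b), ∀ y ∈ 𝐂(SS t a b), Odd (orderOf x) → Odd (orderOf y) → x * y = y * x
  sub : ∀ f ∈ 𝐂(SS t a b), Odd (orderOf f) → (orderOf f).Prime → ∃ r : ℕ, r ^ orderOf f = q ∧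
    (∃ (F : Type) (_ : Field F) (_ : Fintype F), Fintype.card F = r ∧
      Nonempty (↥(L ⊓ 𝐂[f]) ≃* Matrix.ProjectiveSpecialLinearGroup (Fin 2) F)) ∧
    ∀ x ∈ 𝐂(SS t a b), Odd (orderOf x) → x ∈ 𝐂(L ⊓ 𝐂[f]) ∨ r.Prime → x ∈ zpowers f
  cyc : ∀ X ≤ 𝐂(SS t a b), Odd (Nat.card X) → IsCyclic X

theorem isCyclic_aut (F : Type*) [Field F] [Finite F] : IsCyclic (F ≃+* F) := by
  obtain ⟨p, hp⟩ := CharP.exists F
  have : Fact p.Prime := ⟨CharP.char_is_prime F p⟩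
  have := Fintype.ofFinite F
  obtain ⟨n, -, hn⟩ := FiniteField.card F p
  refine ⟨frobeniusEquiv F p, fun σ => ?_⟩
  obtain ⟨j, -, hj⟩ := Suz.exists_frob_pow (p := p) (n := n)
    (by rw [Nat.card_eq_fintype_card, hn]) σ
  refine ⟨j, RingEquiv.ext fun x => ?_⟩
  rw [hj]
  change (frobeniusEquiv F p ^ (j : ℤ)) x = _
  rw [zpow_natCast]
  clear hj
  induction j with
  | zero => simp
  | succ j ih => rw [pow_succ', RingAut.mul_apply, ih, frobeniusEquiv_def, ← pow_mul, pow_succ]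

theorem fld_inj {F : Type*} [Field F] (h2 : (2 : F) ≠ 0) {σ : F ≃+* F} (h : fld σ = 1) : σ = 1 :=
  RingEquiv.ext fun c => up_inj h2 (by
    have := congrArg (· (up c)) h
    simp only [fld_apply, pmap_up] at this
    exact this)

open BSW in
theorem exists_fr (h : WJR t L q) : ∃ a b, Fr t L q a b := by
  obtain ⟨F, _, _, hq, ⟨e⟩⟩ := h.iso
  have h8 := hq ▸ h.mod
  have h2 : (2 : F) ≠ 0 := GW.PA.two_ne_zero_of_card h8
  obtain ⟨m, n, hmn⟩ := exists_ab (F := F)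
  let ι := L.subtype.comp e.symm.toMonoidHom
  have hι : Function.Injective ι := L.subtype_injective.comp e.symm.injective
  have hL : ∀ x, ι x ∈ L := fun x => (e.symm x).2
  have hL' : ∀ y ∈ L, ∃ x, ι x = y := fun y hy => ⟨e ⟨y, hy⟩, by simp [ι]⟩
  let Θ : 𝐂[t] →* MulAut PSL(2, F) := ((MulAut.congr e).toMonoidHom.comp
    L.normalizerMonoidHom).comp (inclusion h.norm)
  have hΘ : ∀ x y, ι (Θ x y) = x * ι y * (x : G)⁻¹ := fun x y => by simp [ι, Θ]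
  have inj : ∀ x y : 𝐂[t], Odd (orderOf (x : G)) → Odd (orderOf (y : G)) → Θ x = Θ y →
      (x : G) = y := fun x y hx hy e => by
    have h3 : (y : G)⁻¹ * x ∈ zpowers t := h.cent.le ⟨(y⁻¹ * x).2, mem_cent.2 fun z hz => by
      obtain ⟨z, rfl⟩ := hL' z hz
      have := hΘ (y⁻¹ * x) z
      rw [map_mul, map_inv, e, inv_mul_cancel] at this
      exact eq_mul_inv_iff_mul_eq.1 this⟩
    rcases (mem_zpowers_inv h.ord).1 h3 with h3 | h3
    · exact (inv_mul_eq_one.1 h3).symm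
    · have h4 := congrArg (· ^ (orderOf (x : G) * orderOf (y : G))) (inv_mul_eq_iff_eq_mul.1 h3)
      simp only [Commute.mul_pow (mem_cent1.1 y.2), pow_mul, pow_orderOf_eq_one, one_pow] at h4
      rw [← pow_mul, mul_comm, pow_mul, pow_orderOf_eq_one, one_pow, one_mul, ← pow_mul,
        pow_odd_of_sq (mul_self_of_inv h.ord) (hx.mul hy)] at h4
      exact absurd h4.symm (ne_one_of_inv h.ord)
  have h4 : Four (ι (piP F (mI F))) (ι (piP F (mJ hmn))) :=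
    ⟨(orderOf_injective ι hι _).trans (inv_of_mul_self (piP_sq mI_sq) (piP_ne_one h2 mI_sq)),
      (orderOf_injective ι hι _).trans
        (inv_of_mul_self (piP_sq (mJ_sq hmn)) (piP_ne_one h2 (mJ_sq hmn))),
      by rw [← map_mul, ij_comm, map_mul], fun e => ij_ne hmn h2 (hι e)⟩
  have ct : 𝐂(SS t (ι (piP F (mI F))) (ι (piP F (mJ hmn)))) ≤ 𝐂[t] :=
    cent_le_cent1 (mem_sup_left (mem_zpowers t))
  have act : ∀ x (hx : x ∈ 𝐂(SS t (ι (piP F (mI F))) (ι (piP F (mJ hmn))))), Odd (orderOf x) →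
      ∃ σ, Θ ⟨x, ct hx⟩ = fld σ := fun x hx ho =>
    aut_eq_fld h8 hmn _ (ho.of_dvd_nat ((orderOf_map_dvd Θ _).trans (orderOf_mk _ _).dvd))
      (hι ((hΘ _ _).trans (U4.conj_eq_of_mem_cent1 (cent_le_cent1 (mem_sup_right (t_mem_V _ _)) hx))))
      (hι ((hΘ _ _).trans (U4.conj_eq_of_mem_cent1 (cent_le_cent1 (mem_sup_right (s_mem_V _ _)) hx))))
  refine ⟨_, _, { h with
    four := h4, aL := hL _, bL := hL _, cV := fun y hy => ?_, comm := fun x hx y hy h5 h6 => ?_,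
    sub := fun f hf h5 h6 => ?_, cyc := fun X hX h5 => ?_ }⟩
  · obtain ⟨y, rfl⟩ := hL' y hy.1
    have h5 := hy.2
    rw [cent_V] at h5
    rcases cent_ij hmn h2 (g := y) (hι (by rw [map_mul, map_mul]; exact mem_cent1.1 h5.1))
      (hι (by rw [map_mul, map_mul]; exact mem_cent1.1 h5.2)) with rfl | rfl | rfl | rfl
    · exact map_one ι ▸ one_mem _
    · exact t_mem_V _ _
    · exact s_mem_V _ _
    · exact map_mul ι _ _ ▸ mul_mem (t_mem_V _ _) (s_mem_V _ _)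
  · obtain ⟨σ, hσ⟩ := act x hx h5
    obtain ⟨τ, hτ⟩ := act y hy h6
    exact mul_inv_eq_iff_eq_mul.1 (inj (⟨x, ct hx⟩ * ⟨y, ct hy⟩ * (⟨x, ct hx⟩ : 𝐂[t])⁻¹) ⟨y, ct hy⟩
      ((orderOf_conj x y).symm ▸ h6) h6 (by
        rw [map_mul, map_mul, map_inv, hσ, hτ, ← map_mul, fld_comm, map_mul, mul_inv_cancel_right]))
  · obtain ⟨σ, hσ⟩ := act f hf h5
    haveI := Fact.mk h6
    have ho : orderOf σ = orderOf f := orderOf_eq_prime (fld_inj h2 (by
      rw [map_pow, ← hσ, ← map_pow, ← map_one Θ]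
      exact congrArg Θ (Subtype.ext (pow_orderOf_eq_one f)))) fun e' => h6.one_lt.ne' (by
        rw [orderOf_eq_one_iff]
        exact inj ⟨f, ct hf⟩ 1 h5 (by simp) (by rw [hσ, e', map_one, map_one]))
    have h7 : ∀ y, ι y ∈ 𝐂[f] ↔ fld σ y = y := fun y => by
      rw [← hσ, ← hι.eq_iff, hΘ, mul_inv_eq_iff_eq_mul, mem_cent1']
    have h9 : (ι.comp (pmap (fix σ).subtype)).range = L ⊓ 𝐂[f] := by
      ext y
      constructor
      · rintro ⟨y, rfl⟩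
        exact ⟨hL _, (h7 _).2 ((fld_fix_iff h2 (ho ▸ h5)).2 ⟨y, rfl⟩)⟩
      · rintro ⟨h8, h9⟩
        obtain ⟨y, rfl⟩ := hL' y h8
        obtain ⟨z, rfl⟩ := (fld_fix_iff h2 (ho ▸ h5)).1 ((h7 y).1 h9)
        exact ⟨z, rfl⟩
    letI := Fintype.ofFinite (fix σ)
    refine ⟨Nat.card (fix σ), by rw [← ho, card_fix, Nat.card_eq_fintype_card, hq],
      ⟨fix σ, inferInstance, inferInstance, Nat.card_eq_fintype_card.symm,
        ⟨(MulEquiv.subgroupCongr h9.symm).trans (MonoidHom.ofInjective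
          (f := ι.comp (pmap (fix σ).subtype)) (hι.comp (pmap_inj (fix σ).subtype))).symm⟩⟩,
      fun x hx h10 h11 => ?_⟩
    obtain ⟨τ, hτ⟩ := act x hx h10
    obtain ⟨j, hj⟩ := mem_zpowers_of_fix h2 (σ := σ) (τ := τ) fun y hy => by
      rcases h11 with h11 | h11
      · rw [← hτ, ← hι.eq_iff, hΘ, mul_inv_eq_iff_eq_mul]
        exact (mem_cent.1 h11 _ ⟨hL y, (h7 y).2 hy⟩).symm
      · obtain ⟨z, rfl⟩ := (fld_fix_iff h2 (ho ▸ h5)).1 hy
        rw [fld_apply, pmap_pmap]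
        congr 2
        exact RingHom.ext fun c => fix_of_prime h11 (mem_fix.1 c.2)
    have : x = f ^ j := inj ⟨x, ct hx⟩ (⟨f, ct hf⟩ ^ j) h10 (h5.of_dvd_nat (orderOf_pow_dvd j))
      (by rw [map_pow, hσ, hτ, hj, map_pow])
    exact this ▸ pow_mem (mem_zpowers f) j
  · haveI := isCyclic_aut F
    haveI := isCyclic_of_surjective _ (fld (F := F)).rangeRestrict_surjective
    refine isCyclic_of_injective ((Θ.comp (inclusion (hX.trans ct))).codRestrict fld.range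
      fun x => ?_) fun x y e => Subtype.ext (inj (inclusion (hX.trans ct) x)
        (inclusion (hX.trans ct) y) (odd_orderOf_of_mem h5 x.2) (odd_orderOf_of_mem h5 y.2)
        (congrArg Subtype.val e))
    obtain ⟨σ, hσ⟩ := act x (hX x.2) (odd_orderOf_of_mem h5 x.2)
    exact ⟨σ, hσ.symm⟩

namespace Fr

variable (h : Fr t L q a b) {x f u : G}
include h

theorem hel : AllEl G := allEl h.toWJR

omit [Finite G] in
theorem VL : V a b ≤ L := V_le h.aL h.bL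

omit [Finite G] in
theorem el : El (SS t a b) := (el_zpowers (mul_self_of_inv h.ord)).sup (Wal.Four.el h.four)
  (h.VL.trans (h.le.trans (U4.cent_zpowers t).ge))

omit h [Finite G] in
theorem tS : t ∈ SS t a b := mem_sup_left (mem_zpowers t)

omit [Finite G] in
theorem S_le : SS t a b ≤ 𝐂[t] := h.el.le_cent1 tS

omit [Finite G] in
theorem maxV : MaxE (V a b) L := ⟨h.VL, Wal.Four.el h.four, fun _ hu _ hc => h.cV ⟨hu, hc⟩⟩

omit [Finite G] in
theorem mem_S (hx : x ∈ zpowers t ⊔ L) (hc : x ∈ 𝐂(V a b)) : x ∈ SS t a b := by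
  rcases h.mem_or hx with h1 | h1
  · exact mem_sup_right (h.cV ⟨h1, hc⟩)
  · exact (mul_mem_cancel_left tS).1 (mem_sup_right (h.cV ⟨h1,
      mul_mem (h.el.le_cent' le_rfl le_sup_right tS) hc⟩))

omit h [Finite G] in
theorem ct : 𝐂(SS t a b) ≤ 𝐂[t] := cent_le_cent1 tS

omit h [Finite G] in
theorem cV' : 𝐂(SS t a b) ≤ 𝐂(V a b) :=
  centralizer_le (show ((V a b : Subgroup G) : Set G) ⊆ _ from (le_sup_right : V a b ≤ _))

omit h [Finite G] in
theorem cS (h1 : x ∈ 𝐂[t]) (h2 : x ∈ 𝐂(V a b)) : x ∈ 𝐂(SS t a b) := by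
  rw [cent_sup, U4.cent_zpowers]; exact ⟨h1, h2⟩

omit h [Finite G] in
theorem nS (h1 : x ∈ 𝐂[t]) (h2 : x ∈ 𝐍(V a b)) : x ∈ 𝐍(SS t a b) :=
  H1.le_normalizer_sup (zpowers_le.2 (cent_le_norm _ ((U4.cent_zpowers t).ge h1)))
    (zpowers_le.2 h2) (mem_zpowers x)

theorem maxE : MaxE (SS t a b) ⊤ := ⟨le_top, h.el, fun u _ h1 h2 =>
  h.mem_S (h.two_le (el_zpowers h1).isPGroup (zpowers_le.2 (ct h2)) (mem_zpowers u)) (cV' h2)⟩

theorem card_S : Nat.card (SS t a b) = 8 := by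
  rw [card_sup_of_disjoint (le_sup_left.trans (h.el.le_norm le_sup_right))
    (eq_bot_of_forall fun x hx => ((mem_zpowers_inv h.ord).1 hx.1).resolve_right
      fun e => h.notMem (e ▸ h.VL hx.2)), card_zpowers_inv h.ord, h.four.card_V]

/-- The field automorphisms. -/
def F : Subgroup G where
  carrier := {x | x ∈ 𝐂(SS t a b) ∧ Odd (orderOf x)}
  one_mem' := ⟨one_mem _, by simp⟩
  mul_mem' := fun {x y} hx hy => ⟨mul_mem hx.1 hy.1, (hx.2.mul hy.2).of_dvd_nat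
    (Commute.orderOf_mul_dvd_mul_orderOf (h.comm x hx.1 y hy.1 hx.2 hy.2))⟩
  inv_mem' := fun hx => ⟨inv_mem hx.1, by rw [orderOf_inv]; exact hx.2⟩

omit [Finite G] in
theorem F_le : h.F ≤ 𝐂[t] := fun _ hx => ct hx.1

omit [Finite G] in
theorem F_comm : h.F ≤ 𝐂(h.F) := fun x hx => mem_cent.2 fun y hy => h.comm y hy.1 x hx.1 hy.2 hx.2

omit [Finite G] in
theorem eq_one (hx : x ∈ h.F) (h1 : x ∈ zpowers t ⊔ L) : x = 1 :=
  eq_one_of_odd_of_mul_self hx.2 (h.el x (h.mem_S h1 (cV' hx.1)))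

theorem norm_F : 𝐍(SS t a b) ≤ 𝐍(h.F) := fun g hg => mem_normalizer_of_conj_mem fun x hx =>
  ⟨conj_mem_of_mem_normalizer (U4.norm_le_norm_cent _ hg) hx.1, (orderOf_conj g x).symm ▸ hx.2⟩

theorem two_odd (hx : x ∈ 𝐂(SS t a b)) : ∃ u ∈ SS t a b ⊓ zpowers x, ∃ v ∈ h.F ⊓ zpowers x,
    x = u * v := by
  obtain ⟨u, hu, v, hv, e, h1, h2⟩ := h.hel.two_part x
  exact ⟨u, ⟨h.maxE.mem u trivial h1 (zpowers_le.2 hx hu), hu⟩, v,
    ⟨⟨zpowers_le.2 hx hv, h2⟩, hv⟩, e⟩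

theorem dec (hx : x ∈ 𝐂[t]) : ∃ r ∈ zpowers t ⊔ L, ∃ v ∈ h.F, x = r * v := by
  obtain ⟨l, hl, h1⟩ := h.maxV.frattini h.hel.abTwo (h.norm hx)
  obtain ⟨n, hn, h2⟩ := h.kt.1.trans h.maxV (conj_mem_of_mem_normalizer h1 (t_mem_V a b))
    (t_mem_V a b) (U4.conj_ne_one_iff.2 h.four.t1) h.four.t1
  obtain ⟨u, hu, v, hv, e⟩ := h.two_odd (cS (mul_mem (h.le hn.1) (mul_mem (h.le hl) hx))
    (h.hel.fix h.four (mul_mem hn.2 h1) (U4.mem_cent1_of_conj_eq (Eq.trans (by group) h2))))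
  refine ⟨l⁻¹ * n⁻¹ * u, mul_mem (mem_sup_right (mul_mem (inv_mem hl) (inv_mem hn.1)))
    (sup_le_sup_left h.VL _ hu.1), v, hv.1, ?_⟩
  rw [mul_assoc, ← e]; group

omit [Finite G] in
theorem normR : 𝐂[t] ≤ 𝐍(zpowers t ⊔ L) :=
  H1.le_normalizer_sup ((U4.cent_zpowers t).ge.trans (cent_le_norm _)) h.norm

omit [Finite G] in
theorem R_le : zpowers t ⊔ L ≤ 𝐂[t] := sup_le (U4.zpowers_le_cent1 t) h.le

theorem RN_le : (zpowers t ⊔ L) ⊓ 𝐍(SS t a b) ≤ 𝐂(h.F) :=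
  le_cent_of_norm_of_inf (inf_le_right.trans h.norm_F) (H1.le_normalizer_inf (h.F_le.trans h.normR)
    fun _ hx => le_normalizer (cent_le_norm _ hx.1))
    (eq_bot_of_forall fun _ hx => h.eq_one hx.2 hx.1.1)

theorem exists_d : ∃ d ∈ L ⊓ 𝐍(SS t a b), d * a * d⁻¹ = b := by
  obtain ⟨d, hd, e⟩ := h.kt.1.trans h.maxV (t_mem_V a b) (s_mem_V a b) h.four.t1 h.four.s1
  exact ⟨d, ⟨hd.1, nS (h.le hd.1) hd.2⟩, e⟩

omit [Finite G] in
theorem d_notMem {d : G} (e : d * a * d⁻¹ = b) : d ∉ 𝐂(SS t a b) := fun hd => h.four.ne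
  ((U4.conj_eq_of_mem_cent1 (cent_le_cent1 (t_mem_V a b) (cV' hd))).symm.trans e)

theorem norm_le : 𝐍(SS t a b) ≤ 𝐂(h.F) := fun n hn => by
  obtain ⟨d, hd, e⟩ := h.exists_d
  obtain ⟨k, hk, h1⟩ := trans8 h.hel h.maxE h.card_S h.one tS (ne_one_of_inv h.ord)
    (K := 𝐍(SS t a b) ⊓ 𝐂(h.F)) inf_le_left (H1.le_normalizer_inf le_normalizer
      (H1.le_normalizer_centralizer h.norm_F)) (fun hc => h.d_notMem e
        (hc ⟨hd.2, h.RN_le ⟨mem_sup_right hd.1, hd.2⟩⟩)) (conj_mem_of_mem_normalizer hn tS)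
    (U4.conj_ne_one_iff.2 (ne_one_of_inv h.ord))
  obtain ⟨r, hr, v, hv, h2⟩ := h.dec (x := k⁻¹ * n) (U4.mem_cent1_of_conj_eq (by
    calc _ = k⁻¹ * (n * t * n⁻¹) * k := by group
      _ = t := by rw [← h1]; group))
  refine (mul_mem_cancel_left (inv_mem (mem_inf.1 hk).2)).1
    (h2 ▸ mul_mem (h.RN_le ⟨hr, ?_⟩) (h.F_comm hv))
  exact (mul_mem_cancel_right (cent_le_norm _ hv.1)).1 (h2 ▸ mul_mem (inv_mem (mem_inf.1 hk).1) hn)

theorem hyp (hF : ∀ x ∈ h.F, x = 1) : JR.Hyp t L q where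
  ord := h.ord
  comm := fun _ hx => mem_cent1.1 (h.le hx)
  notMem := h.notMem
  cent := fun g hg => by
    obtain ⟨r, hr, v, hv, e⟩ := h.dec (mem_cent1.2 hg)
    rw [e, hF v hv, mul_one]
    exact h.mem_or hr
  odd := h.odd
  noIdx := fun H hH => by
    haveI := normal_of_index_eq_two hH
    have h1 := H.card_mul_index
    have h2 := h.eight_dvd
    refine (h.hel.sylow h.maxE).not_dvd ((relIndex_top_right H ▸ hH).symm.dvd.trans
      (relIndex_dvd_of_le_left _ fun x hx => ?_))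
    by_cases e : x = 1
    · exact e ▸ one_mem _
    · exact h.one.mem_of_not_odd le_top le_normalizer_of_normal
        (by rw [Nat.not_odd_iff_even, even_iff_two_dvd]; rw [hH] at h1; omega) (h.el.ord hx e) trivial
  iso := h.iso
  mod := h.mod
  five_le := h.five_le

variable (hf : f ∈ h.F)
include hf

theorem NS_le : 𝐍(SS t a b) ≤ 𝐂[f] := h.norm_le.trans (cent_le_cent1 hf)

theorem maxH : MaxE (SS t a b) 𝐂[f] := h.maxE.mono (le_normalizer.trans (h.NS_le hf)) le_top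

theorem norm_zp : 𝐍(zpowers f) ≤ 𝐂[f] := fun g hg => by
  obtain ⟨k, hk, h1⟩ := (h.maxH hf).frattini h.hel.abTwo (g := g)
    (U4.cent_zpowers f ▸ U4.norm_le_norm_cent _ hg)
  exact (mul_mem_cancel_left hk).1 (h.NS_le hf h1)

theorem conj_t (hu : u ∈ 𝐂[f]) (h2 : orderOf u = 2) : ∃ x ∈ 𝐂[f], x * t * x⁻¹ = u := by
  obtain ⟨g, hg, h1⟩ := (h.maxH hf).exists_conj_mem h.hel.abTwo hu (mul_self_of_inv h2)
  obtain ⟨n, hn, e⟩ := h.maxE.trans h.hel.abTwo h.one tS h1 (ne_one_of_inv h.ord)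
    (U4.conj_ne_one_iff.2 (ne_one_of_inv h2))
  refine ⟨g⁻¹ * n, mul_mem (inv_mem hg) (h.NS_le hf hn.2), ?_⟩
  calc _ = g⁻¹ * (n * t * n⁻¹) * g := by group
    _ = u := by rw [e]; group

theorem oneCl : OneCl 𝐂[f] := fun u hu v hv h1 h2 => by
  obtain ⟨x, hx, rfl⟩ := h.conj_t hf hu h1
  obtain ⟨y, hy, rfl⟩ := h.conj_t hf hv h2
  exact ⟨y * x⁻¹, mul_mem hy (inv_mem hx), by group⟩

theorem conj_iff {g : G} : g⁻¹ * f * g ∈ 𝐂[t] ↔ ∃ x ∈ 𝐂[f], x⁻¹ * g ∈ 𝐂[t] := by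
  rw [← mem_map_conj_iff, ← cent1_conj, mem_cent1_comm]
  constructor
  · intro h1
    obtain ⟨x, hx, e⟩ := h.conj_t hf h1 ((orderOf_conj g t).trans h.ord)
    refine ⟨x, hx, U4.mem_cent1_of_conj_eq ?_⟩
    calc _ = x⁻¹ * (g * t * g⁻¹) * x := by group
      _ = t := by rw [← e]; group
  · rintro ⟨x, hx, h1⟩
    convert mul_mem (mul_mem hx (mem_cent1_comm.1 (h.F_le hf))) (inv_mem hx) using 1
    calc g * t * g⁻¹ = x * (x⁻¹ * g * t * (x⁻¹ * g)⁻¹) * x⁻¹ := by group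
      _ = _ := by rw [U4.conj_eq_of_mem_cent1 h1]

omit hf in
theorem der_le_R : ⁅𝐂[t], 𝐂[t]⁆ ≤ zpowers t ⊔ L := by
  have : 𝐂[t] ≤ (zpowers t ⊔ L) ⊔ h.F := fun x hx => by
    obtain ⟨r, hr, v, hv, rfl⟩ := h.dec hx
    exact mul_mem (mem_sup_left hr) (mem_sup_right hv)
  refine (commutator_mono this this).trans ((der_sup_le (h.F_le.trans h.normR)).trans
    (sup_le le_rfl ?_))
  rw [comm_eq_bot_iff.2 h.F_comm]
  exact bot_le

theorem dvd_relIndex (hp : _root_.commutator G = ⊤) (hk : (orderOf f).Prime) :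
    orderOf f ∣ (𝐂[t]).relIndex 𝐂[f] := by
  haveI := Fact.mk hk
  refine ((index_modEq hk rfl fun g => h.conj_iff hf).dvd_iff dvd_rfl).1
    (orderOf_dvd_of_pow_eq_one (h.eq_one (pow_mem hf _)
      (pow_index_mem hp h.der_le_R (h.F_le hf) fun n g hg => ?_)))
  obtain ⟨x, hx, h1⟩ := (h.conj_iff (pow_mem hf n)).1 hg
  convert h.der_le_R (commutator_mem_commutator (inv_mem h1) (pow_mem (h.F_le hf) n)) using 1
  calc g⁻¹ * f ^ n * g * (f ^ n)⁻¹ = g⁻¹ * (x * f ^ n * x⁻¹) * g * (f ^ n)⁻¹ := by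
        rw [U4.conj_eq_of_mem_cent1 hx]
    _ = _ := by rw [commutatorElement_def]; group

end Fr

end CfsgLib.H5.JB
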