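import Cfsg.Agent.Lib.Wal.Red

/-!
# Passing to `X / O(X)`
-/

set_option autoImplicit false

namespace CfsgLib.Wal

open Subgroup Cfsg CfsgLib.FT CfsgLib.FT.BGN CfsgLib.Cop CfsgLib.GW
open CfsgLib.H1 (AbTwo)
open CfsgLib.FT.U4 (mem_cent1 mem_cent1' mem_cent mem_cent1_comm cent1_conj
  eq_one_of_mem_inf eq_bot_of_forall conj_mem_conj_iff orderOf_conj)
open scoped commutatorElement

universe u

variable {G : Type*} [Group G]

/-- `X / O(X)`. -/
abbrev Bar (X : Subgroup G) := X ⧸ pPrimeCore 2 X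

/-- The projection. -/
abbrev pr (X : Subgroup G) : X →* Bar X := QuotientGroup.mk' _

open Classical in
/-- The projection as a total function. -/
noncomputable def br (X : Subgroup G) (x : G) : Bar X := if h : x ∈ X then pr X ⟨x, h⟩ else 1

/-- The image of `U ⊓ X`. -/
def im (X U : Subgroup G) : Subgroup (Bar X) := (U.subgroupOf X).map (pr X)

/-- The preimage in `X`. -/
def pre (X : Subgroup G) (K : Subgroup (Bar X)) : Subgroup G := (K.comap (pr X)).map X.subtype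

variable {X : Subgroup G}

theorem br_of_mem {x : G} (h : x ∈ X) : br X x = pr X ⟨x, h⟩ := dif_pos h

theorem br_one : br X 1 = 1 := by rw [br_of_mem (one_mem X)]; exact map_one _

theorem br_mul {x y : G} (hx : x ∈ X) (hy : y ∈ X) : br X (x * y) = br X x * br X y := by
  rw [br_of_mem hx, br_of_mem hy, br_of_mem (mul_mem hx hy), ← map_mul]; rfl

theorem br_inv {x : G} (hx : x ∈ X) : br X x⁻¹ = (br X x)⁻¹ := by
  rw [br_of_mem hx, br_of_mem (inv_mem hx), ← map_inv]; rfl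

theorem br_pow {x : G} (hx : x ∈ X) (n : ℕ) : br X (x ^ n) = br X x ^ n := by
  rw [br_of_mem hx, br_of_mem (pow_mem hx n), ← map_pow]; rfl

theorem br_conj {g x : G} (hg : g ∈ X) (hx : x ∈ X) :
    br X (g * x * g⁻¹) = br X g * br X x * (br X g)⁻¹ := by
  rw [br_mul (mul_mem hg hx) (inv_mem hg), br_mul hg hx, br_inv hg]

theorem br_comm {g x : G} (hg : g ∈ X) (hx : x ∈ X) : br X ⁅g, x⁆ = ⁅br X g, br X x⁆ := by
  rw [commutatorElement_def, commutatorElement_def,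
    br_mul (mul_mem (mul_mem hg hx) (inv_mem hg)) (inv_mem hx), br_conj hg hx, br_inv hx]

theorem br_eq_one {x : G} (hx : x ∈ X) : br X x = 1 ↔ x ∈ Od X := by
  rw [br_of_mem hx, Od, piCoreOf_compl_eq, QuotientGroup.mk'_apply, QuotientGroup.eq_one_iff]
  exact (mem_map_iff_mem X.subtype_injective).symm

theorem br_surj (y : Bar X) : ∃ x ∈ X, br X x = y := by
  obtain ⟨x, rfl⟩ := QuotientGroup.mk'_surjective _ y
  exact ⟨x, x.2, br_of_mem x.2⟩

theorem mem_pre {K : Subgroup (Bar X)} {x : G} : x ∈ pre X K ↔ x ∈ X ∧ br X x ∈ K :=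
  ⟨by rintro ⟨x, hx, rfl⟩; exact ⟨x.2, (br_of_mem x.2).symm ▸ hx⟩,
    fun h => ⟨⟨x, h.1⟩, mem_comap.2 (br_of_mem h.1 ▸ h.2), rfl⟩⟩

theorem mem_im {U : Subgroup G} {y : Bar X} : y ∈ im X U ↔ ∃ x ∈ U, x ∈ X ∧ br X x = y :=
  ⟨by rintro ⟨x, hx, rfl⟩; exact ⟨x, hx, x.2, br_of_mem x.2⟩,
    fun ⟨x, h1, h2, h3⟩ => ⟨⟨x, h2⟩, h1, (br_of_mem h2).symm.trans h3⟩⟩

theorem br_mem_im {U : Subgroup G} {x : G} (h1 : x ∈ U) (h2 : x ∈ X) : br X x ∈ im X U :=
  mem_im.2 ⟨x, h1, h2, rfl⟩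

theorem pre_le (K : Subgroup (Bar X)) : pre X K ≤ X := map_subtype_le _

theorem im_pre (K : Subgroup (Bar X)) : im X (pre X K) = K := by
  ext y
  rw [mem_im]
  refine ⟨fun ⟨x, h1, _, h3⟩ => h3 ▸ (mem_pre.1 h1).2, fun h => ?_⟩
  obtain ⟨x, hx, rfl⟩ := br_surj y
  exact ⟨x, mem_pre.2 ⟨hx, h⟩, hx, rfl⟩

theorem im_mono {U W : Subgroup G} (h : U ≤ W) : im X U ≤ im X W :=
  map_mono (comap_mono h)

theorem pre_mono {K L : Subgroup (Bar X)} (h : K ≤ L) : pre X K ≤ pre X L :=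
  map_mono (comap_mono h)

theorem le_pre {U : Subgroup G} {K : Subgroup (Bar X)} (h : U ≤ X) : U ≤ pre X K ↔ im X U ≤ K :=
  ⟨fun h' => im_pre K ▸ im_mono h', fun h' _ hx => mem_pre.2 ⟨h hx, h' (br_mem_im hx (h hx))⟩⟩

theorem im_self : im X X = ⊤ := eq_top_iff.2 fun y _ => by
  obtain ⟨x, hx, rfl⟩ := br_surj y
  exact br_mem_im hx hx

theorem im_le_iff {U : Subgroup G} {K : Subgroup (Bar X)} :
    im X U ≤ K ↔ ∀ x ∈ U, x ∈ X → br X x ∈ K :=
  ⟨fun h _ h1 h2 => h (br_mem_im h1 h2), fun h y hy => by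
    obtain ⟨x, h1, h2, rfl⟩ := mem_im.1 hy
    exact h x h1 h2⟩

theorem im_eq_bot {U : Subgroup G} (h : U ≤ X) : im X U = ⊥ ↔ U ≤ Od X :=
  ⟨fun h' _ hx => (br_eq_one (h hx)).1 (mem_bot.1 (h' ▸ br_mem_im hx (h hx))),
    fun h' => le_bot_iff.1 (im_le_iff.2 fun _ h1 h2 => mem_bot.2 ((br_eq_one h2).2 (h' h1)))⟩

theorem im_zpowers {a : G} (h : a ∈ X) : im X (zpowers a) = zpowers (br X a) := by
  rw [br_of_mem h, ← MonoidHom.map_zpowers, im]
  congr 1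
  apply map_injective X.subtype_injective
  rw [H1.map_subtype_subgroupOf (zpowers_le.2 h), MonoidHom.map_zpowers]; rfl

theorem im_sup {U W : Subgroup G} (h1 : U ≤ X) (h2 : W ≤ X) :
    im X (U ⊔ W) = im X U ⊔ im X W := by
  rw [im, im, im, subgroupOf_sup h1 h2, Subgroup.map_sup]

theorem El.im {U : Subgroup G} (h : El U) : El (im X U) := fun y hy => by
  obtain ⟨x, h1, h2, rfl⟩ := mem_im.1 hy
  rw [← br_mul h2 h2, h x h1, br_one]

theorem pgroup_im {p : ℕ} {U : Subgroup G} (h : IsPGroup p U) : IsPGroup p (im X U) :=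
  (h.comap_subtype).map _

theorem im_V {a b : G} (ha : a ∈ X) (hb : b ∈ X) : im X (V a b) = V (br X a) (br X b) := by
  rw [V, V, im_sup (zpowers_le.2 ha) (zpowers_le.2 hb), im_zpowers ha, im_zpowers hb]

theorem br_mem_cent1 {x a : G} (hx : x ∈ X) (ha : a ∈ X) (h : x ∈ 𝐂[a]) : br X x ∈ 𝐂[br X a] := by
  rw [mem_cent1] at h ⊢
  rw [← br_mul hx ha, h, br_mul ha hx]

variable [Finite G]

theorem Od_le_pre (K : Subgroup (Bar X)) : Od X ≤ pre X K := fun _ hx =>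
  mem_pre.2 ⟨Od_le X hx, (br_eq_one (Od_le X hx)).2 hx ▸ one_mem K⟩

theorem pre_im {U : Subgroup G} (h : U ≤ X) : pre X (im X U) = Od X ⊔ U := by
  refine le_antisymm (fun x hx => ?_) (sup_le (Od_le_pre _) ((le_pre h).2 le_rfl))
  obtain ⟨h1, h2⟩ := mem_pre.1 hx
  obtain ⟨u, h3, h4, h5⟩ := mem_im.1 h2
  have : x * u⁻¹ ∈ Od X := (br_eq_one (mul_mem h1 (inv_mem h4))).1 (by
    rw [br_mul h1 (inv_mem h4), br_inv h4, h5, mul_inv_cancel])
  simpa using mul_mem (mem_sup_left this) (mem_sup_right h3 : u ∈ Od X ⊔ U)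

theorem im_le_im {U W : Subgroup G} (h1 : U ≤ X) (h2 : W ≤ X) :
    im X U ≤ im X W ↔ U ≤ Od X ⊔ W := by rw [← le_pre h1, pre_im h2]

theorem im_norm {U W : Subgroup G} (h : U ≤ 𝐍(W)) : im X U ≤ 𝐍(im X W) :=
  map_le_normalizer_map (sgOf_le_normalizer h X) _

theorem im_cent {U W : Subgroup G} (h : U ≤ 𝐂(W)) : im X U ≤ 𝐂(im X W) :=
  map_le_centralizer_map (sgOf_le_centralizer h X) _

theorem im_comm {U W : Subgroup G} (h1 : U ≤ X) (h2 : W ≤ X) :
    im X ⁅U, W⁆ = ⁅im X U, im X W⁆ := by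
  rw [im, im, im, sgOf_commutator h1 h2, map_commutator]

omit [Finite G] in
theorem comm_le_of_le {U W : Subgroup G} (h1 : U ≤ X) (h2 : W ≤ X) : ⁅U, W⁆ ≤ X :=
  (commutator_mono h1 h2).trans (der_le X)

theorem im_le_cent {U W : Subgroup G} (h1 : U ≤ X) (h2 : W ≤ X) :
    im X U ≤ 𝐂(im X W) ↔ ⁅U, W⁆ ≤ Od X := by
  rw [← comm_eq_bot_iff, ← im_comm h1 h2, im_eq_bot (comm_le_of_le h1 h2)]

theorem im_le_cent1 {U : Subgroup G} {a : G} (h1 : U ≤ X) (h2 : a ∈ X) :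
    im X U ≤ 𝐂[br X a] ↔ ⁅U, zpowers a⁆ ≤ Od X := by
  rw [← im_le_cent h1 (zpowers_le.2 h2), im_zpowers h2, cent_zpowers]

theorem card_im_dvd (U : Subgroup G) : Nat.card (im X U) ∣ Nat.card U :=
  (card_map_dvd _ _).trans (card_comap_dvd_of_injective _ _ X.subtype_injective)

theorem odd_im {U : Subgroup G} (h : Odd (Nat.card U)) : Odd (Nat.card (im X U)) :=
  h.of_dvd_nat (card_im_dvd U)

theorem odd_ker : Odd (Nat.card (pPrimeCore 2 X)) :=
  Nat.coprime_two_right.1 (pPrimeCore_coprime 2)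

theorem cent_im {P : Subgroup G} (hP : IsPGroup 2 P) (h : P ≤ X) :
    𝐂(im X P) = im X (X ⊓ 𝐂(P)) := by
  rw [im, centralizer_map_mk' (A := P.subgroupOf X) _ (coprime_of_two hP.comap_subtype odd_ker)
    (Or.inr (solvable_of_odd odd_ker)), im]
  congr 1
  ext x
  rw [mem_centralizer_sgOf h, mem_subgroupOf]
  exact ⟨fun h => ⟨x.2, h⟩, fun h => h.2⟩

theorem norm_im {P : Subgroup G} (hP : IsPGroup 2 P) (h : P ≤ X) :
    𝐍(im X P) = im X (X ⊓ 𝐍(P)) := by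
  rw [im, normalizer_map_mk' (A := P.subgroupOf X) _ (coprime_of_two hP.comap_subtype odd_ker)
    (Or.inr (solvable_of_odd odd_ker)), im]
  congr 1
  ext x
  rw [mem_normalizer_sgOf h, mem_subgroupOf]
  exact ⟨fun h => ⟨x.2, h⟩, fun h => h.2⟩

theorem cent1_br {a : G} (h1 : a * a = 1) (h : a ∈ X) : 𝐂[br X a] = im X (X ⊓ 𝐂[a]) := by
  rw [← cent_zpowers, ← cent_zpowers, ← im_zpowers h,
    cent_im (el_zpowers h1).isPGroup (zpowers_le.2 h)]

theorem eq_one_of_br {a : G} (h1 : a * a = 1) (h : a ∈ X) (h2 : br X a = 1) : a = 1 :=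
  eq_one_of_odd_of_mul_self (odd_of_mem_Od ((br_eq_one h).1 h2)) h1

theorem br_ne_one {a : G} (h1 : a * a = 1) (h : a ∈ X) (h2 : a ≠ 1) : br X a ≠ 1 :=
  fun e => h2 (eq_one_of_br h1 h e)

omit [Finite G] in
theorem br_sq {a : G} (h1 : a * a = 1) (h : a ∈ X) : br X a * br X a = 1 := by
  rw [← br_mul h h, h1, br_one]

theorem ord_br {a : G} (h1 : orderOf a = 2) (h : a ∈ X) : orderOf (br X a) = 2 :=
  inv_of_mul_self (br_sq (mul_self_of_inv h1) h)
    (br_ne_one (mul_self_of_inv h1) h (ne_one_of_inv h1))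

theorem Four.br {a b : G} (h : Four a b) (ha : a ∈ X) (hb : b ∈ X) : Four (br X a) (br X b) :=
  ⟨ord_br h.ot ha, ord_br h.os hb, by rw [← br_mul ha hb, h.comm, br_mul hb ha], fun e =>
    ne_one_of_inv (ord_br h.ots (mul_mem ha hb)) (by rw [br_mul ha hb, e, br_sq h.ss hb])⟩

theorem exists_lift {U : Subgroup G} {y : Bar X} (hy : y ∈ im X U) (h : y * y = 1) :
    ∃ u ∈ U, u ∈ X ∧ u * u = 1 ∧ br X u = y := by
  obtain ⟨x, h1, h2, rfl⟩ := mem_im.1 hy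
  rw [← br_mul h2 h2, br_eq_one (mul_mem h2 h2)] at h
  refine ⟨x ^ orderOf (x * x), pow_mem h1 _, pow_mem h2 _, ?_, ?_⟩
  · rw [← (Commute.refl x).mul_pow, pow_orderOf_eq_one]
  · rw [br_pow h2, pow_odd_of_sq _ (odd_of_mem_Od h)]
    rw [← br_mul h2 h2, (br_eq_one (mul_mem h2 h2)).2 h]

theorem card_im {P : Subgroup G} (hP : El P) (h : P ≤ X) : Nat.card (im X P) = Nat.card P := by
  refine (Nat.card_congr (Equiv.ofBijective (fun x : P => (⟨br X x, br_mem_im x.2 (h x.2)⟩ : im X P))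
    ⟨fun x y e => ?_, fun y => ?_⟩)).symm
  · have e' : br X x = br X y := congrArg Subtype.val e
    have := eq_one_of_br (hP _ (mul_mem x.2 y.2)) (h (mul_mem x.2 y.2)) (by
      rw [br_mul (h x.2) (h y.2), e', br_sq (hP _ y.2) (h y.2)])
    exact Subtype.ext ((eq_inv_of_mul_eq_one_left this).trans (hP.inv y.2))
  · obtain ⟨x, h1, h2, h3⟩ := mem_im.1 y.2
    exact ⟨⟨x, h1⟩, Subtype.ext h3⟩

theorem MaxE.im {A : Subgroup G} (h : MaxE A X) : MaxE (im X A) ⊤ :=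
  ⟨le_top, h.el.im, fun y _ h1 h2 => by
    rw [cent_im h.el.isPGroup h.le] at h2
    obtain ⟨u, hu, h3, h4, rfl⟩ := exists_lift h2 h1
    exact br_mem_im (h.mem u h3 h4 hu.2) h3⟩

theorem Od_bar (X : Subgroup G) : Od (⊤ : Subgroup (Bar X)) = ⊥ := by
  rw [Od, H1.piCoreOf_top, ← pPrimeCore_eq_piCore, pPrimeCore_quotient_pPrimeCore]

theorem ab_bar (hab : AbTwo G) (X : Subgroup G) : AbTwo (Bar X) :=
  (ab_sub hab X).of_surjective (pr X) (QuotientGroup.mk'_surjective _)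

omit [Finite G] in
theorem im_cj {g : G} (hg : g ∈ X) (U : Subgroup G) : im X (g •ᶜ U) = br X g •ᶜ im X U := by
  ext y
  rw [mem_map_conj_iff, mem_im, mem_im]
  constructor
  · rintro ⟨_, ⟨x, hx, rfl⟩, h1, rfl⟩
    have h2 : x ∈ X := by
      have := conj_mem_of_mem_normalizer' (le_normalizer hg) h1
      simpa [mul_assoc] using this
    refine ⟨x, hx, h2, ?_⟩
    rw [MulEquiv.coe_toMonoidHom, MulAut.conj_apply, br_conj hg h2]; group
  · rintro ⟨x, hx, h1, h2⟩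
    refine ⟨g * x * g⁻¹, conj_mem_map_conj hx, mul_mem (mul_mem hg h1) (inv_mem hg), ?_⟩
    rw [br_conj hg h1, h2]; group

omit [Finite G] in
theorem pre_cj {g : G} (hg : g ∈ X) (K : Subgroup (Bar X)) :
    pre X (br X g •ᶜ K) = g •ᶜ pre X K := by
  ext x
  rw [mem_map_conj_iff, mem_pre, mem_pre, mem_map_conj_iff]
  have : x ∈ X ↔ g⁻¹ * x * g ∈ X := mem_normalizer_iff''.1 (le_normalizer hg) x
  refine ⟨fun h => ⟨this.1 h.1, ?_⟩, fun h => ⟨this.2 h.1, ?_⟩⟩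
  · rw [br_mul (mul_mem (inv_mem hg) h.1) hg, br_mul (inv_mem hg) h.1, br_inv hg]; exact h.2
  · rw [← br_inv hg, ← br_mul (inv_mem hg) (this.2 h.1),
      ← br_mul (mul_mem (inv_mem hg) (this.2 h.1)) hg]; exact h.2

omit [Finite G] in
theorem mem_norm_pre {g : G} (hg : g ∈ X) {K : Subgroup (Bar X)} (h : br X g ∈ 𝐍(K)) :
    g ∈ 𝐍(pre X K) :=
  mem_normalizer_of_map_conj_eq (by rw [← pre_cj hg, map_conj_eq_of_mem_normalizer h])

omit [Finite G] in
theorem le_norm_pre {U : Subgroup G} (hU : U ≤ X) {K : Subgroup (Bar X)} (h : im X U ≤ 𝐍(K)) :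
    U ≤ 𝐍(pre X K) := fun _ hg => mem_norm_pre (hU hg) (h (br_mem_im hg (hU hg)))

theorem im_Od_le {H : Subgroup G} : im X (Od H) ≤ Od (im X H) :=
  le_Od (im_mono (Od_le H)) (im_norm (le_norm_Od H)) (odd_im (odd_Od H))

theorem im_inf_pre {U : Subgroup G} {K : Subgroup (Bar X)} : im X (U ⊓ pre X K) = im X U ⊓ K := by
  refine le_antisymm (le_inf (im_mono inf_le_left) ((im_mono inf_le_right).trans (im_pre K).le))
    fun y hy => ?_
  obtain ⟨x, h1, h2, rfl⟩ := mem_im.1 hy.1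
  exact br_mem_im ⟨h1, mem_pre.2 ⟨h2, hy.2⟩⟩ h2

omit [Finite G] in
theorem solv_im {U : Subgroup G} (h : Group.IsSolvable U) : Group.IsSolvable (im X U) :=
  solvable_map (isSolvable_subgroupOf h X) _

theorem solv_of_im {U : Subgroup G} (hU : U ≤ X) (h : Group.IsSolvable (im X U)) :
    Group.IsSolvable U := by
  have := solvable_map (isSolvable_of_map_mk' (solvable_of_odd odd_ker) h) X.subtype
  rwa [H1.map_subtype_subgroupOf hU] at this

theorem isConj_of_br {u v : G} (hu : u * u = 1) (hv : v * v = 1) (h1 : u ∈ X) (h2 : v ∈ X)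
    (h : br X u = br X v) : ∃ c ∈ zpowers (v * u), c * v * c⁻¹ = u := by
  have h3 : v * u ∈ Od X := (br_eq_one (mul_mem h2 h1)).1 (by rw [br_mul h2 h1, h, br_sq hv h2])
  obtain ⟨c, hc, e⟩ := Invol.exists_conj_eq_mul (Invol.inverts_mul hv hu) (odd_of_mem_Od h3)
  exact ⟨c, hc, by rw [e, ← mul_assoc, hv, one_mul]⟩

end CfsgLib.Wal
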