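import Cfsg.Agent.Lib.GW.LocalD2
import Cfsg.Agent.Lib.GW.FourStruct
import Cfsg.Agent.Lib.H1PrimTwo
import Cfsg.Agent.Lib.Blk.ZStar
import Cfsg.Agent.Lib.CoreInvol

/-!
# Groups with abelian Sylow `2`-subgroups: maximal elementary abelian `2`-subgroups
-/

set_option autoImplicit false

namespace CfsgLib.Wal

open Subgroup Cfsg CfsgLib.FT CfsgLib.FT.BGN CfsgLib.Cop CfsgLib.GW
open CfsgLib.H1 (AbTwo)
open CfsgLib.FT.U4 (mem_cent1 mem_cent1' mem_cent mem_cent1_comm cent1_conj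
  eq_one_of_mem_inf eq_bot_of_forall conj_mem_conj_iff orderOf_conj)
open scoped commutatorElement

universe u

variable {G : Type*} [Group G]

/-- All elements of `A` have square `1`. -/
def El (A : Subgroup G) : Prop := ∀ a ∈ A, a * a = 1

theorem El.mono {A B : Subgroup G} (h : El A) (hB : B ≤ A) : El B := fun a ha => h a (hB ha)

theorem El.inv {A : Subgroup G} (h : El A) {a : G} (ha : a ∈ A) : a⁻¹ = a :=
  inv_eq_of_mul_eq_one_right (h a ha)

theorem El.comm {A : Subgroup G} (h : El A) {a b : G} (ha : a ∈ A) (hb : b ∈ A) :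
    a * b = b * a := by
  rw [← h.inv (mul_mem ha hb), mul_inv_rev, h.inv ha, h.inv hb]

theorem El.le_cent {A : Subgroup G} (h : El A) : A ≤ 𝐂(A) := fun _ ha =>
  mem_cent.2 fun _ hb => h.comm hb ha

theorem El.le_cent' {A B C : Subgroup G} (h : El A) (hB : B ≤ A) (hC : C ≤ A) : B ≤ 𝐂(C) :=
  hB.trans (h.le_cent.trans (centralizer_le hC))

theorem El.le_cent1 {A : Subgroup G} (h : El A) {a : G} (ha : a ∈ A) : A ≤ 𝐂[a] :=
  h.le_cent.trans (cent_le_cent1 ha)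

theorem El.le_norm {A B : Subgroup G} (h : El A) (hB : B ≤ A) : A ≤ 𝐍(B) :=
  (h.le_cent' le_rfl hB).trans (cent_le_norm B)

theorem El.isPGroup {A : Subgroup G} (h : El A) : IsPGroup 2 A := fun a =>
  ⟨1, Subtype.ext (by simpa [pow_two] using h a a.2)⟩

theorem El.mulComm {A : Subgroup G} (h : El A) : IsMulCommutative A :=
  ⟨⟨fun a b => Subtype.ext (h.comm a.2 b.2)⟩⟩

theorem El.ord {A : Subgroup G} (h : El A) {a : G} (ha : a ∈ A) (h1 : a ≠ 1) : orderOf a = 2 :=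
  inv_of_mul_self (h a ha) h1

theorem El.elem {A : Subgroup G} (h : El A) : IsElementaryAbelian 2 A :=
  ⟨h.mulComm, fun a ha => by rw [pow_two]; exact h a ha⟩

theorem El.cj {A : Subgroup G} (h : El A) (g : G) : El (g •ᶜ A) := by
  rintro _ ⟨a, ha, rfl⟩
  exact Invol.conj_mul_self (h a ha) g

theorem El.map {Y : Type*} [Group Y] {A : Subgroup G} (h : El A) (f : G →* Y) : El (A.map f) := by
  rintro _ ⟨a, ha, rfl⟩
  rw [← map_mul, h a ha, map_one]

theorem el_zpowers {a : G} (h : a * a = 1) : El (zpowers a) := fun x hx => by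
  obtain ⟨n, rfl⟩ := mem_zpowers_iff.1 hx
  rw [← (Commute.refl a).mul_zpow, h, one_zpow]

theorem El.sup {A B : Subgroup G} (hA : El A) (hB : El B) (h : B ≤ 𝐂(A)) : El (A ⊔ B) :=
  fun x hx => by
  obtain ⟨a, ha, b, hb, rfl⟩ := mem_sup_norm (h.trans (cent_le_norm A)) hx
  have := mem_cent.1 (h hb) a ha
  calc a * b * (a * b) = a * (b * a) * b := by group
    _ = (a * a) * (b * b) := by rw [← this]; group
    _ = 1 := by rw [hA a ha, hB b hb, mul_one]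

theorem Four.el {t s : G} (h : Four t s) : El (V t s) := fun _ hx => h.mul_self_of_mem hx

theorem El.coprime [Finite G] {A : Subgroup G} (h : El A) {n : ℕ} (hn : Odd n) :
    (Nat.card A).Coprime n := by
  obtain ⟨k, hk⟩ := h.isPGroup.exists_card_eq
  rw [hk]
  exact (Nat.coprime_two_left.2 hn).pow_left k

theorem coprime_of_two [Finite G] {A : Subgroup G} (h : IsPGroup 2 A) {n : ℕ} (hn : Odd n) :
    (Nat.card A).Coprime n := by
  obtain ⟨k, hk⟩ := h.exists_card_eq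
  rw [hk]
  exact (Nat.coprime_two_left.2 hn).pow_left k

theorem El.solv [Finite G] {A : Subgroup G} (h : El A) : Group.IsSolvable A :=
  solvable_of_isPGroup h.isPGroup

theorem El.four {A : Subgroup G} (h : El A) {a b : G} (ha : a ∈ A) (hb : b ∈ A) (h1 : a ≠ 1)
    (h2 : b ≠ 1) (h3 : a ≠ b) : Four a b :=
  ⟨h.ord ha h1, h.ord hb h2, h.comm ha hb, h3⟩

theorem ab_comm (hab : AbTwo G) {P : Subgroup G} (hP : IsPGroup 2 P) {x y : G} (hx : x ∈ P)
    (hy : y ∈ P) : x * y = y * x :=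
  congrArg Subtype.val ((hab P hP).is_comm.comm ⟨x, hx⟩ ⟨y, hy⟩)

theorem ab_le_cent (hab : AbTwo G) {P Q R : Subgroup G} (hP : IsPGroup 2 P) (hQ : Q ≤ P)
    (hR : R ≤ P) : Q ≤ 𝐂(R) := fun _ hx => mem_cent.2 fun _ hy => ab_comm hab hP (hR hy) (hQ hx)

/-- A `2`-subgroup centralizes every `2`-subgroup it normalizes. -/
theorem ab_cent_of_norm (hab : AbTwo G) {Q R : Subgroup G} (hQ : IsPGroup 2 Q)
    (hR : IsPGroup 2 R) (h : Q ≤ 𝐍(R)) : Q ≤ 𝐂(R) :=
  ab_le_cent hab (isPGroup_sup' h hR hQ) le_sup_right le_sup_left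

theorem ab_sub (hab : AbTwo G) (H : Subgroup G) : AbTwo H :=
  hab.of_injective H.subtype H.subtype_injective

/-- `A` is a maximal elementary abelian `2`-subgroup of `X`. -/
structure MaxE (A X : Subgroup G) : Prop where
  le : A ≤ X
  el : El A
  mem : ∀ u ∈ X, u * u = 1 → u ∈ 𝐂(A) → u ∈ A

theorem MaxE.mono {A X Y : Subgroup G} (h : MaxE A X) (h1 : A ≤ Y) (h2 : Y ≤ X) : MaxE A Y :=
  ⟨h1, h.el, fun u hu => h.mem u (h2 hu)⟩

theorem MaxE.cj {A X : Subgroup G} (h : MaxE A X) (g : G) : MaxE (g •ᶜ A) (g •ᶜ X) :=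
  ⟨map_mono h.le, h.el.cj g, by
    rintro _ ⟨u, hu, rfl⟩ h1 h2
    refine ⟨u, h.mem u hu ?_ ?_, rfl⟩
    · exact (MulAut.conj g).injective (by rw [map_mul, map_one]; exact h1)
    · rw [centralizer_map_conj] at h2
      exact conj_mem_conj_iff.1 h2⟩

theorem MaxE.cj' {A X : Subgroup G} (h : MaxE A X) {g : G} (hg : g ∈ 𝐍(X)) : MaxE (g •ᶜ A) X := by
  have := h.cj g
  rwa [map_conj_eq_of_mem_normalizer hg] at this

theorem MaxE.le_of_cent {A X B : Subgroup G} (h : MaxE A X) (hB : El B) (h1 : B ≤ X)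
    (h2 : B ≤ 𝐂(A)) : B ≤ A := fun b hb => h.mem b (h1 hb) (hB b hb) (h2 hb)

variable [Finite G]

theorem exists_maxE {B X : Subgroup G} (hB : El B) (h : B ≤ X) : ∃ A, B ≤ A ∧ MaxE A X := by
  obtain ⟨A, hA, hmax⟩ := exists_maximal_of_wellFoundedGT
    (fun A : Subgroup G => B ≤ A ∧ A ≤ X ∧ El A) ⟨B, le_rfl, h, hB⟩
  refine ⟨A, hA.1, hA.2.1, hA.2.2, fun u hu h1 h2 => ?_⟩
  exact hmax (y := A ⊔ zpowers u) ⟨hA.1.trans le_sup_left, sup_le hA.2.1 (zpowers_le.2 hu),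
    hA.2.2.sup (el_zpowers h1) (zpowers_le.2 h2)⟩ le_sup_left (mem_sup_right (mem_zpowers u))

omit [Finite G] in
theorem MaxE.mem_of_two (hab : AbTwo G) {A X S : Subgroup G} (h : MaxE A X) (hS : IsPGroup 2 S)
    (h1 : A ≤ S) (h2 : S ≤ X) {u : G} (hu : u ∈ S) (h3 : u * u = 1) : u ∈ A :=
  h.mem u (h2 hu) h3 (ab_le_cent hab hS le_rfl h1 hu)

theorem MaxE.exists_conj_le (hab : AbTwo G) {A X B : Subgroup G} (h : MaxE A X) (hB : El B)
    (h1 : B ≤ X) : ∃ g ∈ X, g •ᶜ B ≤ A := by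
  obtain ⟨S, hAS, hS⟩ := IsSylowIn.exists_ge h.el.isPGroup h.le
  obtain ⟨g, hg, hle⟩ := hS.exists_conj_le hB.isPGroup h1
  exact ⟨g, hg, fun u hu => h.mem_of_two hab hS.isPGroup hAS hS.le (hle hu) (hB.cj g u hu)⟩

theorem MaxE.exists_conj_mem (hab : AbTwo G) {A X : Subgroup G} (h : MaxE A X) {u : G}
    (hu : u ∈ X) (h1 : u * u = 1) : ∃ g ∈ X, g * u * g⁻¹ ∈ A := by
  obtain ⟨g, hg, hle⟩ := h.exists_conj_le hab (el_zpowers h1) (zpowers_le.2 hu)
  exact ⟨g, hg, hle (conj_mem_map_conj (mem_zpowers u))⟩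

theorem MaxE.exists_conj_eq (hab : AbTwo G) {A X B : Subgroup G} (h : MaxE A X) (hB : MaxE B X) :
    ∃ g ∈ X, g •ᶜ B = A := by
  obtain ⟨g, hg, hle⟩ := h.exists_conj_le hab hB.el hB.le
  exact ⟨g, hg, hle.antisymm ((hB.cj' (le_normalizer hg)).le_of_cent h.el h.le
    (h.el.le_cent' le_rfl hle))⟩

theorem MaxE.card_eq (hab : AbTwo G) {A X B : Subgroup G} (h : MaxE A X) (hB : MaxE B X) :
    Nat.card A = Nat.card B := by
  obtain ⟨g, -, rfl⟩ := h.exists_conj_eq hab hB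
  exact card_map_conj g B

/-- Burnside's fusion lemma. -/
theorem MaxE.fusion_sub (hab : AbTwo G) {A X B : Subgroup G} (h : MaxE A X) (hB : B ≤ A) {g : G}
    (hg : g ∈ X) (hv : g •ᶜ B ≤ A) :
    ∃ n ∈ X ⊓ 𝐍(A), ∀ b ∈ B, n * b * n⁻¹ = g * b * g⁻¹ := by
  have h1 : MaxE A (X ⊓ 𝐂(g •ᶜ B)) :=
    h.mono (le_inf h.le (h.el.le_cent' le_rfl hv)) inf_le_left
  have h2 : MaxE (g •ᶜ A) (X ⊓ 𝐂(g •ᶜ B)) := (h.cj' (le_normalizer hg)).mono
    (le_inf (h.cj' (le_normalizer hg)).le (le_cent_cj (h.el.le_cent' le_rfl hB))) inf_le_left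
  obtain ⟨c, hc, e⟩ := h1.exists_conj_eq hab h2
  refine ⟨c * g, ⟨mul_mem hc.1 hg, mem_normalizer_of_map_conj_eq (by rw [← cj_cj, e])⟩,
    fun b hb => ?_⟩
  have := mem_cent.1 hc.2 _ (conj_mem_map_conj (g := g) hb)
  calc c * g * b * (c * g)⁻¹ = c * (g * b * g⁻¹) * c⁻¹ := by group
    _ = g * b * g⁻¹ := by rw [← this]; group

theorem MaxE.fusion (hab : AbTwo G) {A X : Subgroup G} (h : MaxE A X) {u g : G} (hu : u ∈ A)
    (hg : g ∈ X) (hv : g * u * g⁻¹ ∈ A) : ∃ n ∈ X ⊓ 𝐍(A), n * u * n⁻¹ = g * u * g⁻¹ := by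
  obtain ⟨n, hn, e⟩ := h.fusion_sub hab (zpowers_le.2 hu) hg
    (by rw [cj_zpowers]; exact zpowers_le.2 hv)
  exact ⟨n, hn, e u (mem_zpowers u)⟩

theorem MaxE.trans (hab : AbTwo G) {A X : Subgroup G} (h : MaxE A X) (h1 : OneCl X) {u v : G}
    (hu : u ∈ A) (hv : v ∈ A) (hu1 : u ≠ 1) (hv1 : v ≠ 1) :
    ∃ n ∈ X ⊓ 𝐍(A), n * u * n⁻¹ = v := by
  obtain ⟨g, hg, rfl⟩ := h1 u (h.le hu) v (h.le hv) (h.el.ord hu hu1) (h.el.ord hv hv1)
  exact h.fusion hab hu hg hv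

theorem odd_relIndex_of_sylow {S K N X : Subgroup G} (hS : IsSylowIn 2 S X) (h1 : S ≤ K)
    (h2 : S ≤ N) (h3 : N ≤ X) : Odd (K.relIndex N) := by
  rw [← Nat.not_even_iff_odd, even_iff_two_dvd]
  exact fun h => (hS.mono h2 h3).not_dvd (h.trans (relIndex_dvd_of_le_left N h1))

theorem MaxE.odd_relIndex (hab : AbTwo G) {A X K N : Subgroup G} (h : MaxE A X)
    (h1 : X ⊓ 𝐂(A) ≤ K) (h2 : X ⊓ 𝐂(A) ≤ N) (h3 : N ≤ X) : Odd (K.relIndex N) := by
  obtain ⟨S, hAS, hS⟩ := IsSylowIn.exists_ge h.el.isPGroup h.le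
  have : S ≤ X ⊓ 𝐂(A) := le_inf hS.le (ab_le_cent hab hS.isPGroup le_rfl hAS)
  exact odd_relIndex_of_sylow hS (this.trans h1) (this.trans h2) h3

/-- Frattini argument. -/
theorem MaxE.frattini (hab : AbTwo G) {A X : Subgroup G} (h : MaxE A X) {g : G}
    (hg : g ∈ 𝐍(X)) : ∃ k ∈ X, k * g ∈ 𝐍(A) := by
  obtain ⟨k, hk, e⟩ := h.exists_conj_eq hab (h.cj' hg)
  exact ⟨k, hk, mem_normalizer_of_map_conj_eq (by rw [← cj_cj, e])⟩

/-- Averaging over the orbit of an element. -/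
theorem exists_avg {S N B : Subgroup G} (hS : S ≤ 𝐂(S)) (hN : N ≤ 𝐍(S))
    (ho : Odd ((𝐂(S)).relIndex N)) (hB : B ≤ S) {x : G} (hx : x ∈ S)
    (h : ∀ n ∈ N, n * x * n⁻¹ * x⁻¹ ∈ B) : ∃ k, Odd k ∧ ∃ b ∈ B, x ^ k * b ∈ 𝐂(N) := by
  classical
  haveI : IsMulCommutative S := ⟨⟨fun a b => Subtype.ext (mem_cent.1 (hS b.2) a a.2)⟩⟩
  letI : CommGroup S := IsMulCommutative.instCommGroup
  let Q := N ⧸ (𝐂(S)).subgroupOf N
  letI : Fintype Q := Fintype.ofFinite Q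
  let f : N → S := fun n => ⟨n * x * (n : G)⁻¹, conj_mem_of_mem_normalizer (hN n.2) hx⟩
  have hf : ∀ n m : N, (n : Q) = m → f n = f m := fun n m e => by
    have h1 := mem_cent.1 (mem_subgroupOf.1 (QuotientGroup.eq.1 e)) x hx
    simp only [coe_mul, InvMemClass.coe_inv] at h1
    refine Subtype.ext ?_
    calc (n : G) * x * (n : G)⁻¹ = n * (x * ((n : G)⁻¹ * m)) * (m : G)⁻¹ := by group
      _ = m * x * (m : G)⁻¹ := by rw [h1]; group
  let y : S := ∏ q : Q, f q.out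
  have hy : (y : G) ∈ 𝐂(N) := mem_cent.2 fun n hn => by
    let φ : S →* S :=
      { toFun := fun s => ⟨n * s * n⁻¹, conj_mem_of_mem_normalizer (hN hn) s.2⟩
        map_one' := Subtype.ext (by simp)
        map_mul' := fun a b => Subtype.ext (by simp [mul_assoc]) }
    have : φ y = y := by
      rw [map_prod]
      refine Fintype.prod_equiv (MulAction.toPerm (⟨n, hn⟩ : N)) _ _ fun q => ?_
      have := hf ((⟨n, hn⟩ : N) * q.out) (((⟨n, hn⟩ : N) • q).out) (by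
        rw [QuotientGroup.out_eq', ← smul_eq_mul, MulAction.Quotient.coe_smul_out])
      refine Eq.trans (Subtype.ext ?_) this
      simp [φ, f, mul_assoc]
    have h2 : n * y * n⁻¹ = y := congrArg Subtype.val this
    exact mul_inv_eq_iff_eq_mul.1 h2
  let b : S := ∏ q : Q, (f q.out * (⟨x, hx⟩ : S)⁻¹)
  have hb : b ∈ B.subgroupOf S := prod_mem fun q _ => h _ q.out.2
  refine ⟨Fintype.card Q, by rwa [← Nat.card_eq_fintype_card], b, hb, ?_⟩
  have : (⟨x, hx⟩ : S) ^ Fintype.card Q * b = y := by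
    simp only [b, y, Finset.prod_mul_distrib, Finset.prod_const, Finset.card_univ, inv_pow]
    rw [mul_comm, inv_mul_cancel_right]
  rw [← this] at hy
  exact hy

theorem pow_odd_of_sq {x : G} (h : x * x = 1) {k : ℕ} (hk : Odd k) : x ^ k = x := by
  obtain ⟨j, rfl⟩ := hk
  rw [pow_succ, pow_mul, pow_two, h, one_pow, one_mul]

theorem MaxE.avg (hab : AbTwo G) {A X N B : Subgroup G} (hA : MaxE A X) (hN : N ≤ X ⊓ 𝐍(A))
    (hB : B ≤ A) {x : G} (hx : x ∈ A) (h : ∀ n ∈ N, n * x * n⁻¹ * x⁻¹ ∈ B) :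
    ∃ b ∈ B, x * b ∈ 𝐂(N) := by
  have hc : X ⊓ 𝐂(A) ≤ X ⊓ 𝐍(A) := inf_le_inf_left X (cent_le_norm A)
  obtain ⟨k, hk, b, hb, h1⟩ := exists_avg (N := N ⊔ (X ⊓ 𝐂(A))) hA.el.le_cent
    ((sup_le hN hc).trans inf_le_right)
    (hA.odd_relIndex hab inf_le_right le_sup_right ((sup_le hN hc).trans inf_le_left)) hB hx
    fun n hn => by
      rw [sup_comm] at hn
      obtain ⟨c, hc, m, hm, rfl⟩ := mem_sup_norm (H1.le_normalizer_inf
        (hN.trans (inf_le_left.trans le_normalizer))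
        (H1.le_normalizer_centralizer (hN.trans inf_le_right))) hn
      have := mem_cent.1 hc.2 _ (conj_mem_of_mem_normalizer (hN hm).2 hx)
      have e : c * m * x * (c * m)⁻¹ = m * x * m⁻¹ := by
        calc c * m * x * (c * m)⁻¹ = c * (m * x * m⁻¹) * c⁻¹ := by group
          _ = m * x * m⁻¹ := by rw [← this]; group
      rw [e]; exact h m hm
  rw [pow_odd_of_sq (hA.el x hx) hk] at h1
  exact ⟨b, hb, centralizer_le (show (N : Set G) ⊆ _ from (le_sup_left : N ≤ _)) h1⟩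

/-- The `Z*`-theorem for abelian Sylow `2`-subgroups. -/
theorem MaxE.zstar (hab : AbTwo G) {A X : Subgroup G} (hA : MaxE A X) {y : G} (hy : y ∈ A)
    (h : y ∈ 𝐂(X ⊓ 𝐍(A))) {g : G} (hg : g ∈ X) : g * y * g⁻¹ * y⁻¹ ∈ Od X := by
  by_cases h1 : y = 1
  · simp [h1]
  have hi : IsIsolated (⟨y, hA.le hy⟩ : X) := fun k hk => by
    have hk' : y * (k * y * (k : G)⁻¹) = (k * y * (k : G)⁻¹) * y := congrArg Subtype.val hk
    obtain ⟨c, hc, h2⟩ := (hA.mono (Y := X ⊓ 𝐂[y]) (le_inf hA.le (hA.el.le_cent1 hy))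
      inf_le_left).exists_conj_mem hab (u := k * y * (k : G)⁻¹)
      (mem_inf.2 ⟨mul_mem (mul_mem k.2 (hA.le hy)) (inv_mem k.2), mem_cent1'.2 hk'⟩)
      (Invol.conj_mul_self (hA.el y hy) k)
    obtain ⟨n, hn, h3⟩ := hA.fusion hab hy (mul_mem hc.1 k.2)
      (by convert h2 using 1; group)
    rw [mem_cent.1 h n hn, mul_inv_cancel_right] at h3
    have h4 := mem_cent1.1 hc.2
    refine Subtype.ext ?_
    calc (k : G) * y * (k : G)⁻¹ = c⁻¹ * (c * k * y * (c * k)⁻¹) * c := by group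
      _ = c⁻¹ * (y * c) := by rw [← h3]; group
      _ = y := by rw [← h4]; group
  have := Blk.glauberman_zstar X ⟨y, hA.le hy⟩
    ((orderOf_mk y _).trans (hA.el.ord hy h1)) hi ⟨g, hg⟩
  rw [Od, piCoreOf_compl_eq]
  exact ⟨_, this, rfl⟩

/-- An involution normalizing `K` acts on `K` as an inner automorphism. -/
theorem exists_inner (hab : AbTwo G) {K : Subgroup G} (hK : Od K = ⊥) {s : G} (hs : s * s = 1)
    (hn : s ∈ 𝐍(K)) : ∃ t ∈ K, t * t = 1 ∧ t * s = s * t ∧ t * s ∈ 𝐂(K) := by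
  obtain ⟨A, hsA, hA⟩ := exists_maxE (X := K ⊔ zpowers s) (el_zpowers hs) le_sup_right
  have hsA' := hsA (mem_zpowers s)
  have hnK : K ⊔ zpowers s ≤ 𝐍(K) := sup_le le_normalizer (zpowers_le.2 hn)
  obtain ⟨b, hb, h1⟩ := hA.avg hab (B := A ⊓ K) le_rfl inf_le_left hsA' fun n hn' => by
    refine mem_inf.2 ⟨mul_mem (conj_mem_of_mem_normalizer hn'.2 hsA') (inv_mem hsA'), ?_⟩
    obtain ⟨k, hk, z, hz, rfl⟩ := mem_sup_norm (zpowers_le.2 hn) hn'.1
    have := mem_cent1.1 (U4.zpowers_le_cent1 s hz)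
    have e : k * z * s * (k * z)⁻¹ * s⁻¹ = k * (s * k⁻¹ * s⁻¹) := by
      rw [mul_assoc k z, this]; group
    rw [e]
    exact mul_mem hk (conj_mem_of_mem_normalizer hn (inv_mem hk))
  have hc := hA.el.comm hb.1 hsA'
  refine ⟨b, hb.2, hA.el b hb.1, hc, hc ▸ mem_cent.2 fun k hk => ?_⟩
  have h2 := hA.zstar hab (mul_mem hsA' hb.1) h1 (mem_sup_left hk)
  have h3 : k * (s * b) * k⁻¹ * (s * b)⁻¹ ∈ K := by
    rw [mul_assoc k, mul_assoc k]
    exact mul_mem hk (conj_mem_of_mem_normalizer (hnK (hA.le (mul_mem hsA' hb.1))) (inv_mem hk))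
  have h4 := Od_inf_le (le_sup_left : K ≤ K ⊔ zpowers s) ⟨h2, h3⟩
  rw [hK, mem_bot, mul_inv_eq_one, mul_inv_eq_iff_eq_mul] at h4
  exact h4

/-- In a perfect group with abelian Sylow `2`-subgroups the centre has odd order. -/
theorem eq_one_of_central {K : Type*} [Group K] [Finite K] (hab : AbTwo K)
    (hp : commutator K = ⊤) {z : K} (hz : z ∈ center K) (h : z * z = 1) : z = 1 := by
  obtain ⟨S⟩ := (inferInstance : Nonempty (Sylow 2 K))
  haveI := hab S S.isPGroup'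
  letI : CommGroup (S : Subgroup K) := IsMulCommutative.instCommGroup
  have key : ∀ (k : ℕ) (g : K), g⁻¹ * z ^ k * g ∈ (S : Subgroup K) → g⁻¹ * z ^ k * g = z ^ k :=
    fun k g _ => by
      rw [mul_assoc, ← mem_center_iff.1 (pow_mem hz k) g, inv_mul_cancel_left]
  have h1 := MonoidHom.transfer_eq_pow (MonoidHom.id (S : Subgroup K)) z key
  have h2 : z ∈ (MonoidHom.transfer (MonoidHom.id (S : Subgroup K))).ker :=
    Abelianization.commutator_subset_ker _ (hp ▸ mem_top z)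
  rw [MonoidHom.mem_ker, h1] at h2
  have h3 : z ^ (S : Subgroup K).index = 1 := congrArg Subtype.val h2
  rwa [pow_odd_of_sq h (Nat.not_even_iff_odd.1 fun h => S.not_dvd_index (even_iff_two_dvd.1 h))]
    at h3

/-- Two involutions are conjugate or commute with a common involution. -/
theorem dihedral {u v : G} (hu : orderOf u = 2) (hv : orderOf v = 2) (h : ¬ IsConj u v) :
    ∃ z, orderOf z = 2 ∧ z * u = u * z ∧ z * v = v * z ∧
      (IsConj (u * z) u ∧ IsConj (v * z) v ∨ IsConj (u * z) v ∧ IsConj (v * z) u) := by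
  have hu2 := mul_self_of_inv hu
  have hv2 := mul_self_of_inv hv
  have he : Even (orderOf (u * v)) := Nat.not_odd_iff_even.1 fun ho => by
    obtain ⟨s, -, e⟩ := Invol.exists_conj_of_odd hu2 hv2 ho
    exact h (isConj_iff.2 ⟨s, e⟩)
  obtain ⟨z, hz, h1, h2⟩ := Invol.exists_involution_mem_zpowers he
  have hzi : z⁻¹ = z := inv_eq_of_mul_eq_one_right h2
  have i1 : ∀ y ∈ zpowers (u * v), u * y * u⁻¹ = y⁻¹ := fun y hy =>
    Invol.inverts_of_mem_zpowers (Invol.inverts_mul hu2 hv2) hy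
  have i2 : ∀ y ∈ zpowers (u * v), v * y * v⁻¹ = y⁻¹ := fun y hy =>
    Invol.inverts_of_mem_zpowers (by
      rw [mul_inv_rev, inv_of_inv hu, inv_of_inv hv, mul_assoc, mul_assoc, hv2, mul_one]) hy
  have c1 : z * u = u * z := by have := i1 z hz; rw [hzi, mul_inv_eq_iff_eq_mul] at this; exact this.symm
  have c2 : z * v = v * z := by have := i2 z hz; rw [hzi, mul_inv_eq_iff_eq_mul] at this; exact this.symm
  refine ⟨z, inv_of_mul_self h2 h1, c1, c2, ?_⟩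
  have k1 : ∀ w : G, ∀ y, w * y * w⁻¹ = y⁻¹ → IsConj (w * (y * y)) w := fun w y e =>
    isConj_iff.2 ⟨y, by
      calc y * (w * (y * y)) * y⁻¹ = y * (w * y * w⁻¹) * w := by group
        _ = w := by rw [e]; group⟩
  obtain ⟨n, rfl⟩ := mem_zpowers_iff.1 hz
  have hy : ∀ j : ℤ, (u * v) ^ j ∈ zpowers (u * v) := fun j => zpow_mem (mem_zpowers _) j
  rcases Int.even_or_odd' n with ⟨j, rfl | rfl⟩
  · rw [two_mul, zpow_add]
    exact Or.inl ⟨k1 _ _ (i1 _ (hy j)), k1 _ _ (i2 _ (hy j))⟩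
  · right
    constructor
    · have : u * (u * v) ^ (2 * j + 1) = v * ((u * v) ^ j * (u * v) ^ j) := by
        rw [add_comm, zpow_add, zpow_one, ← mul_assoc, ← mul_assoc, hu2, one_mul, two_mul,
          zpow_add]
      rw [this]; exact k1 _ _ (i2 _ (hy j))
    · have : v * (u * v) ^ (2 * j + 1) = u * ((u * v) ^ (j + 1) * (u * v) ^ (j + 1)) := by
        rw [← zpow_add, show j + 1 + (j + 1) = 1 + (2 * j + 1) by ring, zpow_add (u * v) 1,
          zpow_one, ← mul_assoc, ← mul_assoc, hu2, one_mul]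
      rw [this]; exact k1 _ _ (i1 _ (hy _))

end CfsgLib.Wal
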