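import Cfsg.Agent.Lib.H1Stable
import Cfsg.Agent.Lib.JR.Main
import Cfsg.Agent.Lib.SEG.Main

/-!
# Results quoted in the proof of Walter's theorem
-/

set_option autoImplicit false

namespace CfsgLib.Wal

open Subgroup Cfsg

universe u

/-- Bender–Suzuki for abelian Sylow `2`-subgroups. -/
theorem sl2_of_stronglyEmbedded {G : Type u} [Group G] [Finite G] [IsSimpleGroup G]
    (hna : ¬ IsMulCommutative G) (hab : H1.AbTwo G) {M : Subgroup G}
    (hM : IsStronglyEmbedded M) : ∃ n : ℕ, 2 ≤ n ∧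
      Nonempty (G ≃* Matrix.SpecialLinearGroup (Fin 2) (GaloisField 2 n)) :=
  SEG.sl2_of_stronglyEmbedded hna hab hM

end CfsgLib.Wal
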