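import Cfsg.Agent.Lib.Wal.Bar
import Cfsg.Agent.Lib.Sig.SigU

/-!
# The `2`-components of a subgroup
-/

set_option autoImplicit false

namespace CfsgLib.Wal

open Subgroup Cfsg CfsgLib.FT CfsgLib.FT.BGN CfsgLib.Cop CfsgLib.GW
open CfsgLib.H1 (AbTwo)
open CfsgLib.FT.U4 (mem_cent1 mem_cent1' mem_cent mem_cent1_comm cent1_conj
  eq_one_of_mem_inf eq_bot_of_forall conj_mem_conj_iff orderOf_conj)
open scoped commutatorElement

universe u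

variable {G : Type*} [Group G]

/-- `L / O(X)` is a component of `X / O(X)`. -/
structure Cp (X L : Subgroup G) : Prop where
  comp : IsComponent (im X L)
  eq : pre X (im X L) = L

/-- The centralizer of `L` modulo `O(X)`. -/
def cm (X L : Subgroup G) : Subgroup G := pre X 𝐂(im X L)

/-- A preimage of the centralizer of `t` in `L / O(X)`. -/
def ct (X A L : Subgroup G) (t : G) : Subgroup G := L ⊓ 𝐂[t] ⊓ 𝐂(A ⊓ cm X L)

/-- The structure of `X` is known. -/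
structure Gd (X : Subgroup G) : Prop where
  ab : AbTwo G
  red : Red (Bar X)

variable {X A L : Subgroup G}

theorem cp_pre {K : Subgroup (Bar X)} (h : IsComponent K) : Cp X (pre X K) :=
  ⟨by rwa [im_pre], by rw [im_pre]⟩

theorem cm_le (X L : Subgroup G) : cm X L ≤ X := pre_le _

theorem mem_cm {x : G} : x ∈ cm X L ↔ x ∈ X ∧ br X x ∈ 𝐂(im X L) := mem_pre

theorem le_cm {U : Subgroup G} (h : U ≤ X) : U ≤ cm X L ↔ im X U ≤ 𝐂(im X L) := le_pre h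

theorem Cp.le (h : Cp X L) : L ≤ X := h.eq ▸ pre_le _

theorem Cp.mem_iff (h : Cp X L) {x : G} : x ∈ L ↔ x ∈ X ∧ br X x ∈ im X L := by
  rw [← mem_pre, h.eq]

theorem Cp.le_iff (h : Cp X L) {U : Subgroup G} (hU : U ≤ X) : U ≤ L ↔ im X U ≤ im X L := by
  rw [← le_pre hU, h.eq]

theorem Cp.mem_norm (h : Cp X L) {g : G} (hg : g ∈ X) (h1 : br X g ∈ 𝐍(im X L)) : g ∈ 𝐍(L) :=
  h.eq ▸ mem_norm_pre hg h1

theorem Cp.le_norm (h : Cp X L) {U : Subgroup G} (hU : U ≤ X) (h1 : im X U ≤ 𝐍(im X L)) :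
    U ≤ 𝐍(L) := h.eq ▸ le_norm_pre hU h1

theorem Cp.cj (h : Cp X L) {g : G} (hg : g ∈ X) : Cp X (g •ᶜ L) :=
  ⟨by rw [im_cj hg]; exact isComponent_map_conj h.comp _, by rw [im_cj hg, pre_cj hg, h.eq]⟩

theorem cm_cj {g : G} (hg : g ∈ X) (L : Subgroup G) : cm X (g •ᶜ L) = g •ᶜ cm X L := by
  rw [cm, cm, im_cj hg, centralizer_map_conj, pre_cj hg]

theorem norm_le_norm_cm : X ⊓ 𝐍(L) ≤ 𝐍(cm X L) := fun g hg =>
  mem_normalizer_of_map_conj_eq (by rw [← cm_cj hg.1, map_conj_eq_of_mem_normalizer hg.2])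

theorem ct_le (t : G) : ct X A L t ≤ L := inf_le_left.trans inf_le_left

theorem ct_le_cent1 (t : G) : ct X A L t ≤ 𝐂[t] := inf_le_left.trans inf_le_right

theorem ct_le_cent (t : G) : ct X A L t ≤ 𝐂(A ⊓ cm X L) := inf_le_right

theorem le_ct (hA : El A) {t : G} (ht : t ∈ A) : A ⊓ L ≤ ct X A L t :=
  le_inf (le_inf inf_le_right (inf_le_left.trans (hA.le_cent1 ht)))
    (hA.le_cent' inf_le_left inf_le_left)

theorem ct_le_cent1' {t a : G} (h : t * a ∈ A ⊓ cm X L) : ct X A L t ≤ 𝐂[a] := fun x hx => by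
  have := mul_mem (inv_mem (mem_cent1_comm.1 (ct_le_cent1 t hx)))
    (mem_cent1_comm.1 (cent_le_cent1 h (ct_le_cent t hx)))
  rw [inv_mul_cancel_left] at this
  exact mem_cent1_comm.1 this

variable [Finite G]

theorem Od_le_cm (X L : Subgroup G) : Od X ≤ cm X L := Od_le_pre _

theorem le_cm' {U : Subgroup G} (h : U ≤ X) (hL : L ≤ X) : U ≤ cm X L ↔ ⁅U, L⁆ ≤ Od X := by
  rw [le_cm h, im_le_cent h hL]

theorem inf_cent_le_cm : X ⊓ 𝐂(L) ≤ cm X L := (le_cm inf_le_left).2 (im_cent inf_le_right)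

theorem Cp.Od_le (h : Cp X L) : Od X ≤ L := h.eq ▸ Od_le_pre _

theorem Cp.not_solv (h : Cp X L) : ¬ Group.IsSolvable L := fun hs =>
  isComponent_not_isSolvable h.comp (solv_im hs)

theorem Cp.im_inf (h : Cp X L) (U : Subgroup G) : im X (U ⊓ L) = im X U ⊓ im X L := by
  rw [← im_inf_pre, h.eq]

theorem im_inf_cm (U : Subgroup G) : im X (U ⊓ cm X L) = im X U ⊓ 𝐂(im X L) := im_inf_pre

theorem Cp.eq_or_le {L' : Subgroup G} (h : Cp X L) (h' : Cp X L') : L = L' ∨ L ≤ cm X L' :=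
  (isComponent_eq_or_commutator_eq_bot h.comp h'.comp).imp
    (fun e => by rw [← h.eq, e, h'.eq]) fun e => (le_cm h.le).2 (comm_eq_bot_iff.1 e)

namespace Gd

variable (hX : Gd X)
include hX

omit [Finite G] in
theorem kt (hL : Cp X L) : KT (im X L) := hX.red.kt _ hL.comp

theorem inf_cm (hL : Cp X L) : L ⊓ cm X L ≤ Od X := fun x hx =>
  (br_eq_one (hL.le hx.1)).1 (eq_one_of_mem_inf (hX.kt hL).inf_cent (hL.mem_iff.1 hx.1).2
    (mem_cm.1 hx.2).2)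

theorem eq_one (hL : Cp X L) {t : G} (h1 : t * t = 1) (h2 : t ∈ L) (h3 : t ∈ cm X L) : t = 1 :=
  eq_one_of_odd_of_mul_self (odd_of_mem_Od (hX.inf_cm hL ⟨h2, h3⟩)) h1

theorem not_le_cm (hL : Cp X L) : ¬ L ≤ cm X L := fun h =>
  hL.not_solv (isSolvable_of_le (solvable_Od X) ((le_inf le_rfl h).trans (hX.inf_cm hL)))

theorem two_norm (hL : Cp X L) {P : Subgroup G} (hP : IsPGroup 2 P) (h : P ≤ X) :
    P ≤ 𝐍(L) := hL.le_norm h (hX.red.two_norm hL.comp (pgroup_im hP))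

theorem inv_norm (hL : Cp X L) {u : G} (h1 : u * u = 1) (h : u ∈ X) : u ∈ 𝐍(L) :=
  hX.two_norm hL (el_zpowers h1).isPGroup (zpowers_le.2 h) (mem_zpowers u)

theorem Jv_norm (hL : Cp X L) : Jv X ≤ 𝐍(L) :=
  Jv_le_of fun _ hu h2 => hX.inv_norm hL (mul_self_of_inv h2) hu

theorem norm_of_mem (hL : Cp X L) {t u : G} (ht : t ∈ L) (h2 : orderOf t = 2) (hu : u ∈ X)
    (h : u * t * u⁻¹ ∈ L) : u ∈ 𝐍(L) :=
  hL.mem_norm hu (hX.red.norm_of_mem hL.comp (hL.mem_iff.1 ht).2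
    (ne_one_of_inv (ord_br h2 (hL.le ht))) (by
      rw [← br_conj hu (hL.le ht)]; exact (hL.mem_iff.1 h).2))

variable (hA : MaxE A X)
include hA

theorem maxE_im (hL : Cp X L) : MaxE (im X (A ⊓ L)) (im X L) := by
  rw [hL.im_inf]; exact hX.red.maxE_inf hL.comp hA.im

theorem four_le (hL : Cp X L) : 4 ≤ Nat.card ↥(A ⊓ L) := by
  rw [← card_im (hA.el.mono inf_le_left) (inf_le_left.trans hA.le)]
  exact (hX.kt hL).four_le (hX.maxE_im hA hL)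

theorem exists_ne_one (hL : Cp X L) : ∃ t ∈ A ⊓ L, t ≠ 1 := exists_mem_ne_one fun e => by
  have := hX.four_le hA hL
  rw [e, card_bot] at this
  omega

theorem not_le_cm' (hL : Cp X L) : ¬ A ⊓ L ≤ cm X L := fun h => by
  obtain ⟨t, ht, h1⟩ := hX.exists_ne_one hA hL
  exact h1 (hX.eq_one hL (hA.el t ht.1) ht.2 (h ht))

theorem odd_norm (hL : Cp X L) {Q : Subgroup G} (hQ : Q ≤ X) (ho : Odd (Nat.card Q))
    (hn : A ⊓ L ≤ 𝐍(Q)) : Q ≤ 𝐍(L) :=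
  hL.le_norm hQ (hX.red.odd_le_norm hL.comp hA.im (odd_im ho) (by
    rw [← hL.im_inf]; exact im_norm hn))

theorem dec (hL : Cp X L) {a : G} (ha : a ∈ A) : ∃ t ∈ A ⊓ L, t * a ∈ A ⊓ cm X L := by
  obtain ⟨y, hy, h1⟩ := hX.red.dec_mem hL.comp hA.im (br_mem_im ha (hA.le ha))
  rw [← hL.im_inf] at hy
  obtain ⟨t, ht, h2, rfl⟩ := mem_im.1 hy
  exact ⟨t, ht, mul_mem ht.1 ha, mem_cm.2 ⟨mul_mem h2 (hA.le ha),
    by rw [br_mul h2 (hA.le ha)]; exact h1.2⟩⟩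

theorem sup_eq (hL : Cp X L) : (A ⊓ L) ⊔ (A ⊓ cm X L) = A :=
  le_antisymm (sup_le inf_le_left inf_le_left) fun a ha => by
    obtain ⟨t, ht, h1⟩ := hX.dec hA hL ha
    simpa using mul_mem (inv_mem (mem_sup_left ht)) (mem_sup_right h1 : _ ∈ (A ⊓ L) ⊔ _)

theorem inf_eq (hL : Cp X L) : (A ⊓ L) ⊓ (A ⊓ cm X L) = ⊥ :=
  eq_bot_of_forall fun t ht => hX.eq_one hL (hA.el t ht.1.1) ht.1.2 ht.2.2

theorem im_ct (hL : Cp X L) {t : G} (ht : t ∈ A) : im X (ct X A L t) = im X L ⊓ 𝐂[br X t] := by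
  have h1 : zpowers t ⊔ (A ⊓ cm X L) ≤ A := sup_le (zpowers_le.2 ht) inf_le_left
  have h2 : ct X A L t = (X ⊓ 𝐂(zpowers t ⊔ (A ⊓ cm X L))) ⊓ L := by
    rw [cent_sup, cent_zpowers, ct]
    exact le_antisymm (fun x hx => ⟨⟨hL.le hx.1.1, hx.1.2, hx.2⟩, hx.1.1⟩)
      fun x hx => ⟨⟨hx.2, hx.1.2.1⟩, hx.1.2.2⟩
  rw [h2, hL.im_inf, ← cent_im (hA.el.mono h1).isPGroup (h1.trans hA.le),
    im_sup (zpowers_le.2 (hA.le ht)) (inf_le_left.trans hA.le), cent_sup, im_zpowers (hA.le ht),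
    cent_zpowers, im_inf_cm]
  exact le_antisymm (fun y hy => ⟨hy.2, hy.1.1⟩) fun y hy => ⟨⟨hy.2,
    le_centralizer_iff.1 (inf_le_right : im X A ⊓ 𝐂(im X L) ≤ _) hy.1⟩, hy.1⟩

theorem le_sup_cent (hL : Cp X L) : L ≤ Od X ⊔ L ⊓ 𝐂(A ⊓ cm X L) := by
  rw [← im_le_im hL.le (inf_le_left.trans hL.le)]
  refine le_trans ?_ (im_mono (show ct X A L 1 ≤ _ from
    le_inf (ct_le 1) (ct_le_cent 1)))
  rw [hX.im_ct hA hL (one_mem A), br_one]
  exact le_inf le_rfl fun y _ => by simp [mem_cent1]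

theorem maxE_inf (hL : Cp X L) : MaxE (A ⊓ L) L :=
  ⟨inf_le_right, hA.el.mono inf_le_left, fun u hu h1 h2 => by
    obtain ⟨t, ht, h3, h4⟩ := mem_im.1 ((hX.maxE_im hA hL).mem _ (hL.mem_iff.1 hu).2
      (br_sq h1 (hL.le hu)) (im_cent (zpowers_le.2 h2) (br_mem_im (mem_zpowers u) (hL.le hu))))
    have h5 := mem_cent.1 h2 t ht
    have := eq_one_of_br (a := t * u) (by
      rw [mul_assoc, ← mul_assoc u, ← h5, mul_assoc, h1, mul_one, hA.el t ht.1])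
      (mul_mem h3 (hL.le hu)) (by rw [br_mul h3 (hL.le hu), h4, br_sq h1 (hL.le hu)])
    rw [eq_inv_of_mul_eq_one_right this]
    exact inv_mem ht⟩

omit hA in
theorem oneCl (hL : Cp X L) : OneCl L := fun u hu v hv h1 h2 => by
  obtain ⟨y, hy, e⟩ := (hX.kt hL).one _ (hL.mem_iff.1 hu).2 _ (hL.mem_iff.1 hv).2
    (ord_br h1 (hL.le hu)) (ord_br h2 (hL.le hv))
  obtain ⟨g, hg, h3, rfl⟩ := mem_im.1 hy
  have h4 := conj_mem_of_mem_normalizer (le_normalizer hg) hu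
  rw [← br_conj h3 (hL.le hu)] at e
  obtain ⟨c, hc, e'⟩ := isConj_of_br (mul_self_of_inv h2)
    (Invol.conj_mul_self (mul_self_of_inv h1) g) (hL.le hv) (hL.le h4) e.symm
  exact ⟨c * g, mul_mem (zpowers_le.2 (mul_mem h4 hv) hc) hg, by rw [← e']; group⟩

theorem kill {Q : Subgroup G} (hQ : Q ≤ X) (ho : Odd (Nat.card Q)) (hn : A ≤ 𝐍(Q)) {a : G}
    (ha : a ∈ A) (h1 : ∀ L, Cp X L → ∀ t ∈ A ⊓ L, t * a ∈ cm X L →
      ⁅Q, zpowers t⁆ ≤ Od X ∨ Q ≤ cm X L) : ⁅Q, zpowers a⁆ ≤ Od X := by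
  rw [← im_le_cent1 hQ (hA.le ha)]
  refine hX.red.kill hA.im (odd_im ho) (im_norm hn) (br_mem_im ha (hA.le ha)) fun K hK y hy h2 => ?_
  rw [← im_inf_pre] at hy
  obtain ⟨t, ht, h3, rfl⟩ := mem_im.1 hy
  have := h1 _ (cp_pre hK) t ht (mem_cm.2 ⟨mul_mem h3 (hA.le ha), by
    rwa [im_pre, br_mul h3 (hA.le ha)]⟩)
  rwa [← im_le_cent1 hQ h3, le_cm hQ, im_pre] at this

theorem kill' {Q : Subgroup G} (hQ : Q ≤ X) (ho : Odd (Nat.card Q)) (hn : A ≤ 𝐍(Q)) {a : G}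
    (ha : a ∈ A) (h1 : ∀ L, Cp X L → a ∈ cm X L ∨ Q ≤ cm X L) : ⁅Q, zpowers a⁆ ≤ Od X :=
  hX.kill hA hQ ho hn ha fun L hL t ht h2 => (h1 L hL).imp_left fun h3 => by
    have := mul_mem h2 (inv_mem h3)
    rw [mul_inv_cancel_right] at this
    rw [hX.eq_one hL (hA.el t ht.1) ht.2 this, zpowers_one_eq_bot, commutator_bot_right]
    exact bot_le

theorem kill2 {Q : Subgroup G} (hQ : Q ≤ X) (ho : Odd (Nat.card Q)) (hc : Q ≤ 𝐂(A))
    (h1 : ∀ L, Cp X L → Q ≤ cm X L) : Q ≤ Od X := by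
  rw [← im_eq_bot hQ]
  refine hX.red.kill2 hA.im (odd_im ho) (im_cent hc) fun K hK => ?_
  have := h1 _ (cp_pre hK)
  rwa [le_cm hQ, im_pre] at this

omit hA hX in
theorem _root_.CfsgLib.Wal.Cp.cm_of_norm (hL : Cp X L) {Q J : Subgroup G} (hQ : Q ≤ X)
    (ho : Odd (Nat.card Q)) (hJ : J ≤ X) (h1 : L ≤ Od X ⊔ J) (hn : J ≤ 𝐍(Q)) : Q ≤ cm X L :=
  (le_cm hQ).2 (Red.cent_of_norm' hL.comp (odd_im ho)
    (((im_le_im hL.le hJ).2 h1).trans (im_norm hn)))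

omit hA in
/-- Bender's lemma. -/
theorem lemU {a : G} (ha : a * a = 1) (haX : a ∈ X) {p : ℕ} (hp : p.Prime) (hp2 : p ≠ 2)
    {U : Subgroup G} (hU : IsPGroup p U) (hUX : U ≤ X) (hn : X ⊓ 𝐂[a] ≤ 𝐍(U)) :
    ⁅U, zpowers a⁆ ≤ pCoreOf p X := by
  haveI := Fact.mk hp
  have h1 : ⁅U, zpowers a⁆ ≤ Od X := (im_le_cent1 hUX haX).1 (hX.red.lemU (br_sq ha haX) hp hp2
    (pgroup_im hU) (by rw [cent1_br ha haX]; exact im_norm hn))
  have h2 : zpowers a ≤ 𝐍(U) := zpowers_le.2 (hn ⟨haX, U4.self_mem_cent1 a⟩)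
  have h3 : X ⊓ 𝐂[a] ≤ 𝐍(⁅U, zpowers a⁆) := le_normalizer_commutator hn
    (inf_le_right.trans ((cent_zpowers a).ge.trans (cent_le_norm _)))
  rw [← commutator_commutator_eq h2
    ((el_zpowers ha).coprime (odd_card_of_isPGroup hp hp2 hU))]
  refine (Sig.commutator_zpowers_le_pCoreOf Nat.prime_two (by rwa [pow_two]) (solvable_Od X)
    (Nat.coprime_two_right.2 (odd_Od X)) (zpowers_le.2 (le_norm_Od X haX))
    (hU.to_le (U4.comm_le_left h2)) h1 (zpowers_le.2 (h3 ⟨haX, U4.self_mem_cent1 a⟩))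
    (le_trans ?_ h3) fun _ _ _ => hp2).trans
    (H1.pCoreOf_le_of_le_normalizer (Od_le X) (le_norm_Od X))
  rw [cent_zpowers]
  exact inf_le_inf_right _ (Od_le X)

theorem lemD {b c : G} (h4 : Four b c) (hB : V b c ≤ A) {Q : Subgroup G} (hQ : Q ≤ X)
    (hn : A ≤ 𝐍(Q)) (h : ∀ x ∈ V b c, x ≠ 1 → Q ≤ Od 𝐂[x]) : ⁅Q, A⁆ ≤ Od X := by
  have hb := hA.le (hB (t_mem_V b c))
  have hc := hA.le (hB (s_mem_V b c))
  rw [← im_le_cent hQ hA.le]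
  refine hX.red.lemD hA.im (Four.br h4 hb hc) (by rw [← im_V hb hc]; exact im_mono hB)
    (im_norm hn) fun y hy h1 => ?_
  rw [← im_V hb hc] at hy
  obtain ⟨x, hx, h2, rfl⟩ := mem_im.1 hy
  have h3 : x ≠ 1 := fun e => h1 (by rw [e, br_one])
  rw [cent1_br (hA.el x (hB hx)) h2]
  refine (im_mono ?_).trans im_Od_le
  exact (le_inf (h x hx h3) (le_inf hQ ((h x hx h3).trans (Od_le _)))).trans
    (Od_inf_le inf_le_right)

theorem gen {M : Subgroup G} (h0 : Od X ≤ M) (h1 : ∀ L, Cp X L → L ≤ M) (h2 : X ⊓ 𝐍(A) ≤ M) :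
    X ≤ M := by
  have := hX.red.gen hA.im (M := im X M) (fun K hK => im_pre K ▸ im_mono (h1 _ (cp_pre hK)))
    (by rw [norm_im hA.el.isPGroup hA.le]; exact im_mono h2)
  intro x hx
  obtain ⟨m, hm, h3, h4⟩ := mem_im.1 (this.ge (mem_top (br X x)))
  have h5 : x * m⁻¹ ∈ Od X := (br_eq_one (mul_mem hx (inv_mem h3))).1 (by
    rw [br_mul hx (inv_mem h3), br_inv h3, h4, mul_inv_cancel])
  simpa using mul_mem (h0 h5) hm

omit hA in
theorem comm_mem_Od {s j : G} (hs : s * s = 1) (hsX : s ∈ X) (h1 : ∀ L, Cp X L → s ∈ cm X L)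
    (hj : j ∈ Jv X) : ⁅j, s⁆ ∈ Od X := by
  have : Jv X ≤ pre X 𝐂[br X s] := Jv_le_of fun u hu h2 => mem_pre.2 ⟨hu, mem_cent1'.2
    (hX.red.comm_of_cent (br_sq hs hsX) (fun K hK => by
      have := (mem_cm.1 (h1 _ (cp_pre hK))).2
      rwa [im_pre] at this) (br_sq (mul_self_of_inv h2) hu))⟩
  have h2 := Jv_le X hj
  rw [← br_eq_one (comm_mem_left h2 (le_normalizer hsX)), br_comm h2 hsX,
    commutatorElement_eq_one_iff_mul_comm]
  exact mem_cent1.1 (mem_pre.1 (this hj)).2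

theorem cm_of_TI (hL : Cp X L) (h' : TI (im X L)) {W : Subgroup G} (hW : W ≤ X)
    (ho : Odd (Nat.card W)) (hn : W ≤ 𝐍(L)) (hc : ⁅W, A ⊓ L⁆ ≤ Od X) : W ≤ cm X L :=
  (le_cm hW).2 ((hX.kt hL).le_cent_of_TI h' (hX.maxE_im hA hL) (odd_im ho) (im_norm hn)
    ((im_le_cent hW (inf_le_left.trans hA.le)).2 hc))

theorem cm_of_cent (hL : Cp X L) (h8 : Nat.card ↥(A ⊓ L) = 4) {t : G} (ht : t ∈ A ⊓ L)
    (h1 : t ≠ 1) {W : Subgroup G} (hW : W ≤ X) (ho : Odd (Nat.card W)) (hc : W ≤ 𝐂(A ⊓ L))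
    (hn : ct X A L t ≤ 𝐍(W)) : W ≤ cm X L := by
  refine (le_cm hW).2 ((hX.kt hL).le_cent_of_cent (fun e => ?_) (hX.maxE_im hA hL)
    (br_mem_im ht (hA.le ht.1)) (br_ne_one (hA.el t ht.1) (hA.le ht.1) h1) (odd_im ho)
    (im_norm (hX.odd_norm hA hL hW ho ((le_ct hA.el ht.1).trans hn))) (im_cent hc)
    (by rw [← hX.im_ct hA hL ht.1]; exact im_norm hn))
  have h2 := ((hX.kt hL).sylow (hX.maxE_im hA hL))
  have h3 := card_mul_relIndex h2.le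
  rw [card_im (hA.el.mono inf_le_left) (inf_le_left.trans hA.le), h8] at h3
  rw [← h3] at e
  exact h2.not_dvd (Nat.dvd_of_mul_dvd_mul_left (by norm_num : 0 < 4) e)

theorem cm_of_typeI (hL : Cp X L) (h' : TypeI (im X L)) {t : G} (ht : t ∈ A ⊓ L) (h1 : t ≠ 1)
    {p : ℕ} (hp : p.Prime) (hp2 : p ≠ 2) {W : Subgroup G} (hW : W ≤ X) (hWp : IsPGroup p W)
    (hn : ct X A L t ≤ 𝐍(W)) : W ≤ cm X L :=
  (le_cm hW).2 ((hX.kt hL).le_cent_of_typeI h' (hL.mem_iff.1 ht.2).2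
    (ord_br (hA.el.ord ht.1 h1) (hA.le ht.1)) hp hp2 (pgroup_im hWp)
    (im_norm (hX.odd_norm hA hL hW (odd_card_of_isPGroup hp hp2 hWp)
      ((le_ct hA.el ht.1).trans hn))) (by rw [← hX.im_ct hA hL ht.1]; exact im_norm hn))

theorem gen_NS (hL : Cp X L) (h' : NS (im X L)) {M : Subgroup G} (hM : M ≤ X)
    (h : ∀ t ∈ A ⊓ L, t ≠ 1 → ∀ u ∈ ct X A L t, orderOf u = 2 → u ∈ M) : L ≤ Od X ⊔ M := by
  rw [← im_le_im hL.le hM]
  refine (hX.kt hL).gen h' (hX.maxE_im hA hL) fun y hy h1 z hz h2 h3 => ?_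
  obtain ⟨t, ht, h4, rfl⟩ := mem_im.1 hy
  obtain ⟨u, hu, h5, h6, rfl⟩ := exists_lift ((hX.im_ct hA hL ht.1).ge ⟨hz, h3⟩)
    (mul_self_of_inv h2)
  exact br_mem_im (h t ht (fun e => h1 (by rw [e, br_one])) u hu
    (inv_of_mul_self h6 fun e => ne_one_of_inv h2 (by rw [e, br_one]))) h5

theorem inf_cent1_le_of_TI (hL : Cp X L) (h' : TI (im X L)) {t : G} (ht : t ∈ A ⊓ L)
    (h1 : t ≠ 1) : L ⊓ 𝐂[t] ≤ Od X ⊔ A ⊓ L := by
  rw [← im_le_im (inf_le_left.trans hL.le) (inf_le_left.trans hA.le),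
    ← h'.inf_cent1 (hX.maxE_im hA hL) (br_mem_im ht (hA.le ht.1))
    (br_ne_one (hA.el t ht.1) (hA.le ht.1) h1)]
  exact im_le_iff.2 fun x hx h2 => ⟨br_mem_im hx.1 h2, br_mem_cent1 h2 (hA.le ht.1) hx.2⟩

theorem comm_le_of_TI (hL : Cp X L) (h' : TI (im X L)) {t a : G} (ht : t ∈ A ⊓ L) (h1 : t ≠ 1)
    (ha : t * a ∈ A ⊓ cm X L) {W : Subgroup G} (hW : W ≤ X) (ho : Odd (Nat.card W))
    (hn : A ≤ 𝐍(W)) (hc : W ≤ 𝐂[a]) : ⁅W, A ⊓ L⁆ ≤ Od X := by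
  have haA : a ∈ A := by simpa using mul_mem (inv_mem (mem_inf.1 ht).1) (mem_inf.1 ha).1
  have h2 := im_norm (X := X) (hX.odd_norm hA hL hW ho (inf_le_left.trans hn))
  have h3 : im X W ≤ 𝐂[br X t] := im_le_iff.2 fun w hw h3 => mem_cent1.2
    (hX.red.dec_cent hL.comp (hL.mem_iff.1 ht.2).2
      (by rw [← br_mul (hA.le ht.1) (hA.le haA)]; exact (mem_cm.1 ha.2).2) (h2 (br_mem_im hw h3))
      (mem_cent1.1 (br_mem_cent1 h3 (hA.le haA) (hc hw))))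
  have h4 : im X W ≤ 𝐍(im X (A ⊓ L)) := by
    rw [← h'.inf_cent1 (hX.maxE_im hA hL) (br_mem_im ht (hA.le ht.1))
      (br_ne_one (hA.el t ht.1) (hA.le ht.1) h1)]
    exact H1.le_normalizer_inf h2 (h3.trans le_normalizer)
  rw [← im_le_cent hW (inf_le_left.trans hA.le)]
  exact le_cent_of_norm_of_inf h4 (im_norm (inf_le_left.trans hn))
    (inf_eq_bot_of_cop ((hA.el.mono inf_le_left).im.coprime (odd_im ho)).symm)

theorem card_eq_four (hL : Cp X L) (h' : ¬ TypeI (im X L)) : Nat.card ↥(A ⊓ L) = 4 := by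
  rw [← card_im (hA.el.mono inf_le_left) (inf_le_left.trans hA.le)]
  exact (hX.kt hL).card_eq_four h' (hX.maxE_im hA hL)

theorem exists_odd (hL : Cp X L) (h' : ¬ TypeI (im X L)) :
    ∃ t ∈ A ⊓ L, t ≠ 1 ∧ ∃ x ∈ L ⊓ 𝐂[t], x * x ∉ Od X := by
  by_contra! h
  refine h' fun y hy h2 => ?_
  obtain ⟨g, hg, h3⟩ := (hX.maxE_im hA hL).exists_conj_mem hX.red.ab hy (mul_self_of_inv h2)
  obtain ⟨t, ht, h4, h5⟩ := mem_im.1 h3
  rw [← cj_eq_bot_iff (g := g), ← Od_conj, cj_inf_cent1 (le_normalizer hg), ← h5,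
    ← hX.im_ct hA hL ht.1]
  refine eq_bot_of_forall fun z hz => eq_one_of_odd_of_mul_self (odd_of_mem_Od hz) ?_
  obtain ⟨x, hx, h6, rfl⟩ := mem_im.1 (Od_le _ hz)
  rw [← br_mul h6 h6, br_eq_one (mul_mem h6 h6)]
  refine h t ht (fun e => ?_) x hx.1
  rw [e, br_one] at h5
  exact U4.conj_ne_one_iff.2 (ne_one_of_inv h2) h5.symm

omit hA in
theorem sup_Jv (hL : Cp X L) : Od X ⊔ Jv L = L := by
  refine le_antisymm (sup_le hL.Od_le (Jv_le L)) ?_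
  rw [← im_le_im hL.le ((Jv_le L).trans hL.le), ← (hX.kt hL).Jv_eq]
  refine Jv_le_of fun y hy h2 => ?_
  obtain ⟨u, hu, h5, h6, rfl⟩ := exists_lift hy (mul_self_of_inv h2)
  exact br_mem_im (mem_Jv hu
    (inv_of_mul_self h6 fun e => ne_one_of_inv h2 (by rw [e, br_one]))) h5

end Gd

end CfsgLib.Wal
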