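import Cfsg.Agent.Lib.Wal.FourW

/-!
# Rank at least four: the case of a nontrivial signalizer
-/

set_option autoImplicit false

namespace CfsgLib.Wal

open Subgroup Cfsg CfsgLib.FT CfsgLib.FT.BGN CfsgLib.Cop CfsgLib.GW
open CfsgLib.H1 (AbTwo CharIn layerIn genFitIn dSub)
open CfsgLib.FT.U4 (mem_cent1 mem_cent1' mem_cent mem_cent1_comm cent1_conj
  eq_one_of_mem_inf eq_bot_of_forall conj_mem_conj_iff orderOf_conj)
open scoped commutatorElement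

universe u

variable {G : Type*} [Group G] [Finite G]

theorem card_lt' {H K : Subgroup G} (h : H < K) : Nat.card H < Nat.card K :=
  lt_of_le_of_ne (card_le_of_le h.le) fun e => h.ne (eq_of_le_of_card_ge h.le e.ge)

theorem le_norm_bot (A : Subgroup G) : A ≤ 𝐍((⊥ : Subgroup G)) :=
  le_top.trans (normalizer_eq_top _).ge

theorem two_le_cent (hab : AbTwo G) {A X : Subgroup G} (hA : El A) (h : A ≤ X) :
    pCoreOf 2 X ≤ 𝐂(A) := le_centralizer_iff.1 (ab_cent_of_norm hab hA.isPGroup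
  (H1.pCoreOf_isPGroup X) (h.trans (H1.le_normalizer_pCoreOf X)))

theorem four_fix (hab : AbTwo G) {A T : Subgroup G} (hA : MaxE A ⊤) (hT : T ≤ A)
    (h4 : Nat.card T = 4) {t n : G} (ht : t ∈ T) (h1 : t ≠ 1) (hn : n ∈ 𝐍(A)) (hn' : n ∈ 𝐍(T))
    (hc : n ∈ 𝐂[t]) : n ∈ 𝐂(T) := by
  obtain ⟨s, hs, h⟩ := (hA.el.mono hT).exists_four h4.ge ht h1
  have e : V t s = T := eq_of_le_of_card_ge (V_le ht hs) (by rw [h4, h.card_V])
  refine mem_of_sq hab hA (centralizer_le hT) hn ?_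
  rw [← e, cent_V]
  refine ⟨mul_mem hc hc, U4.mem_cent1_of_conj_eq ?_⟩
  have e1 : n * t * n⁻¹ = t := by rw [mem_cent1.1 hc, mul_inv_cancel_right]
  have e2 : n * n * s * (n * n)⁻¹ = n * (n * s * n⁻¹) * n⁻¹ := by group
  rcases h.mem_V.1 (e.ge (conj_mem_of_mem_normalizer hn' hs)) with a | a | a | a
  · exact absurd a (U4.conj_ne_one_iff.2 h.s1)
  · exact absurd (by simpa using a.trans e1.symm) h.ne.symm
  · rw [e2, a, a]
  · rw [e2, a, show n * (t * s) * n⁻¹ = n * t * n⁻¹ * (n * s * n⁻¹) by group, e1, a, ← mul_assoc,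
      h.tt, one_mul]

theorem Ctx.tc_norm {A X J Q : Subgroup G} (h : Ctx A) (hX : X ≠ ⊤) (hA : A ≤ X) (hJ : TC X J)
    (hQ : Q ≤ X) (ho : Odd (Nat.card Q)) (hn : A ≤ 𝐍(Q)) : Q ≤ 𝐍(J) :=
  ((h.gd X hX).odd_norm (h.mx hA) hJ.cp hQ ho (inf_le_left.trans hn)).trans
    (hJ.norm_of_norm (h.gd X hX))

theorem Ctx.tc_norm' {A X J : Subgroup G} (h : Ctx A) (hX : X ≠ ⊤) (hA : A ≤ X) (hJ : TC X J) :
    A ≤ 𝐍(J) :=
  ((h.gd X hX).two_norm hJ.cp h.el.isPGroup hA).trans (hJ.norm_of_norm (h.gd X hX))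

theorem Ctx.tc_gen {A X J M : Subgroup G} (h : Ctx A) (hX : X ≠ ⊤) (hA : A ≤ X) (hJ : TC X J)
    (hs : NS (im X (Od X ⊔ J))) (hM : ∀ t ∈ A ⊓ J, t ≠ 1 → ∀ u ∈ J ⊓ 𝐂[t], orderOf u = 2 → u ∈ M) :
    J ≤ M :=
  (hJ.le_of_le_sup inf_le_left (le_sup_right.trans ((h.gd X hX).gen_NS (h.mx hA) hJ.cp hs
    (M := J ⊓ M) (inf_le_left.trans hJ.le) fun t ht h1 u hu h2 =>
      have := (hJ.Jv_sup (h.gd X hX)).le (mem_Jv (ct_le t hu) h2)
      ⟨this, hM t ((hJ.inf_eq (h.gd X hX) h.el).le ht) h1 u ⟨this, ct_le_cent1 t hu⟩ h2⟩))).trans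
    inf_le_right

/-- The configuration given by a nontrivial signalizer. -/
structure Fa (A P M : Subgroup G) (p : ℕ) : Prop where
  ctx : Ctx A
  four : ∀ T D J, Real A T D J → 4 ≤ Nat.card D
  h16 : 16 ≤ Nat.card A
  p2 : p ≠ 2
  pg : IsPGroup p P
  norm : 𝐍(A) ≤ 𝐍(P)
  f2 : ∀ E ≤ A, 8 ≤ Nat.card E → 𝐍(E) ≤ 𝐍(⁅P, E⁆)
  f3 : ∀ X : Subgroup G, X ≠ ⊤ → A ≤ X → ⁅P ⊓ X, A⁆ ≤ pCoreOf p X
  ne : ⁅P, A⁆ ≠ ⊥
  max : IsCoatom M
  le : 𝐍(⁅P, A⁆) ≤ M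

namespace Fa
variable {A P M : Subgroup G} {p : ℕ} [hp : Fact p.Prime] (h : Fa A P M p)
include h

omit [Finite G] hp in
theorem an : A ≤ 𝐍(P) := le_normalizer.trans h.norm
theorem odd : Odd (Nat.card P) := odd_card_of_isPGroup hp.1 h.p2 h.pg
omit [Finite G] hp in
theorem nA : 𝐍(A) ≤ M := (le_normalizer_commutator h.norm le_rfl).trans h.le
omit [Finite G] hp in
theorem AM : A ≤ M := le_normalizer.trans h.nA
omit [Finite G] hp in
theorem PM : P ≤ M := (normalizer_commutator_ge_left P A).trans h.le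
omit [Finite G] hp in
theorem WP : ⁅P, A⁆ ≤ P := U4.comm_le_left h.an
omit [Finite G] hp in
theorem f3' {X Y : Subgroup G} (hX : X ≠ ⊤) (hA : A ≤ X) (h1 : Y ≤ P) (h2 : Y ≤ X) :
    ⁅Y, A⁆ ≤ pCoreOf p X := (commutator_mono (le_inf h1 h2) le_rfl).trans (h.f3 X hX hA)
omit [Finite G] hp in
theorem WM : ⁅P, A⁆ ≤ pCoreOf p M := h.f3' h.max.1 h.AM le_rfl h.PM
omit hp in
theorem nb {X : Subgroup G} (hA : A ≤ X) : X ≠ ⊥ := fun e => by
  have := card_le_of_le (e ▸ hA)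
  have := h.h16
  simp only [card_bot] at *
  omega
theorem not_cent : ¬ A ≤ 𝐂(P) := fun e => h.ne (comm_eq_bot_iff.2 (le_centralizer_iff.1 e))
omit hp in
theorem hy8 {E : Subgroup G} (hE : Hy E A) : 8 ≤ Nat.card E := by
  have := hE.card h.ctx.el
  have := h.h16
  omega

theorem eq_of {X : Subgroup G} (hX : IsCoatom X) (hA : A ≤ X)
    (e : X = M ∨ CharIn p X ∧ CharIn p M) : X = M := by
  haveI := h.ctx.simple
  refine e.elim id fun ⟨a, b⟩ => ?_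
  obtain ⟨n, hn, e⟩ := exists_conj_of_charIn h.ctx.ab h.p2 h.max b (h.nb h.AM) h.ctx.max h.AM hX a
    hA (h.nb hA)
  rw [e, cj_eq_of_mem (h.nA hn)]

theorem bt1 {X V : Subgroup G} (hX : IsCoatom X) (hA : A ≤ X) (h0 : V ≠ ⊥) (h1 : V ≤ pCoreOf p X)
    (h2 : V ≤ pCoreOf p M) (h3 : 𝐂(V) ≤ M) (h4 : Fc p M X) : X = M :=
  haveI := h.ctx.simple
  h.eq_of hX hA (bender hX h.max h0 h1 h2 h3 h4)

theorem bt2 {X V : Subgroup G} (hX : IsCoatom X) (hA : A ≤ X) (h0 : V ≠ ⊥) (h1 : V ≤ pCoreOf p X)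
    (h2 : V ≤ pCoreOf p M) (h3 : 𝐂(V) ≤ X) (h4 : Fc p X M) : X = M :=
  haveI := h.ctx.simple
  h.eq_of hX hA ((bender h.max hX h0 h2 h1 h3 h4).imp Eq.symm And.symm)

theorem comm_ne {X V : Subgroup G} (h1 : V ≤ ⁅P, A⁆ ⊓ X) (h2 : 𝐂(V) ≤ X) :
    ⁅⁅P, A⁆ ⊓ X, A⁆ ≠ ⊥ := fun e => h.ne (by
  rw [comm_eq_bot_iff] at e
  rw [← comm_comm h.ctx.el h.odd h.an, comm_eq_bot_iff]
  exact pxq (h.pg.to_le ((h1.trans inf_le_left).trans h.WP)) (h.pg.to_le h.WP)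
    (h.ctx.el.coprime (hp.1.odd_of_ne_two h.p2)) ((h1.trans inf_le_left).trans le_normalizer)
    (le_norm_comm h.an) (h1.trans e) ((inf_le_inf_left _ h2).trans e))

theorem fc_of {X V : Subgroup G} (hX : X ≠ ⊤) (hA : A ≤ X) (h1 : V ≤ ⁅P, A⁆ ⊓ X) (h2 : 𝐂(V) ≤ X)
    (h3 : 𝐍(⁅P, A⁆ ⊓ X) ≤ M) : Fc p X M := by
  have c := h.ctx
  have g := c.gd X hX
  have nX := H1.le_normalizer_inf h.an (hA.trans le_normalizer)
  have nR := H1.le_normalizer_inf (le_norm_comm h.an) (hA.trans le_normalizer)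
  have oR := odd_card_of_le h.odd ((inf_le_left (b := X)).trans h.WP)
  refine ⟨fun J hJ => ?_, fun q hq e => ?_⟩
  · have a1 : A ⊓ J ≤ 𝐂(P) := fun d hd => by
      have b := le_cent1_of_comm_comm (c.el d hd.1) (odd_card_of_le h.odd inf_le_left) (nX hd.1)
        (((commutator_mono le_rfl (zpowers_le.2 hd.1)).trans (h.f3 X hX hA)).trans
          ((hJ.pc_le p).trans (cent_le_cent1 hd.2)))
      have b' := h1.trans (inf_le_inf_right X h.WP)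
      exact mem_cent_cent1 (pxq1 h.p2 (c.el d hd.1) (h.pg.to_le (b'.trans inf_le_left)) h.pg
        ((b'.trans inf_le_left).trans le_normalizer) (h.an hd.1) (b'.trans b)
        ((inf_le_inf_left _ h2).trans b))
    rcases (g.kt hJ.cp).tins with t | t
    · refine (le_centralizer_iff.1 (hJ.cent_of_cm (g.cm_of_TI (c.mx hA) hJ.cp t inf_le_right oR
        (g.odd_norm (c.mx hA) hJ.cp inf_le_right oR (inf_le_left.trans nR)) ?_))).trans
        ((cent_le_norm _).trans h3)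
      rw [hJ.inf_eq g c.el]
      exact (comm_eq_bot_iff.2 ((inf_le_left.trans h.WP).trans
        (le_centralizer_iff.1 a1))).le.trans bot_le
    have d := g.dec' (c.mx hA) hJ.cp
    have d4 := h.four _ _ _ (g.real (c.mx hA) hJ.cp fun e => h.not_cent (by
      rw [← d.sup, e, sup_bot_eq, hJ.inf_eq g c.el]; exact a1))
    rw [hJ.inf_eq g c.el] at d
    rw [hJ.inf_cm] at d d4
    refine c.tc_gen hX hA hJ t fun t ht t1 u hu _ => h.le ?_
    have hE : A ⊓ (X ⊓ 𝐂(J)) ⊔ zpowers t ≤ A := sup_le d.le2 (zpowers_le.2 ht.1)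
    have e : ⁅P, A⁆ = ⁅P, A ⊓ (X ⊓ 𝐂(J)) ⊔ zpowers t⁆ := by
      refine le_antisymm ?_ (commutator_mono le_rfl hE)
      have := le_normalizer_commutator h.an (c.el.le_norm hE)
      conv_lhs => rw [← d.sup]
      exact H1.commutator_sup_le (d.le1.trans this) (d.le2.trans this)
        ((comm_eq_bot_iff.2 (le_centralizer_iff.1 a1)).le.trans bot_le)
        (commutator_mono le_rfl le_sup_left)
    rw [e]
    refine h.f2 _ hE ?_ (cent_le_norm _ ?_)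
    · have := c.el.card_sup d.le2 (zpowers_le.2 ht.1)
      rw [card_zpowers_inv (c.el.ord ht.1 t1), le_bot_iff.1 ((inf_le_inf_left _
        (zpowers_le.2 ht)).trans d.symm.inf.le), card_bot] at this
      omega
    · rw [cent_sup, cent_zpowers]
      exact ⟨le_centralizer_iff.1 (inf_le_right.trans inf_le_right) hu.1, hu.2⟩
  by_cases e2 : q = 2
  · exact e2 ▸ (two_le_cent c.ab c.el hA).trans ((cent_le_norm A).trans h.nA)
  refine le_trans (gen_hy c.el (odd_card_of_isPGroup hq.1 e2 (H1.pCoreOf_isPGroup X))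
    (hA.trans (H1.le_normalizer_pCoreOf X)) fun E hE => ?_) ((cent_le_norm _).trans h3)
  have n1 := (cent_le_norm E).trans (h.f2 E hE.1 (h.hy8 hE))
  have n2 := H1.le_normalizer_sup n1 (H1.le_normalizer_pCoreOf (p := p) 𝐂(E))
  have l1 := U4.comm_le_left (hE.1.trans h.an)
  refine le_centralizer_iff.1 (LD.le_cent_of_comm (P := ⁅P, E⁆ ⊔ pCoreOf p 𝐂(E))
    (inf_le_left.trans ?_) (inf_le_right.trans n2) inf_le_left
    (inf_le_right.trans (H1.le_normalizer_pCoreOf X)) (disjoint_iff.1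
      (IsPGroup.disjoint_of_ne p q (Ne.symm e) _ _ (isPGroup_sup' ((H1.pCoreOf_le _).trans n1)
        (h.pg.to_le l1) (H1.pCoreOf_isPGroup _)) (H1.pCoreOf_isPGroup X))))
  rw [commutator_comm]
  conv_lhs => rw [← comm_sup_cent (c.el.mono hE.1) h.odd (hE.1.trans h.an)]
  refine H1.commutator_sup_le (le_sup_left.trans le_normalizer) (inf_le_right.trans n2)
    ((comm_le_right (le_normalizer_commutator h.an (c.el.le_norm hE.1))).trans le_sup_left) ?_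
  rw [commutator_comm]
  refine (h.f3 _ (c.cent_ne fun e => ?_) (c.el.le_cent' le_rfl hE.1)).trans le_sup_right
  have := h.hy8 hE
  rw [e, card_bot] at this
  omega

theorem uniq {V : Subgroup G} (h0 : V ≠ ⊥) (h1 : V ≤ ⁅P, A⁆) (h2 : A ≤ 𝐍(V)) : 𝐍(V) ≤ M := by
  have pW := h.pg.to_le h.WP
  have key : ∀ {V : Subgroup G}, V ≠ ⊥ → V ≤ ⁅P, A⁆ → A ≤ 𝐍(V) → ¬ 𝐍(V) ≤ M →
      ∃ X, 𝐍(V) ≤ X ∧ X ∈ {X : Subgroup G | IsCoatom X ∧ X ≠ M ∧
        ∃ V : Subgroup G, V ≠ ⊥ ∧ V ≤ ⁅P, A⁆ ∧ A ≤ 𝐍(V) ∧ 𝐍(V) ≤ X} := fun a b c d =>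
    let ⟨X, x1, x2⟩ := mmax_exists (h.ctx.norm_ne' a (pW.to_le b))
    ⟨X, x2, x1, fun e => d (e ▸ x2), _, a, b, c, x2⟩
  by_contra e
  obtain ⟨X, -, hX⟩ := key h0 h1 h2 e
  obtain ⟨X, ⟨x1, x2, V, v0, v1, v2, v3⟩, hm⟩ := Set.exists_max_image _
    (fun X => Nat.card ↥(⁅P, A⁆ ⊓ X)) (Set.toFinite _) ⟨X, hX⟩
  have hA := v2.trans v3
  have v4 : V ≤ ⁅P, A⁆ ⊓ X := le_inf v1 (le_normalizer.trans v3)
  have nR := H1.le_normalizer_inf (le_norm_comm h.an) (hA.trans le_normalizer)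
  have r : 𝐍(⁅P, A⁆ ⊓ X) ≤ M := by
    by_contra e
    obtain ⟨Y, y1, y2⟩ := key (fun e => v0 (le_bot_iff.1 (e ▸ v4))) inf_le_left nR e
    refine (hm Y y2).not_gt (card_lt' ((lt_inf_normalizer_of_isPGroup pW (lt_of_le_of_ne
      inf_le_left fun e' => e (e'.symm ▸ h.le))).trans_le (inf_le_inf_left _ y1)))
  have w0 := h.comm_ne v4 ((cent_le_norm V).trans v3)
  have w1 : ⁅⁅P, A⁆ ⊓ X, A⁆ ≤ ⁅P, A⁆ ⊓ X := U4.comm_le_left nR
  have w2 := (w1.trans inf_le_left).trans h.WM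
  by_cases e : 𝐍(⁅⁅P, A⁆ ⊓ X, A⁆) ≤ M
  · exact x2 (h.bt1 x1 hA w0 (h.f3' x1.1 hA (inf_le_left.trans h.WP) inf_le_right) w2
      ((cent_le_norm _).trans e) ((fc_cent (v1.trans h.WM)).mono ((cent_le_norm V).trans v3)))
  obtain ⟨Y, y1, y2⟩ := key w0 (w1.trans inf_le_left) (le_norm_comm nR) e
  have y3 : ⁅P, A⁆ ⊓ X ≤ ⁅P, A⁆ ⊓ Y :=
    le_inf inf_le_left ((normalizer_commutator_ge_left _ _).trans y1)
  have hY := (le_norm_comm nR).trans y1
  exact y2.2.1 (h.bt2 y2.1 hY w0 (h.f3' y2.1.1 hY (inf_le_left.trans h.WP) (y3.trans inf_le_right))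
    w2 ((cent_le_norm _).trans y1) (h.fc_of y2.1.1 hY (w1.trans y3) ((cent_le_norm _).trans y1)
      (eq_of_le_of_card_ge y3 (hm Y y2) ▸ r)))

theorem odd_le {Y : Subgroup G} (ho : Odd (Nat.card Y)) (hn : A ≤ 𝐍(Y)) : Y ≤ M := by
  have c := h.ctx
  refine gen_hy c.el ho hn fun E hE => inf_le_right.trans ((cent_le_norm E).trans
    ((h.f2 E hE.1 (h.hy8 hE)).trans (h.uniq (fun e => h.not_cent fun x hx => ?_)
      (commutator_mono le_rfl hE.1) (le_normalizer_commutator h.an (c.el.le_norm hE.1)))))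
  have e' : E ≤ A ⊓ 𝐂(P) := le_inf hE.1 (le_centralizer_iff.1 (comm_eq_bot_iff.1 e))
  have n0 : 𝐍(A) ≤ 𝐍(A ⊓ 𝐂(P)) :=
    H1.le_normalizer_inf le_rfl (H1.le_normalizer_centralizer h.norm)
  refine (c.nf (B := A ⊓ 𝐂(P)) inf_le_left hx fun n hn => ?_).2
  by_cases a : x ∈ A ⊓ 𝐂(P)
  · exact comm_mem_right (n0 hn) a
  · exact e' (hE.mul_mem c.el (conj_mem_of_mem_normalizer hn hx) (inv_mem hx)
      (fun b => a (by simpa [mul_assoc] using conj_mem_of_mem_normalizer' (n0 hn) (e' b)))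
      fun b => a (inv_mem_iff.1 (e' b)))

theorem beta {d : G} (hd : d ∈ A) (d1 : d ≠ 1) (h0 : ⁅P ⊓ 𝐂[d], A⁆ ≠ ⊥)
    (hJ : ∀ J, TC M J → ¬ TypeI (im M (Od M ⊔ J)) → J ≤ 𝐂[d]) : 𝐂[d] ≤ M := by
  have c := h.ctx
  have := c.simple
  have g := c.gd M h.max.1
  obtain ⟨K, k1, k2⟩ := mmax_exists (c.cent1_ne d1)
  have hA := (c.el.le_cent1 hd).trans k2
  have v1 := h.f3' k1.1 hA inf_le_left (inf_le_right.trans k2)
  have v2 : ⁅P ⊓ 𝐂[d], A⁆ ≤ ⁅P, A⁆ := commutator_mono inf_le_left le_rfl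
  have v3 := (cent_le_norm _).trans (h.uniq h0 v2
    (le_norm_comm (H1.le_normalizer_inf h.an (c.el.norm_cent1 hd))))
  refine h.bt1 k1 hA h0 v1 (v2.trans h.WM) v3 ⟨fun J a => ?_, fun q hq e => ?_⟩ ▸ k2
  · by_cases t : TypeI (im M (Od M ⊔ J))
    swap
    · exact (hJ J a t).trans k2
    obtain ⟨t', ht, b⟩ := g.dec (c.mx h.AM) a.cp hd
    by_cases t1 : t' = 1
    · rw [t1, one_mul, a.inf_cm] at b
      exact (le_cent1_iff.2 b.2.2).trans k2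
    exact (le_centralizer_iff.1 (a.cent_of_cm (g.cm_of_typeI (c.mx h.AM) a.cp t ht t1 hp.1 h.p2
      (h.odd_le (odd_card_of_isPGroup hp.1 h.p2 (H1.pCoreOf_isPGroup K))
        (hA.trans (H1.le_normalizer_pCoreOf K))) (H1.pCoreOf_isPGroup K)
      (((ct_le_cent1' b).trans k2).trans (H1.le_normalizer_pCoreOf K))))).trans
      (cent_le_of_coatom k1 (fun e => h0 (le_bot_iff.1 (e ▸ v1))) (H1.pCoreOf_le K)
        (H1.le_normalizer_pCoreOf K) le_rfl)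
  by_cases e2 : q = 2
  · exact e2 ▸ (two_le_cent c.ab c.el h.AM).trans ((cent_le_cent1 hd).trans k2)
  by_cases e3 : pCoreOf q K = ⊥
  swap
  · exact pc_le_of_ne_bot k1 h0 v1 v3 e e3
  have i := inverts_of_inf_cent (c.el d hd)
    (odd_card_of_isPGroup hq.1 e2 (H1.pCoreOf_isPGroup M)) (H1.le_normalizer_pCoreOf M (h.AM hd))
    (le_bot_iff.1 ((inf_le_inf_left _ k2).trans (pc_inf_eq_bot v1
      ((v2.trans h.WP).trans h.PM) v3 e e3).le))
  refine (le_cent1_iff.2 (c.nf (B := A ⊓ 𝐂(pCoreOf q M)) inf_le_left hd fun n hn =>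
    ⟨comm_mem_right hn hd, mem_cent.2 fun y hy => ?_⟩).2).trans k2
  have i' := LD.inverts_cj i n
  rw [map_conj_eq_of_mem_normalizer (H1.le_normalizer_pCoreOf M (h.nA hn))] at i'
  have e1 := i y⁻¹ (inv_mem hy)
  have e2 := i' y⁻¹ (inv_mem hy)
  rw [inv_inv] at e1 e2
  calc y * (n * d * n⁻¹ * d⁻¹) = n * d * n⁻¹ * y⁻¹ * d⁻¹ := by
        conv_lhs => rw [← e2]
        group
    _ = n * d * n⁻¹ * d⁻¹ * (d * y⁻¹ * d⁻¹) := by group
    _ = _ := by rw [e1]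

theorem alpha2 {J : Subgroup G} (hJ : TC M J) : 𝐍(J) ≤ M := by
  have c := h.ctx
  have := c.simple
  obtain ⟨K, k1, k2⟩ := mmax_exists (norm_ne_top (X := J)
    (fun e => hJ.not_solv (e ▸ inferInstance)) fun e => h.max.1 (top_le_iff.1 (e ▸ hJ.le)))
  have hA := (c.tc_norm' h.max.1 h.AM hJ).trans k2
  have k3 := (cent_le_norm J).trans k2
  refine h.bt1 k1 hA h.ne ?_ h.WM ((cent_le_norm _).trans h.le) ⟨fun J' a => ?_,
    fun q _ _ => (hJ.pc_le q).trans k3⟩ ▸ k2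
  · rw [← comm_comm c.el h.odd h.an]
    exact h.f3' k1.1 hA h.WP ((h.WM.trans (hJ.pc_le p)).trans k3)
  · exact (a.eq_or hJ).elim (fun e => e ▸ le_normalizer.trans k2) fun e => e.trans k3

theorem alpha1 {J : Subgroup G} (hJ : TC M J) (ht : ¬ TypeI (im M (Od M ⊔ J))) :
    𝐂(A ⊓ J) ≤ 𝐍(J) := fun g hg => by
  have c := h.ctx
  have gd := c.gd M h.max.1
  have m := c.mx h.AM
  have e0 := hJ.inf_eq gd c.el
  have c4 := gd.card_eq_four m hJ.cp ht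
  have d := gd.dec' m hJ.cp
  have mT := (gd.maxE_inf m hJ.cp).mono (e0.le.trans inf_le_right) le_sup_right
  rw [e0] at c4 d mT
  rw [hJ.inf_cm] at d
  have dc : A ⊓ (M ⊓ 𝐂(J)) ≤ 𝐂(J) := inf_le_right.trans inf_le_right
  refine mem_normalizer_of_map_conj_eq (eq_of_le_of_card_ge (c.tc_gen h.max.1 h.AM hJ
    ((gd.kt hJ.cp).ns ht) fun t htT t1 u hu u2 => ?_)
    (card_map_of_injective (MulAut.conj g).injective).le).symm
  have nO := (c.el.le_cent1 htT.1).trans (le_norm_Od _)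
  have hU : ⁅Od 𝐂[t], A ⊓ J⁆ ⊔ A ⊓ J ≤ J := sup_le ((commutator_mono le_rfl inf_le_right).trans
    (comm_le_right (c.tc_norm h.max.1 h.AM hJ (h.odd_le (odd_Od _) nO) (odd_Od _) nO))) inf_le_right
  have hg' : g ∈ 𝐍(⁅Od 𝐂[t], A ⊓ J⁆ ⊔ A ⊓ J) := H1.le_normalizer_sup (le_normalizer_commutator
    ((cent_le_cent1 htT).trans (le_norm_Od _)) (cent_le_norm _)) (cent_le_norm _) hg
  refine map_mono hU ((map_conj_eq_of_mem_normalizer hg').ge ?_)
  have mY := mT.mono (le_inf inf_le_right (d.le1.trans (c.el.le_cent1 htT.1))) inf_le_left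
  obtain ⟨k, hk, hs⟩ := mY.exists_conj_mem c.ab hu (mul_self_of_inv u2)
  obtain ⟨s, hs'⟩ : ∃ s, s = k * u * k⁻¹ := ⟨_, rfl⟩
  rw [← hs'] at hs
  have nJ : J ⊓ 𝐍(A ⊓ J) ≤ 𝐍(A) := by
    conv_rhs => rw [← d.sup]
    exact H1.le_normalizer_sup inf_le_right
      (inf_le_left.trans ((le_centralizer_iff.1 dc).trans (cent_le_norm _)))
  have i1 := mY.zstar c.ab hs (le_centralizer_iff.1 (show J ⊓ 𝐂[t] ⊓ 𝐍(A ⊓ J) ≤ 𝐂(A ⊓ J) from
    fun n hn => four_fix c.ab c.max inf_le_left c4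
      htT t1 (nJ ⟨hn.1.1, hn.2⟩) hn.2 hn.1.2) hs) (inv_mem hk)
  have e1 : k⁻¹ * s * k⁻¹⁻¹ = u := by rw [hs']; group
  rw [e1] at i1
  have ss := c.el s hs.1
  have i2 : s * (u * s⁻¹) * s⁻¹ = (u * s⁻¹)⁻¹ := by
    rw [mul_inv_rev, inv_inv, inv_of_inv u2, mul_assoc, mul_assoc, ← mul_inv_rev, ss, inv_one,
      mul_one]
  have nQ : A ≤ 𝐍(Od (J ⊓ 𝐂[t])) := by
    rw [← d.sup]
    exact sup_le (mY.le.trans (le_norm_Od _)) ((dc.trans (centralizer_le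
      ((Od_le _).trans inf_le_left))).trans (cent_le_norm _))
  have i3 := (c.gdc t1).kill' (c.mc htT.1) ((Od_le _).trans inf_le_right) (odd_Od _) nQ hs.1
    (fun L hL => Or.inl ((c.real htT.1 t1 hL).fix c.max c.ab hs.1 fun n hn => by
      have r := c.real htT.1 t1 hL
      have n1 : n ∈ 𝐂[t] := cent_le_cent1 (mem_inf.2 ⟨htT.1, hL.mem_cm⟩) (r.cent hn.1)
      have n2 := hJ.norm_of_norm gd (gd.norm_of_mem hJ.cp (mem_sup_right htT.2)
        (c.el.ord htT.1 t1) (h.nA (r.norm hn)) (by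
          rw [mem_cent1.1 n1, mul_inv_cancel_right]; exact mem_sup_right htT.2))
      rw [← mem_cent.1 (four_fix c.ab c.max inf_le_left c4 htT t1 (r.norm hn)
        (H1.le_normalizer_inf (zpowers_le.2 (r.norm hn)) (zpowers_le.2 n2) (mem_zpowers n)) n1) s hs,
        mul_inv_cancel_right]).2) (mem_commutator_of_inverted (odd_of_mem_Od i1) i2 i1)
  have := mul_mem (mem_sup_left (T := A ⊓ J) (commutator_mono le_rfl (zpowers_le.2 hs)
    (mem_commutator_of_inverted (odd_of_mem_Od i1) i2 i3))) (mem_sup_right hs)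
  rwa [inv_mul_cancel_right] at this

theorem elim : False := by
  have c := h.ctx
  have gd := c.gd M h.max.1
  refine c.se M h.max.1 h.nA fun x hx x1 => c.gen hx x1 (h.odd_le (odd_Od _)
    ((c.el.le_cent1 hx).trans (le_norm_Od _))) h.nA fun L hL => ?_
  have r := c.real hx x1 hL
  obtain ⟨d, hd, d1, h0⟩ : ∃ d ∈ A ⊓ cm 𝐂[x] L, d ≠ 1 ∧ ⁅P ⊓ 𝐂[d], A⁆ ≠ ⊥ := by
    by_contra e
    push Not at e
    exact h.ne (le_bot_iff.1 (comm_pt (c.el.mono r.le2) (h.four _ _ _ r) c.el h.odd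
      (r.le2.trans h.an) h.an (le_norm_bot A) fun d hd d1 => (e d hd d1).le))
  by_cases e : ∀ J, TC M J → ¬ TypeI (im M (Od M ⊔ J)) → J ≤ 𝐂[d]
  · exact (r.cent.trans (cent_le_cent1 hd)).trans (h.beta hd.1 d1 h0 e)
  push Not at e
  obtain ⟨J, hJ, a, b⟩ := e
  rcases gd.cp_or (c.mx h.AM) c.max r (r.norm.trans h.nA) hJ.cp with e | e
  · have := r.toDec.le_of_le c.el (gd.dec' (c.mx h.AM) hJ.cp) (eq_of_le_of_card_ge e.1
      ((gd.card_eq_four (c.mx h.AM) hJ.cp a).le.trans r.four)).ge e.2 hd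
    rw [hJ.inf_cm] at this
    exact absurd (le_cent1_iff.2 this.2.2) b
  · rw [hJ.inf_eq gd c.el] at e
    exact (r.cent.trans (centralizer_le e.2)).trans ((h.alpha1 hJ a).trans (h.alpha2 hJ))

end Fa

theorem Wst.le_cent {A W : Subgroup G} (w : Wst A W) (h : Ctx A) (s : Sa A)
    (h16 : 16 ≤ Nat.card A) : W ≤ 𝐂(A) := by
  have key : A ≤ 𝐂(fittingOf W) := LD.le_cent_fit fun p hp => by
    by_cases p2 : p = 2
    · subst p2
      rw [eq_bot_of_odd_of_two (w.oddP 2) (H1.pCoreOf_isPGroup W) le_rfl, cent_bot]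
      exact le_top
    by_contra e
    have ne : ⁅pCoreOf p W, A⁆ ≠ ⊥ := fun e' => e (le_centralizer_iff.1 (comm_eq_bot_iff.1 e'))
    obtain ⟨M, m1, m2⟩ := mmax_exists (h.norm_ne' ne
      ((H1.pCoreOf_isPGroup W).to_le (U4.comm_le_left (w.anP p))))
    exact Fa.elim (p := p) ⟨h, s.four, h16, p2, H1.pCoreOf_isPGroup W, w.normP p,
      fun E a b => w.norm_commP h p a b, fun X a b => w.robust h h16 p2 a b, ne, m1, m2⟩
  exact comm_eq_bot_iff.1 (commutator_eq_bot_of_centralizer_le w.an (H1.le_normalizer_fittingOf W)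
    (H1.inf_centralizer_fittingOf_le (H1.layerIn_eq_bot_of_isSolvable (solvable_of_odd w.odd)))
    (comm_eq_bot_iff.2 (le_centralizer_iff.1 key))
    (h.el.coprime (odd_card_of_le w.odd (H1.fittingOf_le W))))

end CfsgLib.Wal
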