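import Cfsg.Agent.Lib.Wal.FourA

/-!
# Rank at least four: the case of a trivial signalizer
-/

set_option autoImplicit false

namespace CfsgLib.Wal

open Subgroup Cfsg CfsgLib.FT CfsgLib.FT.BGN CfsgLib.Cop CfsgLib.GW
open CfsgLib.H1 (AbTwo CharIn layerIn genFitIn dSub)
open CfsgLib.FT.U4 (mem_cent1 mem_cent1' mem_cent mem_cent1_comm cent1_conj
  eq_one_of_mem_inf eq_bot_of_forall conj_mem_conj_iff orderOf_conj)
open scoped commutatorElement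

universe u

variable {G : Type*} [Group G] [Finite G]

/-- The configuration given by a trivial signalizer. -/
structure Fb (A : Subgroup G) : Prop where
  ctx : Ctx A
  sa : Sa A
  dl : ∀ B ≤ A, 4 ≤ Nat.card B → dl B ≤ 𝐂(A)

/-- The standard subgroup attached to a maximal pair. -/
structure Std (A T D J : Subgroup G) : Prop where
  real : Real A T D J
  mx : Mx A T D
  loc : ∀ x ∈ D, x ≠ 1 → ∃ L, Cp 𝐂[x] L ∧ A ⊓ L = T ∧ A ⊓ cm 𝐂[x] L = D ∧ Jv L = J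

theorem le_norm_sSup {U : Subgroup G} {S : Set (Subgroup G)}
    (h : ∀ g ∈ U, ∀ J ∈ S, g •ᶜ J ≤ sSup S) : U ≤ 𝐍(sSup S) := fun g hg =>
  mem_norm_of_le (cj_le_iff.2 (sSup_le fun J hJ => cj_le_iff.1 (h g hg J hJ)))

theorem Ctx.le_Jv {A T D J L : Subgroup G} (h : Ctx A) (r : Real A T D J) {x : G} (hx : x ∈ D)
    (x1 : x ≠ 1) (hL : Cp 𝐂[x] L) (hT : T ≤ L) : J ≤ Jv L :=
  r.jv.ge.trans (Jv_mono (r.le_of_le h.max
    ((h.gdc x1).real_norm hL r (r.cent.trans (cent_le_cent1 hx))) hT))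

theorem Std.le {A T D J T' D' J' : Subgroup G} (s : Std A T D J) (h : Ctx A) (r : Real A T' D' J')
    (h1 : T' ≤ T) (h2 : D ≤ D') : J' ≤ J := by
  obtain ⟨x, hx, x1⟩ := exists_mem_ne_one s.real.ne
  obtain ⟨L, hL, a, -, b⟩ := s.loc x hx x1
  exact b ▸ h.le_Jv r (h2 hx) x1 hL (h1.trans (a.ge.trans inf_le_right))

theorem Std.odd_le {A T D J Y : Subgroup G} (s : Std A T D J) (h : Fb A) (ho : Odd (Nat.card Y))
    (hn : A ≤ 𝐍(Y)) : Y ≤ 𝐍(J) :=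
  gen_pt (h.ctx.el.mono s.real.le2) (h.sa.four _ _ _ s.real) ho (s.real.le2.trans hn)
    fun x hx x1 => by
      obtain ⟨L, hL, -, -, b⟩ := s.loc x hx x1
      exact b ▸ ((h.ctx.gdc x1).odd_norm (h.ctx.mc (s.real.le2 hx)) hL inf_le_right
        (odd_card_of_le ho inf_le_left) (inf_le_left.trans (H1.le_normalizer_inf hn
          (h.ctx.el.norm_cent1 (s.real.le2 hx))))).trans (norm_le_norm_Jv L)

theorem Ctx.mem_of_nocp {A : Subgroup G} (h : Ctx A) {z u : G} (hz : z ∈ A) (z1 : z ≠ 1)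
    (h1 : ∀ L, ¬ Cp 𝐂[z] L) (h2 : Od 𝐂[z] ≤ 𝐂(A)) (hu : orderOf u = 2) (hc : u ∈ 𝐂[z]) : u ∈ A :=
  h.max.mem u trivial (mul_self_of_inv hu) (mem_cent.2 fun a ha => by
    have h3 := (h.gdc z1).comm_mem_Od (h.el a ha) (h.el.le_cent1 hz ha)
      (fun L hL => absurd hL (h1 L)) (mem_Jv hc hu)
    refine (commutatorElement_eq_one_iff_mul_comm.1 (eq_one_of_inv_of_comm (s := a)
      (odd_of_mem_Od h3) ?_ (mem_cent.1 (h2 h3) a ha).symm)).symm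
    rw [commutatorElement_inv, commutatorElement_def, commutatorElement_def, h.el.inv ha]
    simp only [mul_assoc, h.el a ha, mul_one])

namespace Fb
variable {A : Subgroup G} (h : Fb A)
include h

theorem claim1 {T D : Subgroup G} (hm : Mx A T D) {x : G} (hx : x ∈ D) (x1 : x ≠ 1) :
    Od 𝐂[x] ≤ 𝐂(T) := by
  have c := h.ctx
  obtain ⟨J, r⟩ := hm.1
  have eT := c.el.mono r.le1
  have nZ := (c.el.le_cent1 (r.le2 hx)).trans (le_norm_Od _)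
  have nQ : ∀ y ∈ A, A ≤ 𝐍(Od 𝐂[x] ⊓ 𝐂[y]) := fun y hy =>
    H1.le_normalizer_inf nZ (c.el.norm_cent1 hy)
  have oQ : ∀ y, Odd (Nat.card ↥(Od 𝐂[x] ⊓ 𝐂[y])) := fun y => odd_card_of_le (odd_Od _) inf_le_left
  have k0 : ∀ y ∈ A, y ≠ 1 → ∀ L, Cp 𝐂[y] L → x ∈ cm 𝐂[y] L → Od 𝐂[x] ⊓ 𝐂[y] ≤ cm 𝐂[y] L :=
    fun y hy y1 L hL a => hL.cm_of_norm inf_le_right (oQ y) ((jc_le _ A L).trans hL.le)
      ((c.gdc y1).le_sup_jc (c.mc hy) hL) (H1.le_normalizer_inf (((jc_le_cent _ A L).trans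
        (cent_le_cent1 (mem_inf.2 ⟨r.le2 hx, a⟩))).trans (le_norm_Od _))
        (((jc_le _ A L).trans hL.le).trans le_normalizer))
  have k1 : ∀ y ∈ D, y ≠ 1 → ⁅Od 𝐂[x] ⊓ 𝐂[y], T⁆ ≤ Od 𝐂[y] := fun y hy y1 => by
    obtain ⟨L, hL, a, b⟩ := c.loc hm hy y1
    exact comm_le_of_forall fun t ht => (c.gdc y1).kill' (c.mc (r.le2 hy)) inf_le_right (oQ y)
      (nQ y (r.le2 hy)) (r.le1 ht) fun L' hL' => (hL.eq_or_le hL').elim
        (fun e => Or.inr (e ▸ k0 y (r.le2 hy) y1 L hL (b.ge hx).2))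
        fun e => Or.inl (e (a.ge ht).2)
  have k2 : ∀ y, Four x y → D ≤ V x y → ∀ t ∈ T, t ≠ 1 → ∀ z ∈ V x y, z ∈ D → z ≠ 1 →
      Od 𝐂[x] ⊓ 𝐂[t * z] ≤ Od 𝐂[t * z] := fun y h4 hD t ht t1 z hz hz' z1 => by
    have e1 : t * z ≠ 1 := fun e => t1 (r.eq_one ht (eq_inv_of_mul_eq_one_left e ▸ inv_mem hz'))
    have e2 := mul_mem (r.le1 ht) (r.le2 hz')
    refine (c.gdc e1).le_Od (c.mc e2) inf_le_right (oQ _) (nQ _ e2) fun L hL => ?_
    have r' := c.real e2 e1 hL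
    rcases h.sa.mx _ _ _ _ _ hm r' with a | a
    · exact k0 _ e2 e1 L hL (a.2 hx).2
    · refine absurd (r'.eq_one ((eq_of_le_of_card_ge (a.1.trans hD)
        (h4.card_V.le.trans r'.four)).ge hz) ?_) z1
      exact (mul_mem_cancel_left (a.2 ht)).1 ⟨e2, hL.mem_cm⟩
  refine comm_eq_bot_iff.1 (le_bot_iff.1 (comm_hy' c.el eT (odd_Od _) nZ (r.le1.trans nZ)
    (le_norm_bot T) (r.le2 hx) (Od_le _) fun E hE hxE => (comm_eq_bot_iff.2 ?_).le))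
  have key : ∀ b ∈ E, Four x b → (∀ y ∈ V x b, y ≠ 1 → ⁅Od 𝐂[x] ⊓ 𝐂[y], T⁆ ≤ Od 𝐂[y]) →
      Od 𝐂[x] ⊓ 𝐂(E) ≤ 𝐂(T) := fun b hb h4 a => le_cent_of_comm_comm eT
    (odd_card_of_le (odd_Od _) inf_le_left)
    (r.le1.trans (H1.le_normalizer_inf nZ (c.el.norm_cent hE.1)))
    (((le_dl.2 fun y hy y1 => (commutator_mono (inf_le_inf_left _ (cent_le_cent1
      (V_le hxE hb hy))) le_rfl).trans (a y hy y1)).trans
      (h.dl _ ((V_le hxE hb).trans hE.1) h4.card_V.ge)).trans (centralizer_le r.le1))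
  by_cases a : ∃ y ∈ E ⊓ D, Four x y
  · obtain ⟨y, hy, h4⟩ := a
    exact key y hy.1 h4 fun z hz => k1 z (V_le hx hy.2 hz)
  by_cases b : T ≤ E
  · exact inf_le_right.trans (centralizer_le b)
  obtain ⟨t, ht, tE⟩ := SetLike.not_le_iff_exists.1 b
  have t1 : t ≠ 1 := fun e => tE (e ▸ one_mem _)
  obtain ⟨y, hy, h4⟩ := (c.el.mono r.le2).exists_four (h.sa.four _ _ _ r) hx x1
  have yE : y ∉ E := fun e => a ⟨y, ⟨e, hy⟩, h4⟩
  have a' : ∀ z ∈ E ⊓ D, z ∈ V x y := fun z hz => by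
    by_contra e
    rw [h4.mem_V, not_or, not_or] at e
    exact a ⟨z, hz, (c.el.mono r.le2).four hx hz.2 x1 e.1 (Ne.symm e.2.1)⟩
  have hD : D ≤ V x y := fun z hz => by
    by_cases e : z ∈ E
    · exact a' z ⟨e, hz⟩
    · exact (mul_mem_cancel_right (s_mem_V x y)).1 (a' _
        ⟨hE.mul_mem c.el (r.le2 hz) (r.le2 hy) e yE, mul_mem hz hy⟩)
  have e1 : t * y ∉ D := fun e => t1 (r.eq_one ht ((mul_mem_cancel_right hy).1 e))
  have h5 := c.el.four (r.le2 hx) (mul_mem (r.le1 ht) (r.le2 hy)) x1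
    (fun e => e1 (e ▸ one_mem _)) fun e => e1 (e ▸ hx)
  have l : ∀ z ∈ V x y, z ∈ D → z ≠ 1 → ⁅Od 𝐂[x] ⊓ 𝐂[t * z], T⁆ ≤ Od 𝐂[t * z] :=
    fun z a b e => (U4.comm_le_left (r.le1.trans (nQ _ (mul_mem (r.le1 ht) (r.le2 b))))).trans
      (k2 y h4 hD t ht t1 z a b e)
  refine key _ (hE.mul_mem c.el (r.le1 ht) (r.le2 hy) tE yE) h5 fun z hz z1 => ?_
  rcases h5.mem_V.1 hz with e | rfl | rfl | rfl
  · exact absurd e z1
  · exact k1 z hx z1
  · exact l y (s_mem_V x y) hy h4.s1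
  · rw [← mul_assoc, c.el.comm (r.le2 hx) (r.le1 ht), mul_assoc]
    exact l _ (mul_mem (t_mem_V x y) (s_mem_V x y)) (mul_mem hx hy) h4.ts1

theorem exists_std {T D : Subgroup G} (hm : Mx A T D) : ∃ J, Std A T D J := by
  have c := h.ctx
  obtain ⟨J, r⟩ := hm.1
  have key : ∀ x ∈ D, x ≠ 1 → ∀ L, Cp 𝐂[x] L → A ⊓ L = T → A ⊓ cm 𝐂[x] L = D →
      Real A T D (Jv L) := fun x hx x1 L hL a b => by
    have r' := c.real (r.le2 hx) x1 hL
    have hJ := (jc_le 𝐂[x] A L).trans hL.le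
    have e : Jv L = jc 𝐂[x] A L := by
      refine le_antisymm (Jv_le_of fun u hu u2 => ?_) (Jv_mono inf_le_left)
      obtain ⟨g, hg, e⟩ := ((c.gdc x1).maxE_inf (c.mc (r.le2 hx)) hL).exists_conj_mem c.ab hu
        (mul_self_of_inv u2)
      obtain ⟨o, ho, j, hj, e'⟩ := mem_sup_norm (hJ.trans (le_norm_Od _))
        ((c.gdc x1).le_sup_jc (c.mc (r.le2 hx)) hL (inv_mem hg))
      have h1 := conj_mem_of_mem_normalizer (le_normalizer hj) (r'.le e)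
      have h2 := mem_cent.1 (r'.le_of_le c.max (H1.le_normalizer_centralizer
        (hJ.trans (le_norm_Od _))) (a ▸ le_centralizer_iff.1 (h.claim1 hm hx x1)) h1) o ho
      have : u = o * (j * (g * u * g⁻¹) * j⁻¹) * o⁻¹ := by
        rw [show o * (j * (g * u * g⁻¹) * j⁻¹) * o⁻¹ = (o * j) * (g * u * g⁻¹) * (o * j)⁻¹ by group,
          e']
        group
      rwa [this, h2, mul_inv_cancel_right]
    rwa [a, b, ← e] at r'
  obtain ⟨x, hx, x1⟩ := exists_mem_ne_one r.ne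
  obtain ⟨L, hL, a, b⟩ := c.loc hm hx x1
  refine ⟨_, key x hx x1 L hL a b, hm, fun y hy y1 => ?_⟩
  obtain ⟨L', hL', a', b'⟩ := c.loc hm hy y1
  exact ⟨L', hL', a', b', le_antisymm
    (c.le_Jv (key y hy y1 L' hL' a' b') hx x1 hL (a.ge.trans inf_le_right))
    (c.le_Jv (key x hx x1 L hL a b) hy y1 hL' (a'.ge.trans inf_le_right))⟩

theorem norm_le {T D : Subgroup G} (a : Mx A T D) (b : Mx A D T) : 𝐍(A) ≤ 𝐍(T) := fun n hn => by
  obtain ⟨J, r⟩ := a.1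
  obtain ⟨J', r'⟩ := b.1
  rcases h.sa.mx _ _ _ _ _ a (r.cj hn) with e | e
  · exact mem_norm_of_le e.1
  rcases h.sa.mx _ _ _ _ _ b (r'.cj hn) with e' | e'
  · exact absurd (e.2.trans e'.1) r.not_le
  · exact mem_of_sq h.ctx.ab h.ctx.max ((centralizer_le r.le1).trans (cent_le_norm T)) hn
      (mem_norm_of_le (by rw [← cj_cj]; exact (map_mono e.1).trans e'.1))

theorem ti1 {T D J L : Subgroup G} (s : Std A T D J) {x : G} (hx : x ∈ D) (x1 : x ≠ 1)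
    (hL : Cp 𝐂[x] L) (a : A ⊓ L = T) (b : Jv L = J) (ht : TI (im 𝐂[x] L)) :
    (∀ t ∈ T, t ≠ 1 → Group.IsSolvable ↥(J ⊓ 𝐂[t])) ∧
      ∀ Y : Subgroup G, Odd (Nat.card Y) → A ≤ 𝐍(Y) → Y ≤ 𝐂(T) := by
  have c := h.ctx
  have k : ∀ t ∈ T, t ≠ 1 → J ⊓ 𝐂[t] ≤ Od 𝐂[x] ⊔ T := fun t h1 t1 =>
    (inf_le_inf_right _ (b.ge.trans (Jv_le L))).trans
      (a ▸ (c.gdc x1).inf_cent1_le_of_TI (c.mc (s.real.le2 hx)) hL ht (a.ge h1) t1)
  have eT := c.el.mono s.real.le1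
  refine ⟨fun t h1 t1 => isSolvable_of_le ?_ (k t h1 t1), fun Y ho hn => ?_⟩
  · rw [sup_comm]
    exact isSolvable_sup (s.real.le1.trans ((c.el.le_cent1 (s.real.le2 hx)).trans (le_norm_Od _)))
      eT.solv (solvable_Od _)
  · have n := s.real.le1.trans hn
    refine le_cent_of_comm_comm eT ho n (gen_pt eT s.real.four
      (odd_card_of_le ho (U4.comm_le_left n)) (le_norm_comm n) fun t h1 t1 => ?_)
    exact (inf_le_inf_right _ ((commutator_mono le_rfl s.real.le).trans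
      (comm_le_right (s.odd_le h ho hn)))).trans ((k t h1 t1).trans
      (sup_le (h.claim1 s.mx hx x1) eT.le_cent))

theorem titi {T D J J' : Subgroup G} (s : Std A T D J) (s' : Std A D T J')
    (a1 : ∀ t ∈ T, t ≠ 1 → Group.IsSolvable ↥(J ⊓ 𝐂[t]))
    (a2 : ∀ Y : Subgroup G, Odd (Nat.card Y) → A ≤ 𝐍(Y) → Y ≤ 𝐂(T))
    (b1 : ∀ t ∈ D, t ≠ 1 → Group.IsSolvable ↥(J' ⊓ 𝐂[t]))
    (b2 : ∀ Y : Subgroup G, Odd (Nat.card Y) → A ≤ 𝐍(Y) → Y ≤ 𝐂(D)) : J ≤ 𝐂(J') := by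
  have c := h.ctx
  have r := s.real
  have f3 : ∀ z ∈ A, z ∉ T → z ∉ D → ∀ u ∈ 𝐂[z], orderOf u = 2 → u ∈ A := fun z hz z1 z2 u hu u2 => by
    have z0 : z ≠ 1 := fun e => z1 (e ▸ one_mem _)
    have n := (c.el.le_cent1 hz).trans (le_norm_Od _)
    refine c.mem_of_nocp hz z0 (fun L hL => ?_) (by
      rw [← r.sup, cent_sup]; exact le_inf (a2 _ (odd_Od _) n) (b2 _ (odd_Od _) n)) u2 hu
    have r' := c.real hz z0 hL
    obtain ⟨t, ht, d, hd, rfl⟩ := r.dec c.el hz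
    have m : t * d ∈ A ⊓ cm 𝐂[t * d] L := ⟨hz, hL.mem_cm⟩
    rcases h.sa.mx _ _ _ _ _ s.mx r' with e | e
    · exact r'.ns (isSolvable_of_le (a1 t ht fun e => z2 (by rwa [e, one_mul]))
        (le_inf (s.le c r' e.1 e.2) (r'.cent.trans
          (cent_le_cent1 ((mul_mem_cancel_right (e.2 hd)).1 m)))))
    · exact r'.ns (isSolvable_of_le (b1 d hd fun e => z1 (by rwa [e, mul_one]))
        (le_inf (s'.le c r' e.1 e.2) (r'.cent.trans
          (cent_le_cent1 ((mul_mem_cancel_left (e.2 ht)).1 m)))))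
  have f2 : ∀ {B : Subgroup G}, B ≤ A → 𝐍(A) ≤ 𝐍(B) → ∀ b ∈ B, ∀ y ∈ A, IsConj b y → y ∈ B :=
    fun hB hn b hb y hy e => by
      obtain ⟨g, rfl⟩ := isConj_iff.1 e
      obtain ⟨n, hn', e⟩ := c.max.fusion c.ab (hB hb) (mem_top g) hy
      exact e ▸ conj_mem_of_mem_normalizer (hn hn'.2) hb
  have fT := f2 r.le1 (h.norm_le s.mx s'.mx)
  have fD := f2 r.le2 (h.norm_le s'.mx s.mx)
  have cj : ∀ g y : G, IsConj y (g * y * g⁻¹) := fun g y => isConj_iff.2 ⟨g, rfl⟩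
  have two : ∀ {u z : G}, orderOf u = 2 → orderOf z = 2 → z * u = u * z →
      ∃ g, g * u * g⁻¹ ∈ A ∧ g * z * g⁻¹ ∈ A := fun {u z} u2 z2 e => by
    obtain ⟨g, -, hg⟩ := c.max.exists_conj_le c.ab ((el_zpowers (mul_self_of_inv u2)).sup
      (el_zpowers (mul_self_of_inv z2))
      (by rw [cent_zpowers]; exact zpowers_le.2 (mem_cent1.2 e))) le_top
    exact ⟨g, hg (conj_mem_map_conj (mem_sup_left (mem_zpowers u))),
      hg (conj_mem_map_conj (mem_sup_right (mem_zpowers z)))⟩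
  have mulc : ∀ g u z : G, g * (u * z) * g⁻¹ = g * u * g⁻¹ * (g * z * g⁻¹) := fun g u z => by group
  refine r.jv.ge.trans (Jv_le_of fun u hu u2 => mem_cent_cent1 (s'.real.jv.ge.trans
    (Jv_le_of fun v hv v2 => ?_)))
  obtain ⟨k, -, hk⟩ := (r.maxE c.max).exists_conj_mem c.ab hu (mul_self_of_inv u2)
  obtain ⟨l, -, hl⟩ := (s'.real.maxE c.max).exists_conj_mem c.ab hv (mul_self_of_inv v2)
  have tu : ∀ y ∈ A, IsConj u y → y ∈ T := fun y hy e => fT _ hk y hy ((cj k u).symm.trans e)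
  have tv : ∀ y ∈ A, IsConj v y → y ∈ D := fun y hy e => fD _ hl y hy ((cj l v).symm.trans e)
  have ne : ∀ g : G, ∀ {y : G}, orderOf y = 2 → g * y * g⁻¹ ≠ 1 := fun g y y2 =>
    U4.conj_ne_one_iff.2 (ne_one_of_inv y2)
  obtain ⟨z, z2, zu, zv, hz⟩ := dihedral u2 v2 fun e =>
    ne l v2 (r.eq_one (tu _ (r.le2 hl) (e.trans (cj l v))) hl)
  obtain ⟨g, g1, g2⟩ := two u2 z2 zu
  have g3 := tu _ g1 (cj g u)
  have g4 : g * (u * z) * g⁻¹ ∈ A := mulc g u z ▸ mul_mem g1 g2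
  rcases hz with ⟨e1, e2⟩ | ⟨e1, -⟩
  · obtain ⟨g', g1', g2'⟩ := two v2 z2 zv
    have i1 := tu _ g4 (e1.symm.trans (cj g _))
    have i2 := tv _ (mulc g' v z ▸ mul_mem g1' g2') (e2.symm.trans (cj g' _))
    rw [mulc, mul_mem_cancel_left g3] at i1
    rw [mulc, mul_mem_cancel_left (tv _ g1' (cj g' v))] at i2
    exact absurd (r.eq_one i1 (fD _ i2 _ g2 ((cj g' z).symm.trans (cj g z)))) (ne g z2)
  · have i1 := tv _ g4 (e1.symm.trans (cj g _))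
    have i2 := f3 _ g2 (fun e => ne_one_of_inv v2 (isConj_one_left.1 (e1.symm.trans
        ((cj g _).trans (by rw [r.eq_one (mulc g u z ▸ mul_mem g3 e) i1])))))
      (fun e => ne g u2 (r.eq_one g3 ((mul_mem_cancel_right e).1 (mulc g u z ▸ i1))))
      (g * v * g⁻¹) (by rw [cent1_conj]; exact conj_mem_map_conj (mem_cent1'.2 zv))
      ((orderOf_conj g v).trans v2)
    have := c.el.comm i2 g1
    rw [← mulc, ← mulc, mul_left_inj, mul_right_inj] at this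
    exact mem_cent1.2 this

theorem ns1 {T D J J' L : Subgroup G} (s : Std A T D J) (s' : Std A D T J') {x : G} (hx : x ∈ D)
    (x1 : x ≠ 1) (hL : Cp 𝐂[x] L) (a : A ⊓ L = T) (b : Jv L = J) (ht : NS (im 𝐂[x] L)) :
    J ≤ 𝐍(J') := by
  have c := h.ctx
  refine (b.ge.trans (Jv_le L)).trans (((c.gdc x1).gen_NS (c.mc (s.real.le2 hx)) hL ht
    (M := 𝐂[x] ⊓ 𝐍(J')) inf_le_left fun t h1 t1 u hu u2 => ⟨hL.le (ct_le t hu), ?_⟩).trans
    (sup_le (s'.odd_le h (odd_Od _) ((c.el.le_cent1 (s.real.le2 hx)).trans (le_norm_Od _)))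
      inf_le_right))
  obtain ⟨L', hL', -, -, b'⟩ := s'.loc t (a.le h1) t1
  exact b' ▸ norm_le_norm_Jv L' ((c.gdc t1).inv_norm hL' (mul_self_of_inv u2) (ct_le_cent1 t hu))

theorem commute {T D J T' D' J' : Subgroup G} (s : Std A T D J) (s' : Std A T' D' J')
    (h1 : T ≤ D') (h2 : T' ≤ D) : J ≤ 𝐂(J') := by
  have c := h.ctx
  have k : ∀ {T D J T' D' J' : Subgroup G}, Std A T D J → Std A T' D' J' → T ≤ D' → J ≤ 𝐍(J') →
      J ≤ 𝐂(J') := fun s s' a b => s.real.le_of_le c.max (H1.le_normalizer_centralizer b)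
    (a.trans (le_centralizer_iff.1 s'.real.cent))
  by_cases e : D ⊓ D' = ⊥
  swap
  · obtain ⟨z, hz, z1⟩ := exists_mem_ne_one e
    obtain ⟨L, hL, -, -, b⟩ := s'.loc z hz.2 z1
    exact k s s' h1 (b ▸ ((c.gdc z1).real_norm hL s.real
      (s.real.cent.trans (cent_le_cent1 hz.1))).trans (norm_le_norm_Jv L))
  have k2 : ∀ {T D J D' : Subgroup G}, Real A T D J → T ≤ D' → D' ≤ A → D ⊓ D' = ⊥ → D' = T :=
    fun r a b e => le_antisymm (fun y hy => by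
      obtain ⟨t, ht, d, hd, rfl⟩ := r.dec c.el (b hy)
      rwa [eq_one_of_mem_inf e hd ((mul_mem_cancel_left (a ht)).1 hy), mul_one]) a
  obtain rfl := k2 s.real h1 s'.real.le2 e
  obtain rfl := k2 s'.real h2 s.real.le2 (inf_comm D D' ▸ e)
  obtain ⟨x, hx, x1⟩ := exists_mem_ne_one s.real.ne
  obtain ⟨L, hL, a, -, b⟩ := s.loc x hx x1
  obtain ⟨x', hx', x1'⟩ := exists_mem_ne_one s'.real.ne
  obtain ⟨L', hL', a', -, b'⟩ := s'.loc x' hx' x1'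
  rcases ((c.gdc x1).kt hL).tins with t | t
  swap
  · exact k s s' h1 (h.ns1 s s' hx x1 hL a b t)
  rcases ((c.gdc x1').kt hL').tins with t' | t'
  · exact h.titi s s' (h.ti1 s hx x1 hL a b t).1 (h.ti1 s hx x1 hL a b t).2
      (h.ti1 s' hx' x1' hL' a' b' t').1 (h.ti1 s' hx' x1' hL' a' b' t').2
  · exact le_centralizer_iff.1 (k s' s h2 (h.ns1 s' s hx' x1' hL' a' b' t'))

theorem elim : False := by
  have c := h.ctx
  have := c.simple
  let S : Set (Subgroup G) := {J | ∃ T D, Std A T D J}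
  have k1 : ∀ {T D J}, Real A T D J → ∃ J₀ ∈ S, J ≤ J₀ := fun r => by
    obtain ⟨T', D', m, a, b⟩ := r.exists_mx
    obtain ⟨J₀, s⟩ := h.exists_std m
    exact ⟨J₀, ⟨T', D', s⟩, s.le c r a b⟩
  have k2 : ∀ {U : Subgroup G}, (∀ J ∈ S, U ≤ 𝐍(J)) → U ≤ 𝐍(sSup S) := fun a =>
    le_norm_sSup fun g hg J hJ => (map_conj_eq_of_mem_normalizer (a J hJ hg)).le.trans (le_sSup hJ)
  have k3 : 𝐍(A) ≤ 𝐍(sSup S) := le_norm_sSup fun g hg J ⟨T, D, s⟩ =>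
    let ⟨_, a, b⟩ := k1 (s.real.cj hg); b.trans (le_sSup a)
  obtain ⟨T, D, J, r⟩ := c.exists_real
  obtain ⟨J, ⟨T, D, s⟩, -⟩ := k1 r
  have j0 : J ≠ ⊥ := fun e => s.real.ns (e ▸ inferInstance)
  have sS : J ∈ S := ⟨T, D, s⟩
  refine c.se _ (norm_ne_top (fun e => j0 (le_bot_iff.1 (e ▸ le_sSup sS))) fun e =>
    norm_ne_top j0 (fun e' => c.cent_ne s.real.ne (top_le_iff.1 (e' ▸ s.real.cent)))
      (top_le_iff.1 (e ▸ sSup_le (s := S) fun J' hJ' => ?_))) k3 fun x hx x1 => c.gen hx x1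
    (k2 fun J ⟨T, D, s⟩ => s.odd_le h (odd_Od _) ((c.el.le_cent1 hx).trans (le_norm_Od _))) k3
    fun L hL => let ⟨_, a, b⟩ := k1 (c.real hx x1 hL); (b.trans (le_sSup a)).trans le_normalizer
  obtain ⟨T', D', s'⟩ := hJ'
  rcases h.sa.mx _ _ _ _ _ s.mx s'.real with a | a
  · exact (s.le c s'.real a.1 a.2).trans le_normalizer
  · exact (h.commute s' s a.1 a.2).trans (cent_le_norm J)

end Fb

theorem Ctx.not_sa {A : Subgroup G} (h : Ctx A) (s : Sa A) : False := by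
  obtain ⟨T, D, J, r⟩ := h.exists_real
  have h16 : 16 ≤ Nat.card A := r.card h.el ▸ Nat.mul_le_mul r.four (s.four _ _ _ r)
  obtain ⟨W, w⟩ := h.exists_wst h16
  exact Fb.elim ⟨h, s, fun B a b => (w.le B a b).trans (w.le_cent h s h16)⟩

theorem Ctx.sb' {A : Subgroup G} (h : Ctx A) : Sb A := (h.shape h.exists_real).resolve_left h.not_sa

end CfsgLib.Wal
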