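import Cfsg.Agent.Lib.Wal.Comp
import Cfsg.Agent.Lib.GW.LocalD2
import Cfsg.Agent.Lib.Sig.SigOdd

/-!
# Coprime generation, true components and Bender's theorem on maximal subgroups
-/

set_option autoImplicit false

namespace CfsgLib.Wal

open Subgroup Cfsg CfsgLib.FT CfsgLib.FT.BGN CfsgLib.Cop CfsgLib.GW
open CfsgLib.H1 (AbTwo CharIn layerIn genFitIn dSub)
open CfsgLib.FT.U4 (mem_cent1 mem_cent1' mem_cent mem_cent1_comm cent1_conj
  eq_one_of_mem_inf eq_bot_of_forall conj_mem_conj_iff orderOf_conj)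
open scoped commutatorElement

universe u

variable {G : Type*} [Group G]

/-- `E` has index at most `2` in the elementary abelian group `A`. -/
def Hy (E A : Subgroup G) : Prop := E ≤ A ∧ ∃ a ∈ A, E ⊔ zpowers a = A

theorem Hy.sup {E A : Subgroup G} (h : Hy E A) {a : G} (ha : a ∈ A) : Hy (E ⊔ zpowers a) A := by
  obtain ⟨h1, b, hb, e⟩ := h
  refine ⟨sup_le h1 (zpowers_le.2 ha), b, hb, le_antisymm
    (sup_le (sup_le h1 (zpowers_le.2 ha)) (zpowers_le.2 hb)) ?_⟩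
  exact e.ge.trans (sup_le_sup_right le_sup_left _)

theorem El.mem_sup {A B C : Subgroup G} (hA : El A) (hB : B ≤ A) (hC : C ≤ A) {x : G}
    (hx : x ∈ B ⊔ C) : ∃ b ∈ B, ∃ c ∈ C, b * c = x := mem_sup_norm (hC.trans (hA.le_norm hB)) hx

theorem El.mem_zp {A : Subgroup G} (hA : El A) {a x : G} (ha : a ∈ A) (hx : x ∈ zpowers a) :
    x = 1 ∨ x = a := by
  by_cases e : a = 1
  · left; simpa [e] using hx
  · exact (mem_zpowers_inv (hA.ord ha e)).1 hx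

theorem Hy.mul_mem {E A : Subgroup G} (h : Hy E A) (hA : El A) {x y : G} (hx : x ∈ A) (hy : y ∈ A)
    (h1 : x ∉ E) (h2 : y ∉ E) : x * y ∈ E := by
  obtain ⟨h0, a, ha, e⟩ := h
  obtain ⟨b, hb, c, hc, rfl⟩ := hA.mem_sup h0 (zpowers_le.2 ha) (e.ge hx)
  obtain ⟨b', hb', c', hc', rfl⟩ := hA.mem_sup h0 (zpowers_le.2 ha) (e.ge hy)
  rcases hA.mem_zp ha hc with rfl | rfl
  · exact absurd (by simpa using hb) h1
  rcases hA.mem_zp ha hc' with rfl | rfl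
  · exact absurd (by simpa using hb') h2
  have : b * c' * (b' * c') = b * b' := by
    rw [hA.comm (h0 hb') ha, mul_assoc, ← mul_assoc c', hA c' ha, one_mul]
  rw [this]; exact Subgroup.mul_mem _ hb hb'

theorem Hy.sup_eq {E A : Subgroup G} (h : Hy E A) (hA : El A) {x : G} (hx : x ∈ A) (h1 : x ∉ E) :
    E ⊔ zpowers x = A := by
  refine le_antisymm (sup_le h.1 (zpowers_le.2 hx)) fun y hy => ?_
  by_cases e : y ∈ E
  · exact mem_sup_left e
  · have := Subgroup.mul_mem _ (mem_sup_left (T := zpowers x) (h.mul_mem hA hy hx e h1))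
      (mem_sup_right (mem_zpowers x))
    rwa [mul_assoc, hA x hx, mul_one] at this

variable [Finite G]

theorem El.card_sup {A B C : Subgroup G} (hA : El A) (hB : B ≤ A) (hC : C ≤ A) :
    Nat.card ↥(B ⊔ C) * Nat.card ↥(B ⊓ C) = Nat.card B * Nat.card C :=
  card_sup_mul_card_inf (hB.trans (hA.le_norm hC))

theorem Hy.card {E A : Subgroup G} (h : Hy E A) (hA : El A) : Nat.card A ≤ 2 * Nat.card E := by
  obtain ⟨h0, a, ha, e⟩ := h
  have h1 := hA.card_sup h0 (zpowers_le.2 ha)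
  have h2 : Nat.card (zpowers a) ≤ 2 := by
    rw [Nat.card_zpowers]
    exact orderOf_le_of_pow_eq_one two_pos (by rw [pow_two, hA a ha])
  have h3 : 0 < Nat.card ↥(E ⊓ zpowers a) := Nat.card_pos
  rw [e] at h1
  nlinarith

theorem El.exists_four {B : Subgroup G} (hB : El B) (h : 4 ≤ Nat.card B) {b : G} (hb : b ∈ B)
    (h1 : b ≠ 1) : ∃ c ∈ B, Four b c := by
  obtain ⟨c, hc, h2⟩ : ∃ c ∈ B, c ∉ zpowers b := SetLike.not_le_iff_exists.1 fun e => by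
    have := card_le_of_le e
    rw [card_zpowers_inv (hB.ord hb h1)] at this
    omega
  rw [mem_zpowers_inv (hB.ord hb h1), not_or] at h2
  exact ⟨c, hc, hB.four hb hc h1 h2.1 (Ne.symm h2.2)⟩

theorem exists_ne_one_of_card {B : Subgroup G} (h : 2 ≤ Nat.card B) : ∃ b ∈ B, b ≠ 1 :=
  exists_mem_ne_one fun e => by rw [e, card_bot] at h; omega

theorem El.exists_four' {B : Subgroup G} (hB : El B) (h : 4 ≤ Nat.card B) :
    ∃ b ∈ B, ∃ c ∈ B, Four b c :=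
  let ⟨b, hb, h1⟩ := exists_ne_one_of_card (B := B) (by omega)
  ⟨b, hb, hB.exists_four h hb h1⟩

theorem El.not_cyclic {B : Subgroup G} (hB : El B) (h : 4 ≤ Nat.card B) : ¬ IsCyclic B :=
  fun hc => by
    obtain ⟨b, hb, c, hc', h4⟩ := hB.exists_four' h
    exact h4.not_cyclic (isCyclic_of_le (V_le hb hc'))

theorem gen_hy {Q A K : Subgroup G} (hA : El A) (ho : Odd (Nat.card Q)) (hn : A ≤ 𝐍(Q))
    (h : ∀ E, Hy E A → Q ⊓ 𝐂(E) ≤ K) : Q ≤ K :=
  le_of_cocyclic_centralizer_le hA.mulComm hn (hA.coprime ho) fun E h1 h2 => h E ⟨h1, h2⟩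

theorem gen_hy' {Q A K : Subgroup G} (hA : El A) (ho : Odd (Nat.card Q)) (hn : A ≤ 𝐍(Q)) {a : G}
    (ha : a ∈ A) (hc : Q ≤ 𝐂[a]) (h : ∀ E, Hy E A → a ∈ E → Q ⊓ 𝐂(E) ≤ K) : Q ≤ K :=
  gen_hy hA ho hn fun E hE => le_trans (le_inf inf_le_left (by
    rw [cent_sup, cent_zpowers]; exact le_inf inf_le_right (inf_le_left.trans hc)))
    (h _ (hE.sup ha) (mem_sup_right (mem_zpowers a)))

theorem gen_pt {Q A K : Subgroup G} (hA : El A) (h4 : 4 ≤ Nat.card A) (ho : Odd (Nat.card Q))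
    (hn : A ≤ 𝐍(Q)) (h : ∀ a ∈ A, a ≠ 1 → Q ⊓ 𝐂[a] ≤ K) : Q ≤ K :=
  le_of_centralizer_le_of_not_isCyclic hA.mulComm (hA.not_cyclic h4) hn (hA.coprime ho) h

theorem comm_hy {Q A B K : Subgroup G} (hA : El A) (hB : El B) (ho : Odd (Nat.card Q))
    (hn : A ≤ 𝐍(Q)) (hBn : B ≤ 𝐍(Q)) (hK : B ≤ 𝐍(K))
    (h : ∀ E, Hy E A → ⁅Q ⊓ 𝐂(E), B⁆ ≤ K) : ⁅Q, B⁆ ≤ K :=
  (Sig.commutator_le_of_gen (K := K ⊓ Q) (solvable_of_odd ho) hBn (hB.coprime ho) inf_le_right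
    (H1.le_normalizer_inf hK hBn) fun N _ h1 h2 h3 => gen_hy hA (odd_card_of_le ho h1)
      (hn.trans h2) fun E hE => h3 _ inf_le_left (le_inf
        ((commutator_mono (inf_le_inf_right _ h1) le_rfl).trans (h E hE))
        ((commutator_mono (inf_le_left.trans h1) le_rfl).trans (U4.comm_le_left hBn)))).trans
    inf_le_left

theorem comm_hy' {Q A B K : Subgroup G} (hA : El A) (hB : El B) (ho : Odd (Nat.card Q))
    (hn : A ≤ 𝐍(Q)) (hBn : B ≤ 𝐍(Q)) (hK : B ≤ 𝐍(K)) {a : G} (ha : a ∈ A) (hc : Q ≤ 𝐂[a])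
    (h : ∀ E, Hy E A → a ∈ E → ⁅Q ⊓ 𝐂(E), B⁆ ≤ K) : ⁅Q, B⁆ ≤ K :=
  comm_hy hA hB ho hn hBn hK fun E hE => le_trans (commutator_mono (le_inf inf_le_left (by
    rw [cent_sup, cent_zpowers]; exact le_inf inf_le_right (inf_le_left.trans hc))) le_rfl)
    (h _ (hE.sup ha) (mem_sup_right (mem_zpowers a)))

theorem comm_pt {Q A B K : Subgroup G} (hA : El A) (h4 : 4 ≤ Nat.card A) (hB : El B)
    (ho : Odd (Nat.card Q)) (hn : A ≤ 𝐍(Q)) (hBn : B ≤ 𝐍(Q)) (hK : B ≤ 𝐍(K))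
    (h : ∀ a ∈ A, a ≠ 1 → ⁅Q ⊓ 𝐂[a], B⁆ ≤ K) : ⁅Q, B⁆ ≤ K :=
  (Sig.commutator_le_of_gen (K := K ⊓ Q) (solvable_of_odd ho) hBn (hB.coprime ho) inf_le_right
    (H1.le_normalizer_inf hK hBn) fun N _ h1 h2 h3 => gen_pt hA h4 (odd_card_of_le ho h1)
      (hn.trans h2) fun a ha h0 => h3 _ inf_le_left (le_inf
        ((commutator_mono (inf_le_inf_right _ h1) le_rfl).trans (h a ha h0))
        ((commutator_mono (inf_le_left.trans h1) le_rfl).trans (U4.comm_le_left hBn)))).trans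
    inf_le_left

theorem comm_comm {Q A : Subgroup G} (hA : El A) (ho : Odd (Nat.card Q)) (hn : A ≤ 𝐍(Q)) :
    ⁅⁅Q, A⁆, A⁆ = ⁅Q, A⁆ := commutator_commutator_eq hn (hA.coprime ho)

theorem comm_sup_cent {Q A : Subgroup G} (hA : El A) (ho : Odd (Nat.card Q)) (hn : A ≤ 𝐍(Q)) :
    ⁅Q, A⁆ ⊔ Q ⊓ 𝐂(A) = Q := commutator_sup_centralizer hn (hA.coprime ho) (Or.inl hA.solv)

theorem comm_le_of_forall {Q A K : Subgroup G} (h : ∀ a ∈ A, ⁅Q, zpowers a⁆ ≤ K) : ⁅Q, A⁆ ≤ K :=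
  commutator_le.2 fun _ hx a ha => h a ha (commutator_mem_commutator hx (mem_zpowers a))

theorem norm_zp {U : Subgroup G} {a : G} (h : U ≤ 𝐂[a]) : U ≤ 𝐍(zpowers a) :=
  h.trans ((cent_zpowers a).ge.trans (cent_le_norm _))

theorem norm_cent1 {U : Subgroup G} {a : G} (h : U ≤ 𝐂[a]) : U ≤ 𝐍(𝐂[a]) := h.trans le_normalizer

omit [Finite G] in
theorem solv_of_le_cent {U : Subgroup G} (h : U ≤ 𝐂(U)) : Group.IsSolvable U :=
  haveI : IsMulCommutative U := ⟨⟨fun a b => Subtype.ext (mem_cent.1 (h b.2) a a.2)⟩⟩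
  isSolvable_of_isMulCommutative

section pxq
variable {p : ℕ} [hp : Fact p.Prime]

theorem pxq {V P Q : Subgroup G} (hV : IsPGroup p V) (hP : IsPGroup p P)
    (hQ : (Nat.card Q).Coprime p) (h1 : V ≤ 𝐍(P)) (h2 : Q ≤ 𝐍(P)) (h3 : V ≤ 𝐂(Q))
    (h : P ⊓ 𝐂(V) ≤ 𝐂(Q)) : P ≤ 𝐂(Q) :=
  comm_eq_bot_iff.1 (commutator_eq_bot_of_pxq hV hP hQ h1 h2 (comm_eq_bot_iff.2 h3) h)

theorem pxq1 (hp2 : p ≠ 2) {V P : Subgroup G} {d : G} (hd : d * d = 1) (hV : IsPGroup p V)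
    (hP : IsPGroup p P) (h1 : V ≤ 𝐍(P)) (h2 : d ∈ 𝐍(P)) (h3 : V ≤ 𝐂[d])
    (h : P ⊓ 𝐂(V) ≤ 𝐂[d]) : P ≤ 𝐂[d] := by
  rw [← cent_zpowers] at h3 h ⊢
  exact pxq hV hP ((el_zpowers hd).coprime (hp.1.odd_of_ne_two hp2)) h1 (zpowers_le.2 h2) h3 h

end pxq

/-- `J` is a component of `X`. -/
def TC (X J : Subgroup G) : Prop := SubnormalIn J X ∧ IsQuasisimple J

namespace TC
variable {X J : Subgroup G} (h : TC X J)
include h

omit [Finite G] in
theorem le : J ≤ X := h.1.1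

omit [Finite G] in
theorem not_solv : ¬ Group.IsSolvable J := isQuasisimple_not_isSolvable h.2

omit [Finite G] in
theorem perfect : ⁅J, J⁆ = J := by
  rw [← map_subtype_commutator, h.2.1.commutator_eq_top, ← MonoidHom.range_eq_map, range_subtype]

omit [Finite G] in
theorem cj (g : G) : TC (g •ᶜ X) (g •ᶜ J) :=
  ⟨h.1.map _, isQuasisimple_of_equiv h.2 (J.equivMapOfInjective _ (MulAut.conj g).injective)⟩

omit [Finite G] in
theorem cj' {g : G} (hg : g ∈ 𝐍(X)) : TC X (g •ᶜ J) := by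
  have := h.cj g
  rwa [map_conj_eq_of_mem_normalizer hg] at this

theorem cent {Q : Subgroup G} (hQ : Q ≤ X) (hs : Group.IsSolvable Q) (hn : J ≤ 𝐍(Q)) :
    Q ≤ 𝐂(J) := cent_of_norm h.1 h.2 hQ hs hn

theorem Od_le : Od X ≤ 𝐂(J) := h.cent (GW.Od_le X) (solvable_Od X) (h.le.trans (le_norm_Od X))

theorem pc_le (p : ℕ) [Fact p.Prime] : pCoreOf p X ≤ 𝐂(J) := h.cent (H1.pCoreOf_le X)
  (solvable_of_isPGroup (H1.pCoreOf_isPGroup X)) (h.le.trans (H1.le_normalizer_pCoreOf X))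

theorem eq_or {J' : Subgroup G} (h' : TC X J') : J = J' ∨ J ≤ 𝐂(J') := by
  rcases le_or_commutator_eq_bot_in X h'.2 h'.1 h.1 with e | e
  · rcases (h'.1.mono e h.le).eq_or_le_centralizer h.2 with e' | e'
    · exact Or.inl e'.symm
    · exact Or.inr (le_centralizer_iff.1 e')
  · exact Or.inr (comm_eq_bot_iff.1 e)

theorem im_eq : im X (Od X ⊔ J) = im X J := by
  rw [im_sup (GW.Od_le X) h.le, (im_eq_bot (GW.Od_le X)).2 le_rfl, bot_sup_eq]

theorem cp : Cp X (Od X ⊔ J) := by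
  refine ⟨?_, by rw [h.im_eq, pre_im h.le]⟩
  rw [h.im_eq]
  have h0 : Nontrivial (im X J) := (nontrivial_iff_ne_bot _).2 fun e =>
    h.not_solv (isSolvable_of_le (solvable_Od X) ((im_eq_bot h.le).1 e))
  refine ⟨h.1.2.map (QuotientGroup.mk'_surjective _), isQuasisimple_of_surjective
    (isQuasisimple_of_equiv h.2 (subgroupOfEquivOfLe h.le).symm) ((pr X).subgroupMap _)
    ((pr X).subgroupMap_surjective _)⟩

theorem cent_of_comm {W : Subgroup G} (hW : ⁅W, J⁆ ≤ 𝐂(J)) : W ≤ 𝐂(J) :=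
  comm_eq_bot_iff.1 (commutator_eq_bot_of_perfect h.perfect (comm_eq_bot_iff.2 hW))

theorem cent_of_cm {W : Subgroup G} (hW : W ≤ cm X (Od X ⊔ J)) : W ≤ 𝐂(J) :=
  h.cent_of_comm ((commutator_mono le_rfl le_sup_right).trans
    (((le_cm' (hW.trans (cm_le _ _)) h.cp.le).1 hW).trans h.Od_le))

theorem le_of_le_sup {M : Subgroup G} (hM : M ≤ J) (h1 : J ≤ Od X ⊔ M) : J ≤ M := by
  rw [← h.perfect]
  refine commutator_le.2 fun x hx y hy => ?_
  have hn : M ≤ 𝐍(Od X) := hM.trans (h.le.trans (le_norm_Od X))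
  obtain ⟨a, ha, b, hb, rfl⟩ := mem_sup_norm hn (h1 hx)
  obtain ⟨c, hc, d, hd, rfl⟩ := mem_sup_norm hn (h1 hy)
  have e1 := mem_cent.1 (h.Od_le ha) _ hy
  have e2 := mem_cent.1 (h.Od_le hc) _ (hM hb)
  have e3 := mem_cent.1 (h.Od_le ha) _ (hM (commutator_le_self M
    (commutator_mem_commutator hb hd)))
  have : ⁅a * b, c * d⁆ = ⁅b, d⁆ := by
    have e4 : ⁅a * b, c * d⁆ = a * ⁅b, c * d⁆ * (c * d * a⁻¹) * (c * d)⁻¹ := by
      simp only [commutatorElement_def]; group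
    have e5 : ⁅b, c * d⁆ = (b * c) * b⁻¹ * c⁻¹ * c * ⁅b, d⁆ * c⁻¹ := by
      simp only [commutatorElement_def]; group
    have e6 := mem_cent.1 (h.Od_le hc) _ (hM (commutator_le_self M
      (commutator_mem_commutator hb hd)))
    have e7 : c * d * a⁻¹ = a⁻¹ * (c * d) := by rw [eq_inv_mul_iff_mul_eq, ← mul_assoc, ← e1]; group
    rw [e4, e5, e2, e7, mul_assoc c b, mul_inv_cancel, mul_one, mul_inv_cancel, one_mul, ← e6,
      mul_inv_cancel_right, ← e3]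
    group
  rw [this]
  exact commutator_le_self M (commutator_mem_commutator hb hd)

theorem Jv_sup (hX : Gd X) : Jv (Od X ⊔ J) = J := by
  have hn : J ≤ 𝐍(Od X) := h.le.trans (le_norm_Od X)
  have h1 : Jv (Od X ⊔ J) ≤ J := Jv_le_of fun u hu h2 => by
    obtain ⟨o, ho, j, hj, rfl⟩ := mem_sup_norm hn hu
    have e := mem_cent.1 (h.Od_le ho) j hj
    have h3 := pow_odd_of_sq (mul_self_of_inv h2) (odd_of_mem_Od ho)
    rw [(show Commute o j from e.symm).mul_pow, pow_orderOf_eq_one, one_mul] at h3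
    exact h3 ▸ pow_mem hj _
  exact le_antisymm h1 (h.le_of_le_sup h1 (le_sup_right.trans (hX.sup_Jv h.cp).ge))

theorem inf_eq (hX : Gd X) {A : Subgroup G} (hA : El A) : A ⊓ (Od X ⊔ J) = A ⊓ J :=
  le_antisymm (fun a ha => ⟨ha.1, by
    by_cases e : a = 1
    · rw [e]; exact one_mem _
    · exact (h.Jv_sup hX).le (mem_Jv ha.2 (hA.ord ha.1 e))⟩)
    (inf_le_inf_left _ le_sup_right)

theorem inf_cm : cm X (Od X ⊔ J) = X ⊓ 𝐂(J) := le_antisymm
  (le_inf (cm_le _ _) (h.cent_of_cm le_rfl)) ((le_cm' inf_le_left h.cp.le).2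
    (H1.commutator_sup_le le_normalizer (h.le.trans (le_norm_Od X))
      (comm_le_right (inf_le_left.trans (le_norm_Od X)))
      ((comm_eq_bot_iff.2 inf_le_right).le.trans bot_le)))

theorem norm_of_norm (hX : Gd X) : 𝐍(Od X ⊔ J) ≤ 𝐍(J) := by
  conv_rhs => rw [← h.Jv_sup hX]
  exact norm_le_norm_Jv _

theorem pq {p : ℕ} [hp : Fact p.Prime] {V P : Subgroup G} (hV : IsPGroup p V) (hP : IsPGroup p P)
    (h1 : V ≤ 𝐍(P)) (h2 : J ≤ 𝐍(P)) (h3 : J ≤ 𝐂(V)) (h4 : P ⊓ 𝐂(V) ≤ X) : J ≤ 𝐂(P) := by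
  have h5 := h.cent h4 (solvable_of_isPGroup hP.to_inf_left)
    (H1.le_normalizer_inf h2 (H1.le_normalizer_centralizer (h3.trans (cent_le_norm _))))
  have h6 : pResidualOf p J ≤ 𝐂(P) := H1.pResidualOf_le_iff.2 fun g hg hc =>
    le_cent1_iff.1 ((pxq (Q := zpowers g) hV hP (by rwa [Nat.card_zpowers]) h1
      (zpowers_le.2 (h2 hg)) ((le_centralizer_iff.1 h3).trans (centralizer_le (zpowers_le.2 hg)))
      (h5.trans (centralizer_le (zpowers_le.2 hg)))).trans (cent_zpowers g).le)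
  rcases (SubnormalIn.of_le_normalizer (H1.pResidualOf_le (p := p) J) (le_normalizer.trans
    (H1.normalizer_le_normalizer_pResidualOf J))).eq_or_le_centralizer h.2 with e | e
  · exact e ▸ h6
  obtain ⟨S, hS⟩ := IsSylowIn.exists_in (p := p) J
  refine absurd ?_ h.not_solv
  rw [← H1.pResidualOf_sup_sylow hS, sup_comm]
  exact isSolvable_sup (hS.le.trans (le_normalizer.trans
    (H1.normalizer_le_normalizer_pResidualOf J))) (solvable_of_isPGroup hS.isPGroup)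
    (solv_of_le_cent (e.trans (centralizer_le (H1.pResidualOf_le J))))

end TC

end CfsgLib.Wal
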