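import Cfsg.Agent.Lib.Wal.H5BGen
import Cfsg.Agent.Lib.JR.Card

/-!
# The centralizer of a field automorphism of prime order
-/

set_option autoImplicit false

namespace CfsgLib.H5.JB

open Subgroup Cfsg CfsgLib.FT CfsgLib.FT.BGN CfsgLib.Cop CfsgLib.GW CfsgLib.Wal
open CfsgLib.H1 (AbTwo)
open CfsgLib.FT.U4 (mem_cent1 mem_cent1' mem_cent mem_cent1_comm cent1_conj
  eq_one_of_mem_inf eq_bot_of_forall conj_mem_conj_iff orderOf_conj)
open scoped commutatorElement MatrixGroups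

universe u

theorem mod_of_pow {r k q : ℕ} (e : r ^ k = q) (hk : Odd k) (h : q % 8 = 3 ∨ q % 8 = 5) :
    r % 8 = 3 ∨ r % 8 = 5 := by
  obtain ⟨m, rfl⟩ := hk
  have h1 : r % 2 = 1 := by
    by_contra h2
    have : 2 ∣ q := e ▸ dvd_pow (by omega) (by omega)
    omega
  have h2 : r ^ 2 ≡ 1 [MOD 8] := by
    unfold Nat.ModEq
    rw [Nat.pow_mod]
    have : r % 8 = 1 ∨ r % 8 = 3 ∨ r % 8 = 5 ∨ r % 8 = 7 := by omega
    rcases this with h | h | h | h <;> rw [h]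
  have h3 := (h2.pow m).mul_right r
  rw [← pow_mul, ← pow_succ, e, one_pow, one_mul] at h3
  exact h3 ▸ h

theorem card_of_iso {X : Type*} [Group X] {r : ℕ} (h8 : r % 8 = 3 ∨ r % 8 = 5)
    (h : ∃ (F : Type) (_ : Field F) (_ : Fintype F), Fintype.card F = r ∧
      Nonempty (X ≃* Matrix.ProjectiveSpecialLinearGroup (Fin 2) F)) :
    Nat.card X = r * (r ^ 2 - 1) / 2 := by
  obtain ⟨F, _, _, rfl, ⟨e⟩⟩ := h
  rw [Nat.card_congr e.toEquiv, SL2C.card_PSL2 (GW.PA.two_ne_zero_of_card h8),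
    Nat.card_eq_fintype_card]

variable {G : Type u} [Group G] [Finite G] {t a b : G} {L : Subgroup G} {q : ℕ}

theorem inf_le_cent1 (h : WJR t L q) {k : ℕ} [hk : Fact k.Prime] (h2 : k ≠ 2)
    (hL : ¬ k ∣ Nat.card L) {D : Subgroup G} (hD : IsPGroup k D) {u : G} (h1 : u ∈ 𝐍(D))
    (hu : u * u = 1) (h3 : u ∈ 𝐂[t]) : D ⊓ 𝐂[t] ≤ 𝐂[u] := fun x hx => by
  have hn : 𝐂[t] ≤ 𝐍(zpowers t ⊔ L) :=
    H1.le_normalizer_sup ((U4.cent_zpowers t).ge.trans (cent_le_norm _)) h.norm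
  obtain ⟨n, e⟩ := IsPGroup.iff_card.1 hD
  have h4 : (Nat.card D).Coprime (Nat.card ↥(zpowers t ⊔ L)) := by
    refine e ▸ ((hk.out.coprime_iff_not_dvd.2 fun h5 => ?_).pow_left n)
    have := h5.trans (card_sup_dvd_mul (zpowers_le.2 (h.norm (U4.self_mem_cent1 t))))
    rw [card_zpowers_inv h.ord, hk.out.dvd_mul] at this
    exact this.elim (fun h6 => h2 ((Nat.prime_dvd_prime_iff_eq hk.out Nat.prime_two).1 h6)) hL
  exact mem_cent1.2 (commutatorElement_eq_one_iff_mul_comm.1 (eq_one_of_mem_inf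
    (inf_eq_bot_of_cop h4) (comm_mem_left hx.1 h1) (comm_mem_right (hn hx.2)
      (h.two_le (el_zpowers hu).isPGroup (zpowers_le.2 h3) (mem_zpowers u)))))

namespace Fr

variable (h : Fr t L q a b) {x f u : G}
include h

theorem sub_wjr {M : Subgroup G} (ht : t ∈ M) (hL : L ≤ M) (h1 : OneCl M) :
    WJR (⟨t, ht⟩ : M) (L.subgroupOf M) q := by
  have hS : SS t a b ≤ M := sup_le (zpowers_le.2 ht) (h.VL.trans hL)
  have h2 := (h.hel.sylow (h.maxE.mono hS le_top)).subgroupOf le_rfl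
  rw [subgroupOf_self] at h2
  have h3 : (SS t a b).subgroupOf M ≤ 𝐂[(⟨t, ht⟩ : M)] := cent1_mk ht ▸ comap_mono h.S_le
  have ho : orderOf (⟨t, ht⟩ : M) = 2 := (orderOf_mk _ _).trans h.ord
  obtain ⟨F, _, _, hq, ⟨e⟩⟩ := h.iso
  haveI := h.simple
  exact {
    ord := ho
    le := cent1_mk ht ▸ comap_mono h.le
    norm := fun x hx => mem_normalizer_of_conj_mem fun y hy => mem_subgroupOf.2
      (conj_mem_of_mem_normalizer (h.norm ((cent1_mk ht).le hx)) (mem_subgroupOf.1 hy))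
    cent := by
      ext x
      rw [mem_zpowers_inv ho, Subtype.ext_iff, Subtype.ext_iff]
      refine Iff.trans ?_ (mem_zpowers_inv h.ord)
      rw [← h.cent, mem_inf, mem_inf, cent1_mk, mem_subgroupOf, mem_cent, mem_cent]
      exact and_congr_right fun _ => ⟨fun h4 y hy => congrArg Subtype.val (h4 ⟨y, hL hy⟩ hy),
        fun h4 y hy => Subtype.ext (h4 y hy)⟩
    odd := relIndex_top_right 𝐂[(⟨t, ht⟩ : M)] ▸ odd_relIndex_of_sylow h2 h3 le_top le_top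
    odd' := odd_relIndex_of_sylow h2 (fun x hx => by
      rcases h.mem_or (sup_le_sup_left h.VL _ hx) with h4 | h4
      · exact mem_sup_right h4
      · exact (mul_mem_cancel_left (mem_sup_left (mem_zpowers _))).1 (mem_sup_right h4)) h3 le_top
    iso := ⟨F, _, _, hq, ⟨(subgroupOfEquivOfLe hL).trans e⟩⟩
    mod := h.mod
    five_le := h.five_le
    simple := (subgroupOfEquivOfLe hL).isSimpleGroup
    nonab := fun hc => h.nonab ⟨⟨fun x y => (subgroupOfEquivOfLe hL).symm.injective (by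
      rw [map_mul, map_mul, hc.is_comm.comm])⟩⟩
    one := h1.top }

theorem Od_top : Od (⊤ : Subgroup G) = ⊥ := by
  have : ∀ w : G, orderOf w = 2 → Od ⊤ ⊓ 𝐂[w] ≤ ⊥ := fun w hw =>
    let ⟨_, h'⟩ := h.exists_at hw
    (Od_inf_le le_top).trans h'.Od_eq.le
  exact le_bot_iff.1 (h.four.le_of_cent_le (odd_Od ⊤) (le_top.trans (le_norm_Od ⊤))
    (this a h.four.ot) (this b h.four.os) (this _ h.four.ots))

theorem exists_prime (hx : x ∈ h.F) (h1 : x ≠ 1) : ∃ f ∈ h.F, (orderOf f).Prime :=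
  let ⟨_, hp, h2⟩ := U4.exists_prime_dvd_orderOf h1
  let ⟨k, hk⟩ := J1.exists_pow_orderOf h2
  ⟨x ^ k, pow_mem hx k, hk ▸ hp⟩

theorem hyp_of_prime (hq : q.Prime) : JR.Hyp t L q := h.hyp fun x hx => by
  by_contra h1
  obtain ⟨f, hf, hk⟩ := h.exists_prime hx h1
  obtain ⟨r, e, -⟩ := h.sub f hf.1 hf.2 hk
  exact hk.one_lt.ne' (e ▸ hq).eq_one_of_pow

variable (hf : f ∈ h.F)
include hf

theorem S_le0 : SS t a b ≤ 𝐂[f] := (h.maxH hf).le

theorem t0 : t ∈ 𝐂[f] := h.S_le0 hf tS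

theorem V_le0 : V a b ≤ L ⊓ 𝐂[f] := le_inf h.VL (le_sup_right.trans (h.S_le0 hf))

theorem norm0 : 𝐂[f] ⊓ 𝐂[t] ≤ 𝐍(L ⊓ 𝐂[f]) :=
  H1.le_normalizer_inf (inf_le_right.trans h.norm) (inf_le_left.trans le_normalizer)

theorem Od_H (hO : Od (L ⊓ 𝐂[f]) = ⊥) (hc : ∀ x ∈ h.F, x ∈ 𝐂(L ⊓ 𝐂[f]) → x ∈ zpowers f) :
    Od 𝐂[f] = zpowers f := by
  have h1 : 𝐂[f] ≤ 𝐍(zpowers f) := (U4.cent_zpowers f).ge.trans (cent_le_norm _)
  have h2 : Od 𝐂[f] ⊓ 𝐂[t] ≤ zpowers f := fun y hy => by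
    have h3 := le_cent_of_norm_of_inf ((inf_le_inf_right _ (Od_le _)).trans (h.norm0 hf))
      (H1.le_normalizer_inf (inf_le_right.trans (le_norm_Od _))
        (inf_le_left.trans (h.le.trans le_normalizer)))
      (le_bot_iff.1 ((inf_le_inf_right _ inf_le_left).trans
        ((Od_inf_le inf_le_right).trans hO.le))) hy
    exact hc y ⟨cS hy.2 (centralizer_le (h.V_le0 hf) h3), odd_of_mem_Od hy.1⟩ h3
  have h3 : ∀ w ∈ V a b, orderOf w = 2 → Od 𝐂[f] ⊓ 𝐂[w] ≤ zpowers f := fun w hw h4 y hy => by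
    obtain ⟨n, hn, rfl⟩ := h.conj_t hf (h.V_le0 hf hw).2 h4
    have h5 := (mem_inf.1 hy).2
    rw [cent1_conj, mem_map_conj_iff] at h5
    simpa [mul_assoc] using conj_mem_of_mem_normalizer (h1 hn)
      (h2 ⟨conj_mem_of_mem_normalizer' (le_norm_Od _ hn) hy.1, h5⟩)
  exact le_antisymm (h.four.le_of_cent_le (odd_Od _) ((h.V_le0 hf).trans
    (inf_le_right.trans (le_norm_Od _))) (h3 a (t_mem_V a b) h.four.ot)
    (h3 b (s_mem_V a b) h.four.os) (h3 _ (mul_mem (t_mem_V a b) (s_mem_V a b)) h.four.ots))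
    (le_Od (U4.zpowers_le_cent1 f) h1 (by rw [Nat.card_zpowers]; exact hf.2))

theorem bar_syl : IsSylowIn 2 (im 𝐂[f] (SS t a b)) ⊤ := sylow_im (h.hel.sylow (h.maxH hf))

theorem bar_el : AllEl (Bar 𝐂[f]) := allEl_of_sylow (h.bar_syl hf) h.el.im

theorem bar_card : Nat.card (im 𝐂[f] (SS t a b)) = 8 := (card_im h.el (h.S_le0 hf)).trans h.card_S

theorem bar_t : br 𝐂[f] t ∈ im 𝐂[f] (SS t a b) := br_mem_im tS (h.t0 hf)

theorem bar_ord : orderOf (br 𝐂[f] t) = 2 := ord_br h.ord (h.t0 hf)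

theorem bar_cent : 𝐂[br 𝐂[f] t] = im 𝐂[f] (𝐂[f] ⊓ 𝐂[t]) :=
  cent1_br (mul_self_of_inv h.ord) (h.t0 hf)

variable (hO : Od 𝐂[f] = zpowers f)
include hO

theorem index_bar : (𝐂[br 𝐂[f] t]).index = (𝐂[t]).relIndex 𝐂[f] := by
  rw [← relIndex_pre, h.bar_cent hf, pre_im inf_le_left, hO, sup_eq_right.2
    (zpowers_le.2 (mem_inf.2 ⟨U4.self_mem_cent1 f, h.F_le hf⟩)), inf_relIndex_left]

theorem equiv0 : Nonempty (↥(L ⊓ 𝐂[f]) ≃* im 𝐂[f] (L ⊓ 𝐂[f])) :=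
  equiv_im inf_le_right (eq_bot_of_forall fun _ hx =>
    h.eq_one (zpowers_le.2 hf (hO.le hx.1)) (mem_sup_right hx.2.1))

theorem card_lt (hk : (orderOf f).Prime) : Nat.card (Bar 𝐂[f]) < Nat.card G := by
  have h1 := card_pre (X := 𝐂[f]) ⊤
  rw [hO, card_top, Nat.card_zpowers] at h1
  have := hk.one_lt
  have h2 : 0 < Nat.card (Bar 𝐂[f]) := Nat.card_pos
  have h3 := card_le_card_group (pre 𝐂[f] ⊤)
  nlinarith

theorem bar_wjr (hc : ∀ x ∈ h.F, x ∈ 𝐂(L ⊓ 𝐂[f]) → x ∈ zpowers f) {r : ℕ} (h5 : 5 ≤ r)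
    (h8 : r % 8 = 3 ∨ r % 8 = 5) (iso : ∃ (F : Type) (_ : Field F) (_ : Fintype F),
      Fintype.card F = r ∧ Nonempty (↥(L ⊓ 𝐂[f]) ≃* Matrix.ProjectiveSpecialLinearGroup (Fin 2) F))
    (hs : IsSimpleGroup ↥(L ⊓ 𝐂[f])) (hn : ¬ IsMulCommutative ↥(L ⊓ 𝐂[f])) :
    WJR (br 𝐂[f] t) (im 𝐂[f] (L ⊓ 𝐂[f])) r := by
  obtain ⟨e⟩ := h.equiv0 hf hO
  obtain ⟨F, _, _, hq, ⟨e'⟩⟩ := iso
  have h1 : im 𝐂[f] (SS t a b) ≤ 𝐂[br 𝐂[f] t] := h.el.im.le_cent1 (h.bar_t hf)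
  exact {
    ord := h.bar_ord hf
    le := h.bar_cent hf ▸ im_mono (le_inf inf_le_right (inf_le_left.trans h.le))
    norm := h.bar_cent hf ▸ im_norm (h.norm0 hf)
    cent := le_antisymm (fun y hy => by
      obtain ⟨x, h2, h3, rfl⟩ := mem_im.1 ((h.bar_cent hf).le hy.1)
      have h4 : zpowers x ≤ 𝐂(L ⊓ 𝐂[f]) := comm_eq_bot_iff.1 (eq_bot_of_forall fun z hz =>
        h.eq_one (zpowers_le.2 hf (hO.le ((im_le_cent (zpowers_le.2 h3) inf_le_right).1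
          (by rw [im_zpowers h3]; exact zpowers_le.2 hy.2) hz)))
          (mem_sup_right (comm_le_right (zpowers_le.2 (h.norm0 hf h2)) hz).1))
      obtain ⟨u, hu, v, hv, e⟩ := h.two_odd
        (cS h2.2 (centralizer_le (h.V_le0 hf) (h4 (mem_zpowers x))))
      have h6 : ∀ w ∈ L, w ∈ SS t a b → w ∈ 𝐂(L ⊓ 𝐂[f]) → w = 1 := fun w h6 h7 h9 =>
        eq_one_of_mem_inf (inf_cent_of_simple hs hn) ⟨h6, h.S_le0 hf h7⟩ h9
      rw [e, br_mul (h.S_le0 hf hu.1) (zpowers_le.2 h3 hv.2), (br_eq_one (zpowers_le.2 h3 hv.2)).2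
        (hO.ge (hc v hv.1 (h4 hv.2))), mul_one]
      rcases h.mem_or (sup_le_sup_left h.VL _ hu.1) with h7 | h7
      · rw [h6 u h7 hu.1 (h4 hu.2), br_one]; exact one_mem _
      · rw [eq_inv_of_mul_eq_one_right (h6 _ h7 (mul_mem tS hu.1) (mul_mem
          (le_cent1_iff.1 (inf_le_left.trans h.le)) (h4 hu.2))), inv_of_inv h.ord]
        exact mem_zpowers _)
      (zpowers_le.2 ⟨U4.self_mem_cent1 _, im_cent (zpowers_le.2
        (le_cent1_iff.1 (inf_le_left.trans h.le))) (br_mem_im (mem_zpowers t) (h.t0 hf))⟩)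
    odd := relIndex_top_right 𝐂[br 𝐂[f] t] ▸ odd_relIndex_of_sylow (h.bar_syl hf) h1 le_top le_top
    odd' := odd_relIndex_of_sylow (h.bar_syl hf) (by
      rw [← im_zpowers (h.t0 hf), ← im_sup (zpowers_le.2 (h.t0 hf)) inf_le_right]
      exact im_mono (sup_le_sup_left (h.V_le0 hf) _)) h1 le_top
    iso := ⟨F, _, _, hq, ⟨e.symm.trans e'⟩⟩
    mod := h8
    five_le := h5
    simple := e.symm.isSimpleGroup
    nonab := fun hc => hn ⟨⟨fun x y => e.injective (by rw [map_mul, map_mul, hc.is_comm.comm])⟩⟩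
    one := oneCl_bar (h.oneCl hf) }

theorem ll_bar (hp : _root_.commutator G = ⊤) (hF : ∀ x ∈ h.F, x ∈ zpowers f)
    (hL : ¬ orderOf f ∣ Nat.card L) {x c : Bar 𝐂[f]} (h1 : J1.PS (orderOf f) x) (h2 : c ∈ J1.NN x)
    (h3 : Odd (orderOf c)) (h4 : c ∉ J1.CC x) : False := by
  haveI := Fact.mk h1.prime
  have h5 : orderOf f ≠ 2 := fun e => absurd (e ▸ hf.2) (by norm_num)
  have h6 : Nat.card (pre 𝐂[f] (zpowers x)) = orderOf f ^ 2 := by
    rw [card_pre, h1.card_zp, hO, Nat.card_zpowers, pow_two]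
  have h7 : ¬ orderOf f ^ 2 ∣ Nat.card 𝐂[t] := fun e => by
    have h7 : 𝐂[t] ≤ zpowers f ⊔ (zpowers t ⊔ L) := fun y hy => by
      obtain ⟨r, hr, v, hv, rfl⟩ := h.dec hy
      exact mul_mem (mem_sup_right hr) (mem_sup_left (hF v hv))
    have := (e.trans (card_dvd_of_le h7)).trans
      ((card_sup_dvd_mul (zpowers_le.2 (h.normR (h.F_le hf)))).trans (mul_dvd_mul_left _
        (card_sup_dvd_mul (zpowers_le.2 (h.norm (U4.self_mem_cent1 t))))))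
    rw [Nat.card_zpowers, card_zpowers_inv h.ord, pow_two,
      Nat.mul_dvd_mul_iff_left h1.prime.pos, h1.prime.dvd_mul] at this
    exact this.elim (fun h6 => h5 ((Nat.prime_dvd_prime_iff_eq h1.prime Nat.prime_two).1 h6)) hL
  have hh : LLH (orderOf f) f (pre 𝐂[f] (zpowers x)) :=
    { ne2 := h5, ord := rfl, norm := h.norm_zp hf, card := h6
      syl := ⟨pre_le _, IsPGroup.of_card h6, fun e => h1.sq (by
        rw [relIndex_pre] at e
        rw [← (zpowers x).card_mul_index, h1.card_zp, pow_two]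
        exact mul_dvd_mul_left _ e)⟩
      loc := fun D hD hE h8 => by
        obtain ⟨u, hu, v, hv, h9⟩ := h.hel.exists_four h8
        have key : ∀ w, orderOf w = 2 → u ∈ 𝐂[w] → D ⊓ 𝐂[w] ≤ 𝐂[u] := fun w hw h10 => by
          obtain ⟨g, -, rfl⟩ := h.one t trivial w trivial h.ord hw
          exact inf_le_cent1 (h.cj g) h5 (by rwa [card_map_conj]) hD hu h9.tt h10
        have := h9.le_of_cent_le (odd_card_of_isPGroup h1.prime h5 hD) (le_norm_of_V hu hv)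
          inf_le_right (key v h9.os (mem_cent1.2 h9.comm)) (key _ h9.ots (mem_cent1.2 h9.mul.comm))
        obtain ⟨g, -, rfl⟩ := h.one t trivial u trivial h.ord h9.ot
        have h10 := h6 ▸ card_dvd_of_le (hE.trans this)
        rw [cent1_conj, card_map_conj] at h10
        exact h7 h10 }
  obtain ⟨c, hc, rfl⟩ := br_surj c
  refine hh.not_perfect hc (mem_norm_pre hc h2) ?_ (fun e => h4 ?_) hp
  · have h8 := odd_of_mem_Od ((br_eq_one (pow_mem hc _)).1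
      ((br_pow hc _).trans (pow_orderOf_eq_one _)))
    exact (h3.mul h8).of_dvd_nat (orderOf_dvd_of_pow_eq_one (by rw [pow_mul, pow_orderOf_eq_one]))
  · have := im_cent (X := 𝐂[f]) (zpowers_le.2 e) (br_mem_im (mem_zpowers c) hc)
    rwa [im_pre, J1.CC_eq] at this

theorem bar_dec (hF : ∀ x ∈ h.F, x ∈ zpowers f) :
    𝐂[br 𝐂[f] t] ≤ zpowers (br 𝐂[f] t) ⊔ im 𝐂[f] (L ⊓ 𝐂[f]) := by
  rw [h.bar_cent hf, ← im_zpowers (h.t0 hf), ← im_sup (zpowers_le.2 (h.t0 hf)) inf_le_right,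
    im_le_im inf_le_left (sup_le (zpowers_le.2 (h.t0 hf)) inf_le_right), hO]
  intro y hy
  obtain ⟨r, hr, v, hv, rfl⟩ := h.dec hy.2
  have h1 := (mul_mem_cancel_right (U4.zpowers_le_cent1 f (hF v hv))).1 hy.1
  refine mul_mem (mem_sup_right ?_) (mem_sup_left (hF v hv))
  rcases h.mem_or hr with h2 | h2
  · exact mem_sup_right ⟨h2, h1⟩
  · exact (mul_mem_cancel_left (mem_sup_left (mem_zpowers t))).1
      (mem_sup_right ⟨h2, mul_mem (h.t0 hf) h1⟩)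

omit hO in
theorem red (hp : _root_.commutator G = ⊤) (hk : (orderOf f).Prime) : ∃ r, r ^ orderOf f = q ∧
    Nat.card ↥(L ⊓ 𝐂[f]) = r * (r ^ 2 - 1) / 2 ∧ Od 𝐂[f] = zpowers f ∧
    (r = 3 ∧ Re3 (Bar 𝐂[f]) ∧ (𝐂[br 𝐂[f] t]).index = 63 ∨
      5 < r ∧ WJR (br 𝐂[f] t) (im 𝐂[f] (L ⊓ 𝐂[f])) r) := by
  obtain ⟨r, e, iso, hc⟩ := h.sub f hf.1 hf.2 hk
  have h8 := mod_of_pow e hf.2 h.mod
  have h0 := card_of_iso h8 iso
  have hL := card_of_iso h.mod h.iso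
  have hd := h.dvd_relIndex hf hp hk
  have hc' : ∀ x ∈ h.F, x ∈ 𝐂(L ⊓ 𝐂[f]) → x ∈ zpowers f := fun x hx h1 => hc x hx.1 hx.2 (Or.inl h1)
  obtain ⟨d, hd1, hd2⟩ := h.exists_d
  have hd3 : d ∈ L ⊓ 𝐂[f] := ⟨hd1.1, h.NS_le hf hd1.2⟩
  by_cases h3 : r = 3
  · subst h3
    have hF : ∀ x ∈ h.F, x ∈ zpowers f := fun x hx => hc x hx.1 hx.2 (Or.inr Nat.prime_three)
    have h1 : L ⊓ 𝐂[f] ≤ 𝐍(SS t a b) := by
      have h1 : V a b < L ⊓ 𝐂[f] ⊓ 𝐍(SS t a b) := lt_of_le_of_ne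
        (le_inf (h.V_le0 hf) (le_sup_right.trans le_normalizer)) fun e =>
          h.d_notMem hd2 (h.el.le_cent (mem_sup_right (e.ge ⟨hd3, hd1.2⟩)))
      refine inf_eq_left.1 (eq_of_le_of_card_ge inf_le_left ?_)
      have h2 := card_dvd_of_le h1.le
      have h3 : _ ≠ _ := fun e => h1.ne (eq_of_le_of_card_ge h1.le (Eq.ge e))
      have h4 := card_dvd_of_le (inf_le_left : L ⊓ 𝐂[f] ⊓ 𝐍(SS t a b) ≤ _)
      rw [h.four.card_V] at h2 h3
      rw [h0] at h4 ⊢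
      have := Nat.le_of_dvd (by norm_num) h4
      generalize Nat.card ↥(L ⊓ 𝐂[f] ⊓ 𝐍(SS t a b)) = i at *
      norm_num at *
      interval_cases i <;> omega
    have hO := h.Od_H hf (eq_bot_of_odd_of_two (odd_Od _) h.el.isPGroup (by
      have := le_cent_of_norm_of_inf ((Od_le _).trans h1) ((sup_le (zpowers_le.2
        (h.norm0 hf ⟨h.t0 hf, U4.self_mem_cent1 t⟩)) ((h.V_le0 hf).trans le_normalizer)).trans
        (norm_le_norm_Od _)) (eq_bot_of_odd_of_two (odd_card_of_le (odd_Od _) inf_le_left)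
          h.el.isPGroup inf_le_right)
      exact fun x hx => h.mem_S (mem_sup_right (Od_le _ hx).1) (cV' (this hx)))) hc'
    have h2 := h.bar_dec hf hO hF
    obtain ⟨e0⟩ := h.equiv0 hf hO
    have t1 := ne_one_of_inv (h.bar_ord hf)
    refine ⟨3, e, h0, hO, Or.inl ⟨rfl, sl2_of_cent (h.bar_el hf) (h.maxH hf).im (h.bar_card hf)
      (oneCl_bar (h.oneCl hf)) (Od_bar _) (fun hJ => ?_) (h.bar_t hf) t1
      (h2.trans (sup_le (zpowers_le.2 (le_normalizer (h.bar_t hf))) (im_norm h1)))⟩⟩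
    have h4 : im 𝐂[f] (SS t a b) = Jv ⊤ := le_antisymm (fun x hx => by
      by_cases e : x = 1
      · exact e ▸ one_mem _
      · exact mem_Jv trivial (h.el.im.ord hx e)) hJ
    have h5 : 𝐍(im 𝐂[f] (SS t a b)) = ⊤ := top_le_iff.1 (h4 ▸ le_norm_Jv ⊤)
    haveI := normalizer_eq_top_iff.1 h5
    have h7 := relIndex_seven (h.bar_el hf) (h.maxH hf).im (h.bar_card hf)
      (oneCl_bar (h.oneCl hf)) (h.bar_t hf) t1
    rw [h5, relIndex_top_right] at h7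
    have h9 : orderOf f = 7 :=
      (Nat.prime_dvd_prime_iff_eq hk (by norm_num)).1 (h7 ▸ h.index_bar hf hO ▸ hd)
    have h10 : Nat.card (im 𝐂[f] (L ⊓ 𝐂[f])) = 12 := (Nat.card_congr e0.toEquiv).symm.trans h0
    have h11 : im 𝐂[f] (L ⊓ 𝐂[f]) ≤ 𝐂[br 𝐂[f] t] :=
      h.bar_cent hf ▸ im_mono (le_inf inf_le_right (inf_le_left.trans h.le))
    obtain ⟨x, c, h12⟩ := agl8 h.el.im (h.bar_card hf) (by
      rw [cent_im h.el.isPGroup (h.S_le0 hf), im_le_im inf_le_left (h.S_le0 hf), hO]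
      intro y hy
      obtain ⟨u, hu, v, hv, rfl⟩ := h.two_odd hy.2
      exact mul_mem (mem_sup_right hu.1) (mem_sup_left (hF v hv.1))) (h.bar_t hf) t1 h7 (by
        have := (card_dvd_of_le h2).trans (card_sup_dvd_mul (zpowers_le.2
          (cent_le_norm _ (le_cent1_iff.1 h11))))
        rwa [card_zpowers_inv (h.bar_ord hf), h10] at this)
      ((Dvd.intro 4 h10.symm).trans (card_dvd_of_le h11))
    exact h.ll_bar hf hO hp hF (by rw [hL, ← e, h9]; norm_num) (h9 ▸ h12.1) h12.2.1 h12.2.2.1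
      h12.2.2.2
  have h5 : 5 ≤ r := by omega
  have hs : IsSimpleGroup ↥(L ⊓ 𝐂[f]) := by
    obtain ⟨F, _, _, hq, ⟨e'⟩⟩ := iso
    haveI := Matrix.ProjectiveSpecialLinearGroup.rank_two_simple (F := F)
      (by rw [Nat.card_eq_fintype_card]; omega)
    exact e'.isSimpleGroup
  have hn : ¬ IsMulCommutative ↥(L ⊓ 𝐂[f]) := fun hc => h.four.ne (by
    have : d * a = a * d := congrArg Subtype.val
      (hc.is_comm.comm (⟨d, hd3⟩ : ↥(L ⊓ 𝐂[f])) ⟨a, h.V_le0 hf (t_mem_V a b)⟩)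
    rw [← hd2, this, mul_inv_cancel_right])
  have hO := h.Od_H hf (Od_of_simple hs hn) hc'
  have hw := h.bar_wjr hf hO hc' h5 h8 iso hs hn
  refine ⟨r, e, h0, hO, Or.inr ⟨h5.lt_of_ne fun h6 => ?_, hw⟩⟩
  subst h6
  obtain ⟨a', b', h'⟩ := exists_fr hw
  have h6 := h'.hyp_of_prime Nat.prime_five
  haveI := h6.simple
  have h7 : Nat.card (Bar 𝐂[f]) = 175560 := by
    rcases h6.card with h7 | ⟨n, h7, h9, -⟩
    · exact h7.2
    · exact absurd (h9 ▸ dvd_pow_self 3 (by omega) : 3 ∣ 5) (by norm_num)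
  have h9 := J1.cm h7 (br 𝐂[f] t)
  rw [J1.card_CC_inv h7 ⟨mul_self_of_inv hw.ord, ne_one_of_inv hw.ord⟩] at h9
  obtain ⟨h10, x, c, h11⟩ := j1_data h7 hk
    ((show (𝐂[br 𝐂[f] t]).index = 1463 by change 120 * (𝐂[br 𝐂[f] t]).index = _ at h9; omega) ▸
      h.index_bar hf hO ▸ hd)
  exact h.ll_bar hf hO hp (fun x hx => hc x hx.1 hx.2 (Or.inr Nat.prime_five))
    (by rw [hL, ← e]; rcases h10 with h10 | h10 | h10 <;> rw [h10] <;> norm_num) h11.1 h11.2.1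
    h11.2.2.1 h11.2.2.2

end Fr

theorem exists_jv (h : WJR t L q) : IsSimpleGroup (Jv (⊤ : Subgroup G)) ∧
    ¬ IsMulCommutative (Jv (⊤ : Subgroup G)) ∧ ∃ (t' : Jv (⊤ : Subgroup G)) (L' : Subgroup _),
      WJR t' L' q ∧ (𝐂[t']).index = (𝐂[t]).index := by
  obtain ⟨a, b, h'⟩ := exists_fr h
  have hL : L ≤ Jv ⊤ := h.kt.1.Jv_eq.ge.trans (Jv_mono le_top)
  obtain ⟨h1, h2, h3⟩ := simple_Jv h'.hel h'.maxE h'.card_S h.one h'.Od_top fun e =>
    h.nonab (h'.el.mono (hL.trans e)).mulComm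
  exact ⟨h2, h3, _, _, h'.sub_wjr (mem_Jv (mem_top t) h.ord) hL h1, by
    rw [cent1_mk, index_eq_Jv h1 h.ord, relIndex]⟩

theorem real (h : WJR t L q) (h5 : q ≠ 5) : 3 ∣ q ∧ Re3 G := by
  induction hn : Nat.card G using Nat.strong_induction_on generalizing G q with
  | _ n ih =>
  obtain ⟨h1, h2, t', L', h3, -⟩ := exists_jv h
  by_cases hJ : Jv (⊤ : Subgroup G) = ⊤
  swap
  · exact (ih _ (hn ▸ card_lt_of_ne_top hJ) h3 h5 rfl).imp_right (·.map _ (subtype_injective _))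
  obtain ⟨a, b, h'⟩ := exists_fr h
  by_cases hF : ∀ x ∈ h'.F, x = 1
  · refine ⟨?_, re3_hyp (h'.hyp hF) h5⟩
    rcases (h'.hyp hF).card with h7 | ⟨n, h7, h9, -⟩
    · exact absurd h7.1 h5
    · exact h9 ▸ dvd_pow_self 3 (by omega)
  push Not at hF
  obtain ⟨x, hx, x1⟩ := hF
  obtain ⟨f, hf, hk⟩ := h'.exists_prime hx x1
  obtain ⟨r, e, -, hO, ⟨rfl, h6, -⟩ | ⟨h6, h7⟩⟩ := h'.red hf
    ((commutator_def G).trans (hJ ▸ perfect_of_simple h1 h2)) hk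
  · exact ⟨e ▸ dvd_pow_self 3 hk.pos.ne', h6.of_bar⟩
  · obtain ⟨h8, h9⟩ := ih _ (hn ▸ h'.card_lt hf hO hk) h7 h6.ne' rfl
    exact ⟨e ▸ dvd_pow h8 hk.pos.ne', h9.of_bar⟩

end CfsgLib.H5.JB
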