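import Cfsg.Agent.Lib.Wal.Basic

/-!
# The properties of the known simple groups with abelian Sylow `2`-subgroups
-/

set_option autoImplicit false

namespace CfsgLib.Wal

open Subgroup Cfsg CfsgLib.FT CfsgLib.FT.BGN CfsgLib.Cop CfsgLib.GW
open CfsgLib.H1 (AbTwo)
open CfsgLib.FT.U4 (mem_cent1 mem_cent1' mem_cent mem_cent1_comm cent1_conj
  eq_one_of_mem_inf eq_bot_of_forall conj_mem_conj_iff orderOf_conj)
open scoped commutatorElement

universe u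

variable {G : Type*} [Group G]

/-- Centralizers of involutions have no normal subgroup of odd order. -/
def TypeI (K : Subgroup G) : Prop := ∀ t ∈ K, orderOf t = 2 → Od (K ⊓ 𝐂[t]) = ⊥

/-- The behaviour of `SL₂(2 ^ n)`. -/
structure TI (K : Subgroup G) : Prop where
  el : ∀ t ∈ K, orderOf t = 2 → El (K ⊓ 𝐂[t])
  tr : ∀ t ∈ K, ∀ u ∈ K, ∀ v ∈ K, orderOf t = 2 → orderOf u = 2 → orderOf v = 2 → u ∉ 𝐂[t] →
    v ∉ 𝐂[t] → ∃ s ∈ K ⊓ 𝐂[t], s * u * s⁻¹ ∈ 𝐂[v]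

/-- No strongly embedded subgroup. -/
def NS (K : Subgroup G) : Prop := ∀ T, MaxE T K → ∀ M : Subgroup G, K ⊓ 𝐍(T) ≤ M →
  (∀ t ∈ T, t ≠ 1 → K ⊓ 𝐂[t] ≤ M) → K ≤ M

/-- Sylow `2`-subgroups are self-centralizing. -/
def SC (K : Subgroup G) : Prop := ∀ T, MaxE T K → K ⊓ 𝐂(T) ≤ T

/-- The derived group of the group generated by the involutions. -/
def dJ (M : Subgroup G) : Subgroup G := ⁅Jv M, Jv M⁆

/-- The properties of the known simple groups used in the local analysis. -/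
structure K0 (K : Subgroup G) : Prop where
  simple : IsSimpleGroup K
  nonab : ¬ IsMulCommutative K
  el : ∀ P ≤ K, IsPGroup 2 P → El P
  one : OneCl K
  four : 4 ∣ Nat.card K
  lemU : ∀ t ∈ K, orderOf t = 2 → ∀ p : ℕ, p.Prime → p ≠ 2 → ∀ W ≤ K, IsPGroup p W →
    K ⊓ 𝐂[t] ≤ 𝐍(W) → W ≤ 𝐂[t]
  typ : TypeI K ∨ ¬ 8 ∣ Nat.card K
  tins : TI K ∨ NS K

/-- The properties of the known simple groups used in the local analysis. -/
structure KT (K : Subgroup G) : Prop extends K0 K where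
  aut : SC K ∨ 8 ∣ Nat.card K ∧ ∀ t ∈ K, orderOf t = 2 → K0 (dJ (K ⊓ 𝐂[t])) ∧
    SC (dJ (K ⊓ 𝐂[t])) ∧ ∀ u ∈ K ⊓ 𝐂[t], orderOf u = 2 →
      u ∈ dJ (K ⊓ 𝐂[t]) ∨ t * u ∈ dJ (K ⊓ 𝐂[t])

section map
variable {Y : Type*} [Group Y] {f : G →* Y} (hf : Function.Injective f)
include hf

theorem map_inf_cent (K T : Subgroup G) : K.map f ⊓ 𝐂(T.map f) = (K ⊓ 𝐂(T)).map f := by
  ext y
  constructor
  · rintro ⟨⟨x, hx, rfl⟩, h⟩
    exact ⟨x, ⟨hx, mem_cent.2 fun z hz => hf (by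
      rw [map_mul, map_mul]; exact mem_cent.1 h _ ⟨z, hz, rfl⟩)⟩, rfl⟩
  · rintro ⟨x, hx, rfl⟩
    refine ⟨⟨x, hx.1, rfl⟩, mem_cent.2 ?_⟩
    rintro _ ⟨z, hz, rfl⟩
    rw [← map_mul, ← map_mul, mem_cent.1 hx.2 z hz]

theorem map_inf_cent1 (K : Subgroup G) (t : G) : K.map f ⊓ 𝐂[f t] = (K ⊓ 𝐂[t]).map f := by
  rw [← U4.cent_zpowers, ← MonoidHom.map_zpowers, map_inf_cent hf, U4.cent_zpowers]

theorem mem_norm_map {H : Subgroup G} {g : G} : f g ∈ 𝐍(H.map f) ↔ g ∈ 𝐍(H) := by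
  refine ⟨fun h => mem_normalizer_iff.2 fun x => ?_, fun h => le_normalizer_map f ⟨g, h, rfl⟩⟩
  have := mem_normalizer_iff.1 h (f x)
  rwa [← map_inv, ← map_mul, ← map_mul, mem_map_iff_mem hf, mem_map_iff_mem hf] at this

theorem map_inf_norm (K T : Subgroup G) : K.map f ⊓ 𝐍(T.map f) = (K ⊓ 𝐍(T)).map f := by
  ext y
  constructor
  · rintro ⟨⟨x, hx, rfl⟩, h⟩
    exact ⟨x, ⟨hx, (mem_norm_map hf).1 h⟩, rfl⟩
  · rintro ⟨x, hx, rfl⟩
    exact ⟨⟨x, hx.1, rfl⟩, (mem_norm_map hf).2 hx.2⟩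

omit hf in
theorem exists_eq_map {K : Subgroup G} {T : Subgroup Y} (h : T ≤ K.map f) :
    ∃ T' ≤ K, T = T'.map f :=
  ⟨T.comap f ⊓ K, inf_le_right, le_antisymm (fun y hy => by
    obtain ⟨x, hx, rfl⟩ := h hy
    exact ⟨x, ⟨hy, hx⟩, rfl⟩) (by rintro _ ⟨x, hx, rfl⟩; exact hx.1)⟩

theorem El.of_map {T : Subgroup G} (h : El (T.map f)) : El T := fun a ha =>
  hf (by rw [map_mul, map_one]; exact h _ ⟨a, ha, rfl⟩)

theorem MaxE.of_map {T K : Subgroup G} (h : MaxE (T.map f) (K.map f)) : MaxE T K :=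
  ⟨(map_le_map_iff_of_injective hf).1 h.le, h.el.of_map hf, fun u hu h1 h2 =>
    (mem_map_iff_mem hf).1 (h.mem _ ⟨u, hu, rfl⟩ (by rw [← map_mul, h1, map_one])
      ((map_inf_cent hf K T).ge ⟨u, ⟨hu, h2⟩, rfl⟩).2)⟩

theorem MaxE.map {T K : Subgroup G} (h : MaxE T K) : MaxE (T.map f) (K.map f) :=
  ⟨map_mono h.le, h.el.map f, fun y hy h1 h2 => by
    obtain ⟨u, hu, rfl⟩ := (map_inf_cent hf K T).le ⟨hy, h2⟩
    exact ⟨u, h.mem u hu.1 (hf (by rw [map_mul, map_one]; exact h1)) hu.2, rfl⟩⟩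

theorem Od_map [Finite G] [Finite Y] (K : Subgroup G) : Od (K.map f) = (Od K).map f := by
  refine le_antisymm ?_ (H1.map_piCoreOf_le K f)
  obtain ⟨T, hT, e⟩ := exists_eq_map (Od_le (K.map f))
  rw [e]
  refine map_mono (le_Od hT (fun x hx => (mem_norm_map hf).1 ?_) ?_)
  · rw [← e]; exact le_norm_Od _ ⟨x, hx, rfl⟩
  · rw [← card_map_of_injective hf, ← e]; exact odd_Od _

theorem TypeI.map [Finite G] [Finite Y] {K : Subgroup G} (h : TypeI K) : TypeI (K.map f) := by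
  rintro _ ⟨t, ht, rfl⟩ ho
  rw [map_inf_cent1 hf, Od_map hf, h t ht (by rwa [orderOf_injective f hf] at ho), Subgroup.map_bot]

theorem mem_cent1_map {x y : G} : f x ∈ 𝐂[f y] ↔ x ∈ 𝐂[y] := by
  rw [mem_cent1, mem_cent1, ← map_mul, ← map_mul, hf.eq_iff]

theorem TI.map {K : Subgroup G} (h : TI K) : TI (K.map f) where
  el := by
    rintro _ ⟨t, ht, rfl⟩ ho
    rw [map_inf_cent1 hf]
    exact (h.el t ht (by rwa [orderOf_injective f hf] at ho)).map f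
  tr := by
    rintro _ ⟨t, ht, rfl⟩ _ ⟨u, hu, rfl⟩ _ ⟨v, hv, rfl⟩ h1 h2 h3 h4 h5
    rw [orderOf_injective f hf] at h1 h2 h3
    rw [mem_cent1_map hf] at h4 h5
    obtain ⟨s, hs, e⟩ := h.tr t ht u hu v hv h1 h2 h3 h4 h5
    refine ⟨f s, ⟨⟨s, hs.1, rfl⟩, (mem_cent1_map hf).2 hs.2⟩, ?_⟩
    rw [← map_inv, ← map_mul, ← map_mul, mem_cent1_map hf]
    exact e

theorem NS.map {K : Subgroup G} (h : NS K) : NS (K.map f) := fun T hT M h1 h2 => by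
  obtain ⟨T, -, rfl⟩ := exists_eq_map hT.le
  rw [map_inf_norm hf, map_le_iff_le_comap] at h1
  refine map_le_iff_le_comap.2 (h T (hT.of_map hf) _ h1 fun t ht h0 => ?_)
  rw [← map_le_iff_le_comap, ← map_inf_cent1 hf]
  exact h2 _ ⟨t, ht, rfl⟩ fun e => h0 (hf (e.trans (map_one f).symm))

theorem K0.map [Finite G] [Finite Y] {K : Subgroup G} (h : K0 K) : K0 (K.map f) where
  simple := haveI := h.simple; (K.equivMapOfInjective f hf).symm.isSimpleGroup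
  nonab := fun hc => h.nonab ⟨⟨fun a b => (K.equivMapOfInjective f hf).injective (by
    rw [map_mul, map_mul, hc.is_comm.comm])⟩⟩
  el := fun P hP h2 => by
    obtain ⟨P, hP', rfl⟩ := exists_eq_map hP
    exact (h.el P hP' (h2.of_equiv (P.equivMapOfInjective f hf).symm)).map f
  one := by
    rintro _ ⟨u, hu, rfl⟩ _ ⟨v, hv, rfl⟩ h1 h2
    rw [orderOf_injective f hf] at h1 h2
    obtain ⟨g, hg, rfl⟩ := h.one u hu v hv h1 h2
    exact ⟨f g, ⟨g, hg, rfl⟩, by simp⟩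
  four := by rw [card_map_of_injective hf]; exact h.four
  lemU := by
    rintro _ ⟨t, ht, rfl⟩ ho p hp hp2 W hW hWp hn
    obtain ⟨W, hW', rfl⟩ := exists_eq_map hW
    rw [map_inf_cent1 hf] at hn
    rintro _ ⟨w, hw, rfl⟩
    exact (mem_cent1_map hf).2 (h.lemU t ht (by rwa [orderOf_injective f hf] at ho) p hp hp2 W hW'
      (hWp.of_equiv (W.equivMapOfInjective f hf).symm)
      (fun x hx => (mem_norm_map hf).1 (hn ⟨x, hx, rfl⟩)) hw)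
  typ := h.typ.imp (fun h => h.map hf) fun h => by rwa [card_map_of_injective hf]
  tins := h.tins.imp (fun h => h.map hf) fun h => h.map hf

theorem SC.map {K : Subgroup G} (h : SC K) : SC (K.map f) := fun T hT => by
  obtain ⟨T, -, rfl⟩ := exists_eq_map hT.le
  rw [map_inf_cent hf]
  exact map_mono (h T (hT.of_map hf))

theorem Jv_map (M : Subgroup G) : Jv (M.map f) = (Jv M).map f := by
  rw [Jv, Jv, MonoidHom.map_closure]
  congr 1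
  ext y
  constructor
  · rintro ⟨⟨x, hx, rfl⟩, h⟩
    exact ⟨x, ⟨hx, by rwa [orderOf_injective f hf] at h⟩, rfl⟩
  · rintro ⟨x, hx, rfl⟩
    exact ⟨⟨x, hx.1, rfl⟩, (orderOf_injective f hf x).trans hx.2⟩

theorem dJ_map (M : Subgroup G) : dJ (M.map f) = (dJ M).map f := by
  rw [dJ, dJ, Jv_map hf, map_commutator]

theorem KT.map [Finite G] [Finite Y] {K : Subgroup G} (h : KT K) : KT (K.map f) :=
  ⟨h.toK0.map hf, h.aut.imp (fun h => h.map hf) fun h => ⟨by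
    rw [card_map_of_injective hf]; exact h.1, by
    rintro _ ⟨t, ht, rfl⟩ ho
    rw [orderOf_injective f hf] at ho
    obtain ⟨h1, h2, h3⟩ := h.2 t ht ho
    rw [map_inf_cent1 hf, dJ_map hf]
    refine ⟨h1.map hf, h2.map hf, ?_⟩
    rintro _ ⟨u, hu, rfl⟩ hu2
    rw [orderOf_injective f hf] at hu2
    rw [← map_mul, mem_map_iff_mem hf, mem_map_iff_mem hf]
    exact h3 u hu hu2⟩⟩

end map

theorem Jv_cj (g : G) (M : Subgroup G) : Jv (g •ᶜ M) = g •ᶜ Jv M :=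
  Jv_map (MulAut.conj g).injective M

theorem norm_le_norm_Jv (M : Subgroup G) : 𝐍(M) ≤ 𝐍(Jv M) :=
  norm_le_norm_of_forall fun g h => by rw [← Jv_cj, h]

theorem norm_le_norm_dJ (M : Subgroup G) : 𝐍(M) ≤ 𝐍(dJ M) :=
  (norm_le_norm_Jv M).trans (norm_le_norm_der _)

theorem dJ_le (M : Subgroup G) : dJ M ≤ M := (der_le _).trans (Jv_le M)

theorem Jv_mono {M N : Subgroup G} (h : M ≤ N) : Jv M ≤ Jv N :=
  Jv_le_of fun _ hu h2 => mem_Jv (h hu) h2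

theorem eq_bot_or_eq_of_simple {K N : Subgroup G} (h : IsSimpleGroup K) (h1 : N ≤ K)
    (h2 : K ≤ 𝐍(N)) : N = ⊥ ∨ N = K := by
  rcases (normal_subgroupOf_of_le h2).eq_bot_or_eq_top with h | h
  · exact Or.inl (by rwa [subgroupOf_eq_bot, disjoint_iff, inf_eq_left.2 h1] at h)
  · exact Or.inr (h1.antisymm (subgroupOf_eq_top.1 h))

theorem not_le_cent_of_nonab {K : Subgroup G} (h : ¬ IsMulCommutative K) : ¬ K ≤ 𝐂(K) :=
  fun h' => h ⟨⟨fun a b => Subtype.ext (mem_cent.1 (h' b.2) a a.2)⟩⟩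

theorem inf_cent_of_simple {K : Subgroup G} (h : IsSimpleGroup K) (hn : ¬ IsMulCommutative K) :
    K ⊓ 𝐂(K) = ⊥ :=
  (eq_bot_or_eq_of_simple h inf_le_left (H1.le_normalizer_inf le_normalizer
    (H1.le_normalizer_centralizer le_normalizer))).resolve_right
    fun e => not_le_cent_of_nonab hn (e.ge.trans inf_le_right)

theorem perfect_of_simple {K : Subgroup G} (h : IsSimpleGroup K) (hn : ¬ IsMulCommutative K) :
    ⁅K, K⁆ = K :=
  (eq_bot_or_eq_of_simple h (der_le K) (le_norm_der K)).resolve_left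
    fun e => not_le_cent_of_nonab hn (comm_eq_bot_iff.1 e)

theorem not_solv_of_simple {K : Subgroup G} (h : IsSimpleGroup K) (hn : ¬ IsMulCommutative K) :
    ¬ Group.IsSolvable K := fun hs =>
  hn ⟨⟨IsSimpleGroup.comm_iff_isSolvable.2 hs⟩⟩

theorem Od_of_simple [Finite G] {K : Subgroup G} (h : IsSimpleGroup K)
    (hn : ¬ IsMulCommutative K) : Od K = ⊥ :=
  (eq_bot_or_eq_of_simple h (Od_le K) (le_norm_Od K)).resolve_right
    fun e => not_solv_of_simple h hn (e ▸ solvable_Od K)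

theorem comm_mem_left {K : Subgroup G} {x y : G} (hx : x ∈ K) (hy : y ∈ 𝐍(K)) : ⁅x, y⁆ ∈ K := by
  rw [commutatorElement_def, mul_assoc x, mul_assoc x]
  exact mul_mem hx (conj_mem_of_mem_normalizer hy (inv_mem hx))

theorem comm_mem_right {K : Subgroup G} {x y : G} (hx : x ∈ 𝐍(K)) (hy : y ∈ K) : ⁅x, y⁆ ∈ K :=
  mul_mem (conj_mem_of_mem_normalizer hx hy) (inv_mem hy)

theorem mem_cent1_of_sq [Finite G] {u k : G} (ho : Odd (orderOf u)) (h : k ∈ 𝐂[u * u]) :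
    k ∈ 𝐂[u] := U4.cent1_le_cent1 (mem_zpowers_sq ho) h

variable [Finite G] {K T : Subgroup G}

namespace K0

variable (h : K0 K)
include h

omit [Finite G] in
theorem normal {N : Subgroup G} (h1 : N ≤ K) (h2 : K ≤ 𝐍(N)) : N = ⊥ ∨ N = K :=
  eq_bot_or_eq_of_simple h.simple h1 h2

omit [Finite G] in
theorem inf_cent : K ⊓ 𝐂(K) = ⊥ := inf_cent_of_simple h.simple h.nonab

omit [Finite G] in
theorem perfect : ⁅K, K⁆ = K := perfect_of_simple h.simple h.nonab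

omit [Finite G] in
theorem not_solv : ¬ Group.IsSolvable K := not_solv_of_simple h.simple h.nonab

theorem Od_eq : Od K = ⊥ := Od_of_simple h.simple h.nonab

theorem sylow (hT : MaxE T K) : IsSylowIn 2 T K :=
  IsSylowIn.of_maximal hT.le hT.el.isPGroup fun P hP h1 h2 =>
    hT.le_of_cent (h.el P h2 hP) h2 ((h.el P h2 hP).le_cent' le_rfl h1)

theorem four_dvd (hT : MaxE T K) : 4 ∣ Nat.card T := by
  have h1 := card_mul_relIndex (h.sylow hT).le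
  have h2 : (4 : ℕ).Coprime (T.relIndex K) :=
    (Nat.coprime_two_left.2 (Nat.not_even_iff_odd.1 fun e =>
      (h.sylow hT).not_dvd (even_iff_two_dvd.1 e))).pow_left 2
  exact h2.dvd_of_dvd_mul_right (h1 ▸ h.four)

theorem four_le (hT : MaxE T K) : 4 ≤ Nat.card T := Nat.le_of_dvd Nat.card_pos (h.four_dvd hT)

theorem ne_bot (hT : MaxE T K) : T ≠ ⊥ := fun e => by
  have := h.four_le hT
  rw [e, card_bot] at this
  omega

theorem Jv_eq : Jv K = K := by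
  obtain ⟨T, -, hT⟩ := exists_maxE (B := ⊥) (X := K) (fun a ha => by simp [mem_bot.1 ha]) bot_le
  obtain ⟨t, ht, h1⟩ := exists_mem_ne_one (h.ne_bot hT)
  exact (h.normal (Jv_le K) (le_norm_Jv K)).resolve_left
    (ne_bot_of_mem (mem_Jv (hT.le ht) (hT.el.ord ht h1)) h1)

theorem abTwo : AbTwo K := fun Q hQ => ⟨⟨fun a b => Subtype.ext (Subtype.ext
  ((h.el _ (map_subtype_le Q) (hQ.map K.subtype)).comm ⟨a, a.2, rfl⟩ ⟨b, b.2, rfl⟩))⟩⟩

/-- Fusion inside `K`. -/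
theorem trans (hT : MaxE T K) {u v : G} (hu : u ∈ T) (hv : v ∈ T) (hu1 : u ≠ 1) (hv1 : v ≠ 1) :
    ∃ n ∈ K ⊓ 𝐍(T), n * u * n⁻¹ = v := by
  obtain ⟨g, hg, rfl⟩ := h.one u (hT.le hu) v (hT.le hv) (hT.el.ord hu hu1) (hT.el.ord hv hv1)
  have h1 : IsSylowIn 2 T (K ⊓ 𝐂[g * u * g⁻¹]) :=
    (h.sylow hT).mono (le_inf hT.le (hT.el.le_cent1 hv)) inf_le_left
  have h2 := (h.sylow hT).map_conj_of_mem_normalizer (le_normalizer hg)
  obtain ⟨c, hc, e⟩ := h1.exists_conj_eq (h2.mono (le_inf h2.le (by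
    rw [cent1_conj]; exact map_mono (hT.el.le_cent1 hu))) inf_le_left)
  refine ⟨c * g, ⟨mul_mem hc.1 hg, mem_normalizer_of_map_conj_eq (by rw [← cj_cj, e])⟩, ?_⟩
  calc c * g * u * (c * g)⁻¹ = c * (g * u * g⁻¹) * c⁻¹ := by group
    _ = g * u * g⁻¹ := by rw [mem_cent1.1 hc.2]; group

theorem norm_le_cent1 (hs : SC K) (hT : MaxE T K) {u : G} (ho : Odd (orderOf u)) (hn : u ∈ 𝐍(K))
    (hc : u ∈ 𝐂(T)) : K ⊓ 𝐍(T) ≤ 𝐂[u] := fun n hn' => by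
  obtain ⟨t, ht, c, hc', rfl⟩ := exists_mul_centralizer_of_commutator_mem (A := zpowers u) (N := T)
    (zpowers_le.2 (cent_le_norm T hc)) (hT.el.coprime (by rwa [Nat.card_zpowers])).symm
    (Or.inr hT.el.solv) (g := n) fun a ha => hs T hT ⟨comm_mem_left hn'.1
      (zpowers_le.2 hn ha), comm_mem_right (U4.norm_le_norm_cent T hn'.2) (zpowers_le.2 hc ha)⟩
  rw [U4.cent_zpowers] at hc'
  exact mul_mem (mem_cent1.2 (mem_cent.1 hc t ht)) hc'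

omit h in
theorem _root_.CfsgLib.Wal.TI.inf_cent1 (h' : TI K) (hT : MaxE T K) {t : G} (ht : t ∈ T)
    (h1 : t ≠ 1) : K ⊓ 𝐂[t] = T := by
  have := h'.el t (hT.le ht) (hT.el.ord ht h1)
  have h2 : T ≤ K ⊓ 𝐂[t] := le_inf hT.le (hT.el.le_cent1 ht)
  exact (hT.le_of_cent this inf_le_left (this.le_cent' le_rfl h2)).antisymm h2

omit h in
theorem _root_.CfsgLib.Wal.TI.cent1_eq (h' : TI K) {u v : G} (hu : u ∈ K) (hv : v ∈ K)
    (h1 : orderOf u = 2) (h2 : orderOf v = 2) (h3 : u ∈ 𝐂[v]) : K ⊓ 𝐂[u] = K ⊓ 𝐂[v] :=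
  le_antisymm (le_inf inf_le_left ((h'.el u hu h1).le_cent1 ⟨hv, mem_cent1_comm.1 h3⟩))
    (le_inf inf_le_left ((h'.el v hv h2).le_cent1 ⟨hu, h3⟩))

omit h in
theorem _root_.CfsgLib.Wal.TI.typeI (h' : TI K) : TypeI K := fun t ht h1 =>
  eq_bot_of_forall fun x hx => eq_one_of_odd_of_mul_self (odd_of_mem_Od hx)
    (h'.el t ht h1 x (Od_le _ hx))

omit [Finite G] h in
theorem _root_.CfsgLib.Wal.cj_inf_cent1 {g : G} (hg : g ∈ 𝐍(K)) (w : G) :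
    g •ᶜ (K ⊓ 𝐂[w]) = K ⊓ 𝐂[g * w * g⁻¹] := by
  rw [map_conj_inf, map_conj_eq_of_mem_normalizer hg, cent1_conj]

theorem le_cent1_of_TI (h' : TI K) {t u : G} (ht : t ∈ K) (h2 : orderOf t = 2)
    (ho : Odd (orderOf u)) (hn : u ∈ 𝐍(K)) (hc : K ⊓ 𝐂[t] ≤ 𝐂[u]) : K ≤ 𝐂[u] := by
  have hcj : ∀ g ∈ 𝐍(K), ∀ w, g •ᶜ (K ⊓ 𝐂[w]) = K ⊓ 𝐂[g * w * g⁻¹] := fun g hg w =>
    cj_inf_cent1 hg w
  obtain ⟨w, hw, hw2, hwt⟩ : ∃ w ∈ K, orderOf w = 2 ∧ w ∉ 𝐂[t] := by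
    by_contra! hcon
    have := (h.Jv_eq.ge.trans (Jv_le_of hcon))
    exact ne_one_of_inv h2 (eq_one_of_mem_inf h.inf_cent ht
      (mem_cent.2 fun k hk => mem_cent1.1 (this hk)))
  have hut : u * t * u⁻¹ = t := by
    rw [← mem_cent1.1 (hc ⟨ht, U4.self_mem_cent1 t⟩), mul_inv_cancel_right]
  obtain ⟨s, hs, e⟩ := h'.tr t ht w hw (u * w * u⁻¹) (conj_mem_of_mem_normalizer hn hw) h2 hw2
    (by rw [orderOf_conj, hw2]) hwt (by rwa [← hut, cent1_conj, conj_mem_conj_iff])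
  have hsu := mem_cent1.1 (hc hs)
  have hb : s⁻¹ * u ∈ 𝐍(K) := mul_mem (inv_mem (le_normalizer hs.1)) hn
  have hbc : ∀ x ∈ K ⊓ 𝐂[t], s⁻¹ * u * x = x * (s⁻¹ * u) := fun x hx => by
    rw [mul_assoc, ← mem_cent1.1 (hc hx), ← mul_assoc, ← mul_assoc,
      (h'.el t ht h2).comm (inv_mem hs) hx]
  have h3 : s⁻¹ * u ∈ 𝐍(K ⊓ 𝐂[w]) := mem_normalizer_of_map_conj_eq (by
    rw [← cj_cj, hcj u hn, ← h'.cent1_eq (conj_mem_of_mem_normalizer (le_normalizer hs.1) hw)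
      (conj_mem_of_mem_normalizer hn hw) (by rw [orderOf_conj, hw2]) (by rw [orderOf_conj, hw2])
      e, ← hcj s (le_normalizer hs.1), map_conj_inv_map_conj])
  have h4 : ∀ v ∈ K, orderOf v = 2 → s⁻¹ * u ∈ 𝐍(K ⊓ 𝐂[v]) := fun v hv hv2 => by
    by_cases hvt : v ∈ 𝐂[t]
    · rw [h'.cent1_eq hv ht hv2 h2 hvt]
      exact cent_le_norm _ (mem_cent.2 fun x hx => (hbc x hx).symm)
    obtain ⟨r, hr, e'⟩ := h'.tr t ht w hw v hv h2 hw2 hv2 hwt hvt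
    rw [← h'.cent1_eq (conj_mem_of_mem_normalizer (le_normalizer hr.1) hw) hv
      (by rw [orderOf_conj, hw2]) hv2 e', ← hcj r (le_normalizer hr.1), normalizer_map_conj,
      mem_map_conj_iff, mul_assoc, hbc r hr, inv_mul_cancel_left]
    exact h3
  let N : Subgroup G := K ⊓ ⨅ v : {v // v ∈ K ∧ orderOf v = 2}, 𝐍(K ⊓ 𝐂[v.1])
  have hN : ∀ g ∈ 𝐍(K), ∀ x, (∀ v ∈ K, orderOf v = 2 → x ∈ 𝐍(K ⊓ 𝐂[v])) →
      ∀ v ∈ K, orderOf v = 2 → g * x * g⁻¹ ∈ 𝐍(K ⊓ 𝐂[v]) := fun g hg x hx v hv hv2 => by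
    have := hx (g⁻¹ * v * g⁻¹⁻¹) (conj_mem_of_mem_normalizer (inv_mem hg) hv)
      (by rw [orderOf_conj, hv2])
    rwa [← hcj _ (inv_mem hg), normalizer_map_conj, mem_map_conj_iff, inv_inv] at this
  have hN1 : N = ⊥ := (h.normal (N := N) inf_le_left fun g hg =>
      mem_normalizer_of_conj_mem fun x hx => ⟨conj_mem_of_mem_normalizer (le_normalizer hg) hx.1,
        mem_iInf.2 fun v => hN g (le_normalizer hg) x
          (fun v hv hv2 => mem_iInf.1 hx.2 ⟨v, hv, hv2⟩) v v.2.1 v.2.2⟩).resolve_right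
    fun e => by
      have h5 : K ≤ 𝐍(K ⊓ 𝐂[t]) := e.ge.trans (inf_le_right.trans (iInf_le
        (fun v : {v // v ∈ K ∧ orderOf v = 2} => 𝐍(K ⊓ 𝐂[v.1])) ⟨t, ht, h2⟩))
      rcases h.normal inf_le_left h5 with h6 | h6
      · exact ne_bot_of_mem (X := K ⊓ 𝐂[t]) ⟨ht, U4.self_mem_cent1 t⟩ (ne_one_of_inv h2) h6
      · exact hwt (h6.ge hw).2
  have h5 : K ≤ 𝐂[s⁻¹ * u] := fun k hk => by
    have : ⁅k, s⁻¹ * u⁆ ∈ N := ⟨comm_mem_left hk hb, mem_iInf.2 fun v =>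
      mul_mem (hN k (le_normalizer hk) _ h4 v v.2.1 v.2.2) (inv_mem (h4 v v.2.1 v.2.2))⟩
    rw [hN1, mem_bot, commutatorElement_eq_one_iff_mul_comm] at this
    exact mem_cent1.2 this
  intro k hk
  refine mem_cent1_of_sq ho ?_
  have h6 : u * u = (s⁻¹ * u) * (s⁻¹ * u) := by
    rw [(h'.el t ht h2).inv hs, mul_assoc, ← mul_assoc u s, ← hsu, ← mul_assoc, ← mul_assoc,
      h'.el t ht h2 s hs, one_mul]
  rw [h6]
  exact U4.cent1_le_cent1 (mul_mem (mem_zpowers _) (mem_zpowers _)) (h5 hk)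

theorem le_cent1_of_SC (hs : SC K) {t u : G} (ht : t ∈ K) (h2 : orderOf t = 2)
    (ho : Odd (orderOf u)) (hn : u ∈ 𝐍(K)) (hc : K ⊓ 𝐂[t] ≤ 𝐂[u]) : K ≤ 𝐂[u] := by
  refine h.tins.elim (fun h' => h.le_cent1_of_TI h' ht h2 ho hn hc) fun h' => ?_
  obtain ⟨T, htT, hT⟩ := exists_maxE (el_zpowers (mul_self_of_inv h2)) (zpowers_le.2 ht)
  have htT' := htT (mem_zpowers t)
  have h3 := h.norm_le_cent1 hs hT ho hn (mem_cent.2 fun x hx =>
    mem_cent1.1 (hc ⟨hT.le hx, hT.el.le_cent1 htT' hx⟩))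
  refine h' T hT _ h3 fun v hv h1 => ?_
  obtain ⟨n, hn', rfl⟩ := h.trans hT htT' hv (ne_one_of_inv h2) h1
  rw [← cj_inf_cent1 (le_normalizer hn'.1)]
  exact cj_le_of_norm hc (le_normalizer (h3 hn'))

/-- Generation by the involutions commuting with an involution of `T`. -/
theorem gen (h' : NS K) (hT : MaxE T K) {M : Subgroup G}
    (hM : ∀ t ∈ T, t ≠ 1 → ∀ u ∈ K, orderOf u = 2 → u ∈ 𝐂[t] → u ∈ M) : K ≤ M := by
  let N := closure {u | u ∈ K ∧ orderOf u = 2 ∧ ∃ t ∈ T, t ≠ 1 ∧ u ∈ 𝐂[t]}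
  have hNK : N ≤ K := (closure_le _).2 fun u hu => hu.1
  have h1 : K ⊓ 𝐍(T) ≤ 𝐍(N) := fun g hg => mem_normalizer_of_conj_mem fun x hx => by
    have : N ≤ N.comap (MulAut.conj g).toMonoidHom := (closure_le _).2 (by
      rintro u ⟨hu, hu2, t, ht, ht1, hut⟩
      exact subset_closure ⟨conj_mem_of_mem_normalizer (le_normalizer hg.1) hu,
        (orderOf_conj g u).trans hu2, g * t * g⁻¹, conj_mem_of_mem_normalizer hg.2 ht,
        U4.conj_ne_one_iff.2 ht1, by rw [cent1_conj]; exact conj_mem_map_conj hut⟩)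
    exact this hx
  have h2 : K ≤ 𝐍(N) := h' T hT _ h1 fun t ht h0 g hg => by
    have h3 : T ≤ Jv (K ⊓ 𝐂[t]) := fun x hx => by
      by_cases e : x = 1
      · rw [e]; exact one_mem _
      · exact mem_Jv ⟨hT.le hx, hT.el.le_cent1 ht hx⟩ (hT.el.ord hx e)
    obtain ⟨k, hk, h4⟩ := ((h.sylow hT).mono h3 ((Jv_le _).trans inf_le_left)).frattini_elem
      (le_norm_Jv _ hg)
    have h5 : k ∈ N := Jv_le_of (M := K ⊓ 𝐂[t]) (K := N)
      (fun u hu hu2 => Subgroup.subset_closure ⟨hu.1, hu2, t, ht, h0, hu.2⟩) hk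
    have := mul_mem (inv_mem (le_normalizer h5)) (h1 ⟨mul_mem (hNK h5) hg.1, h4⟩)
    rwa [inv_mul_cancel_left] at this
  obtain ⟨t, ht, h0⟩ := exists_mem_ne_one (h.ne_bot hT)
  rw [← (h.normal hNK h2).resolve_left (ne_bot_of_mem (X := N) (subset_closure
    ⟨hT.le ht, hT.el.ord ht h0, t, ht, h0, U4.self_mem_cent1 t⟩) h0)]
  exact (closure_le _).2 fun u hu => by
    obtain ⟨hu, hu2, t, ht, ht1, hut⟩ := hu
    exact hM t ht ht1 u hu hu2 hut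

theorem card_eq_four (h' : ¬ TypeI K) (hT : MaxE T K) : Nat.card T = 4 := by
  obtain ⟨k, hk⟩ := hT.el.isPGroup.exists_card_eq
  have h1 := h.four_le hT
  have h2 : ¬ 8 ∣ Nat.card T := fun e =>
    h.typ.resolve_left h' (e.trans (card_dvd_of_le hT.le))
  rw [hk] at h1 h2 ⊢
  rcases k with _ | _ | _ | k
  · omega
  · omega
  · rfl
  · exact absurd (Dvd.intro_left (2 ^ k) (by ring)) h2

theorem ns (h' : ¬ TypeI K) : NS K := h.tins.resolve_left fun h1 => h' h1.typeI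

end K0

namespace KT

variable (h : KT K)
include h

/-- An automorphism of odd order centralizing the centralizer of an involution is trivial. -/
theorem le_cent1 {t u : G} (ht : t ∈ K) (h2 : orderOf t = 2)
    (ho : Odd (orderOf u)) (hn : u ∈ 𝐍(K)) (hc : K ⊓ 𝐂[t] ≤ 𝐂[u]) : K ≤ 𝐂[u] := by
  refine h.aut.elim (fun h' => h.le_cent1_of_SC h' ht h2 ho hn hc) fun h' => ?_
  refine h.tins.elim (fun h' => h.le_cent1_of_TI h' ht h2 ho hn hc) fun hns => ?_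
  obtain ⟨T, htT, hT⟩ := exists_maxE (el_zpowers (mul_self_of_inv h2)) (zpowers_le.2 ht)
  have htT' := htT (mem_zpowers t)
  refine h.gen hns hT fun v hv h1 w hw _ hwv => ?_
  by_cases e : v = t
  · exact hc ⟨hw, e ▸ hwv⟩
  have hv2 := hT.el.ord hv h1
  obtain ⟨h3, h4, h5⟩ := h'.2 v (hT.le hv) hv2
  have hle := dJ_le (K ⊓ 𝐂[v])
  have htv := hT.el.comm htT' hv
  obtain ⟨s, hs, hs2, h6⟩ : ∃ s ∈ dJ (K ⊓ 𝐂[v]), orderOf s = 2 ∧ 𝐂[v] ⊓ 𝐂[s] ≤ 𝐂[t] := by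
    rcases h5 t ⟨ht, mem_cent1.2 htv⟩ h2 with h6 | h6
    · exact ⟨t, h6, h2, inf_le_right⟩
    · refine ⟨v * t, h6, hT.el.ord (mul_mem hv htT') fun e' => e ?_, fun x hx => ?_⟩
      · rw [eq_inv_of_mul_eq_one_left e', inv_of_inv h2]
      · have := mul_mem (inv_mem (mem_cent1_comm.1 hx.1)) (mem_cent1_comm.1 hx.2)
        rw [inv_mul_cancel_left] at this
        exact mem_cent1_comm.1 this
  have h7 : u ∈ 𝐍(K ⊓ 𝐂[v]) := mem_normalizer_of_map_conj_eq (by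
    rw [cj_inf_cent1 hn, ← mem_cent1.1 (hc ⟨hT.le hv, mem_cent1.2 htv.symm⟩),
      mul_inv_cancel_right])
  have h8 := h3.le_cent1_of_SC h4 hs hs2 ho (norm_le_norm_dJ _ h7)
    fun x hx => hc ⟨(hle hx.1).1, h6 ⟨(hle hx.1).2, hx.2⟩⟩
  obtain ⟨g, hg, e'⟩ := h3.one _ (conj_mem_of_mem_normalizer
    (norm_le_norm_dJ _ (le_normalizer (⟨hw, hwv⟩ : w ∈ K ⊓ 𝐂[v]))) hs) s hs
    (by rw [orderOf_conj, hs2]) hs2
  have := mul_mem (inv_mem (h8 hg)) (hc (x := g * w) ⟨mul_mem (hle hg).1 hw,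
    h6 ⟨mul_mem (hle hg).2 hwv, U4.mem_cent1_of_conj_eq (Eq.trans (by group) e')⟩⟩)
  rwa [inv_mul_cancel_left] at this

theorem le_cent {t : G} (ht : t ∈ K) (h2 : orderOf t = 2) {W : Subgroup G}
    (ho : Odd (Nat.card W)) (hn : W ≤ 𝐍(K)) (hc : W ≤ 𝐂(K ⊓ 𝐂[t])) : W ≤ 𝐂(K) := fun w hw =>
  mem_cent.2 fun k hk => mem_cent1.1 (h.le_cent1 ht h2 (odd_orderOf_of_mem ho hw) (hn hw)
    (fun x hx => mem_cent1.2 (mem_cent.1 (hc hw) x hx)) hk)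

theorem le_cent_of_TI (h' : TI K) (hT : MaxE T K) {W : Subgroup G} (ho : Odd (Nat.card W))
    (hn : W ≤ 𝐍(K)) (hc : W ≤ 𝐂(T)) : W ≤ 𝐂(K) := by
  obtain ⟨t, ht, h1⟩ := exists_mem_ne_one (h.ne_bot hT)
  exact h.le_cent (hT.le ht) (hT.el.ord ht h1) ho hn (by rwa [h'.inf_cent1 hT ht h1])

theorem le_cent_of_cent (h8 : ¬ 8 ∣ Nat.card K) (hT : MaxE T K) {t : G} (ht : t ∈ T) (h1 : t ≠ 1) {W : Subgroup G}
    (ho : Odd (Nat.card W)) (hn : W ≤ 𝐍(K)) (hc : W ≤ 𝐂(T)) (hn' : K ⊓ 𝐂[t] ≤ 𝐍(W)) :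
    W ≤ 𝐂(K) := by
  refine h.le_cent (hT.le ht) (hT.el.ord ht h1) ho hn (comm_eq_bot_iff.1 (eq_bot_of_forall
    fun x hx => ?_))
  have h2 : x ∈ W := U4.comm_le_left hn' hx
  have h3 : x ∈ K := ((commutator_mono le_rfl inf_le_left).trans (comm_le_right hn)) hx
  exact eq_one_of_odd_of_mul_self (odd_orderOf_of_mem ho h2)
    (hT.el x ((h.aut.resolve_right fun e => h8 e.1) T hT ⟨h3, hc h2⟩))

theorem le_cent_of_typeI (h' : TypeI K) {t : G} (ht : t ∈ K) (h2 : orderOf t = 2) {p : ℕ}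
    (hp : p.Prime) (hp2 : p ≠ 2) {W : Subgroup G} (hW : IsPGroup p W) (hn : W ≤ 𝐍(K))
    (hn' : K ⊓ 𝐂[t] ≤ 𝐍(W)) : W ≤ 𝐂(K) := by
  have ho := odd_card_of_isPGroup hp hp2 hW
  have h3 : K ⊓ 𝐂[t] ≤ 𝐍(W ⊓ K) := H1.le_normalizer_inf hn' (inf_le_left.trans le_normalizer)
  have h4 := le_Od (le_inf inf_le_right (h.lemU t ht h2 p hp hp2 _ inf_le_right hW.to_inf_left h3))
    h3 (odd_card_of_le ho inf_le_left)
  rw [h' t ht h2] at h4
  refine h.le_cent ht h2 ho hn (comm_eq_bot_iff.1 (le_bot_iff.1 (le_trans ?_ h4)))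
  exact le_inf (U4.comm_le_left hn') ((commutator_mono le_rfl inf_le_left).trans (comm_le_right hn))

end KT

end CfsgLib.Wal
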