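import Cfsg.Agent.Lib.Wal.Comp
import Cfsg.Agent.Lib.Wal.Box
import Cfsg.Agent.Lib.H1SL2
import Cfsg.Agent.Lib.SL2Card
import Cfsg.Agent.Lib.BSW.SL2SN

/-!
# The known simple groups with abelian Sylow `2`-subgroups have the properties `KT`
-/

set_option autoImplicit false

namespace CfsgLib.Wal

open Subgroup Cfsg CfsgLib.FT CfsgLib.FT.BGN CfsgLib.Cop CfsgLib.GW
open CfsgLib.H1 (AbTwo)
open CfsgLib.FT.U4 (mem_cent1 mem_cent1' mem_cent mem_cent1_comm cent1_conj
  eq_one_of_mem_inf eq_bot_of_forall conj_mem_conj_iff orderOf_conj)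
open scoped commutatorElement MatrixGroups

universe u

section general
variable {G : Type*} [Group G] [Finite G]

theorem se_of (hab : AbTwo G) {A M : Subgroup G} (hA : MaxE A ⊤) (h0 : A ≠ ⊥) (hM : M ≠ ⊤)
    (hN : 𝐍(A) ≤ M) (hC : ∀ x ∈ A, x ≠ 1 → 𝐂[x] ≤ M) : IsStronglyEmbedded M := by
  have hAM : A ≤ M := le_normalizer.trans hN
  obtain ⟨a, ha, h1⟩ := exists_mem_ne_one h0
  refine ⟨hM, even_iff_two_dvd.2 (hA.el.ord ha h1 ▸ orderOf_dvd_natCard' (hAM ha)),
    fun g hg => odd_card_of_forall fun u hu h2 => hg ?_⟩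
  obtain ⟨hu1, v, hv, rfl⟩ := hu
  have e : (MulAut.conj g).toMonoidHom v = g * v * g⁻¹ := rfl
  rw [e] at hu1 h2
  obtain ⟨m, hm, h3⟩ := (hA.mono hAM le_top).exists_conj_mem hab hu1 (mul_self_of_inv h2)
  obtain ⟨k, hk, h4⟩ := (hA.mono hAM le_top).exists_conj_mem hab hv
    (mul_self_of_inv ((orderOf_conj g v).symm.trans h2))
  obtain ⟨n, hn, h5⟩ := hA.fusion hab h4 (mem_top (m * g * k⁻¹)) (by convert h3 using 1; group)
  have h6 : n⁻¹ * (m * g * k⁻¹) ∈ M :=
    hC _ h4 (U4.conj_ne_one_iff.2 (ne_one_of_inv ((orderOf_conj g v).symm.trans h2)))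
      (U4.mem_cent1_of_conj_eq (by
        rw [mul_inv_rev, inv_inv, mul_assoc n⁻¹, mul_assoc n⁻¹, ← mul_assoc _ _ n, ← h5]; group))
  have := mul_mem (mul_mem (inv_mem hm) (mul_mem (hN hn.2) h6)) hk
  simpa [mul_assoc] using this
where orderOf_dvd_natCard' {M : Subgroup G} {a : G} (h : a ∈ M) : orderOf a ∣ Nat.card M :=
  Subgroup.orderOf_dvd_natCard M h

theorem TI.sc {K : Subgroup G} (h : TI K) (h0 : K0 K) : SC K := fun T hT => by
  obtain ⟨t, ht, h1⟩ := exists_mem_ne_one (h0.ne_bot hT)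
  exact (inf_le_inf_left K (cent_le_cent1 ht)).trans (h.inf_cent1 hT ht h1).le

theorem simple_top [h : IsSimpleGroup G] : IsSimpleGroup (⊤ : Subgroup G) :=
  topEquiv.isSimpleGroup

omit [Finite G] in
theorem nonab_top (h : ¬ IsMulCommutative G) : ¬ IsMulCommutative (⊤ : Subgroup G) := fun hc =>
  h ⟨⟨fun a b => congrArg Subtype.val (hc.is_comm.comm ⟨a, trivial⟩ ⟨b, trivial⟩)⟩⟩

theorem KT.of_equiv {Y : Type*} [Group Y] [Finite Y] (h : KT (⊤ : Subgroup Y)) (e : G ≃* Y) :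
    KT (⊤ : Subgroup G) := by
  have := h.map (f := e.symm.toMonoidHom) e.symm.injective
  rwa [map_top_of_surjective _ e.symm.surjective] at this

theorem KT.of_top {K : Subgroup G} (h : KT (⊤ : Subgroup K)) : KT K := by
  have := h.map K.subtype_injective
  rwa [← MonoidHom.range_eq_map, range_subtype] at this

end general

section SL2
open H1
variable {F : Type*} [Field F] [Finite F] [CharP F 2]

omit [Finite F] in
theorem sl2_sq {g : SL(2, F)} (h : g 0 0 + g 1 1 = 2) : g * g = 1 := by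
  rw [← pow_two]; exact SL2_pow_char_eq_one h

omit [Finite F] in
theorem sl2_trace {g : SL(2, F)} (h : g * g = 1) : g 0 0 + g 1 1 = 2 :=
  SL2_trace_of_pow (p := 2) (k := 1) (by rwa [pow_one, pow_two])

theorem sl2_conj {u : SL(2, F)} (hu : orderOf u = 2) : ∃ g : SL(2, F), g * upT 1 * g⁻¹ = u := by
  have h2 : (2 : F) = 0 := CharP.cast_eq_zero F 2
  have ht := sl2_trace (mul_self_of_inv hu)
  have hd := SL2_det u
  have hs : ∀ a : F, ∃ x, x * x = a := fun a => by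
    obtain ⟨x, hx⟩ := (FiniteField.isSquare_of_char_two (ringChar.eq F 2) a)
    exact ⟨x, hx.symm⟩
  obtain ⟨x, hx⟩ := hs (u 0 1)
  obtain ⟨z, hz⟩ := hs (u 1 0)
  have h11 : u 1 1 = u 0 0 := by linear_combination ht + (1 - u 0 0) * h2
  have h00 : u 0 0 = 1 + x * z := by
    have : (u 0 0 - (1 + x * z)) ^ 2 = 0 := by
      rw [h11, ← hx, ← hz] at hd
      linear_combination hd + (1 - u 0 0 - u 0 0 * x * z + x * z + x * x * z * z) * h2
    exact sub_eq_zero.1 (pow_eq_zero_iff two_ne_zero |>.1 this)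
  obtain ⟨y, w, hyw⟩ : ∃ y w, x * w - y * z = 1 := by
    by_cases e : x = 0
    · have : z ≠ 0 := fun e' => ne_one_of_inv hu (SL2_ext (by simp [h00, e]) (by simp [← hx, e])
        (by simp [← hz, e']) (by simp [h11, h00, e]))
      exact ⟨-z⁻¹, 0, by field_simp; ring⟩
    · exact ⟨0, x⁻¹, by field_simp; ring⟩
  obtain ⟨g, g0, g1, g2, g3⟩ : ∃ g : SL(2, F), g 0 0 = x ∧ g 0 1 = y ∧ g 1 0 = z ∧ g 1 1 = w :=
    ⟨⟨!![x, y; z, w], by rw [Matrix.det_fin_two_of]; exact hyw⟩, rfl, rfl, rfl, rfl⟩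
  refine ⟨g, mul_inv_eq_iff_eq_mul.2 ?_⟩
  refine SL2_ext ?_ ?_ ?_ ?_ <;>
    simp only [SL2_mul_apply, upT_00, upT_01, upT_10, upT_11, h11, h00, ← hx, ← hz, g0, g1, g2, g3]
  · linear_combination (-(x * x * z)) * h2
  · linear_combination (-x) * hyw - x * y * z * h2
  · linear_combination (-(x * z * z)) * h2
  · linear_combination (-z) * hyw - y * z * z * h2

omit [Finite F] in
theorem sl2_el {t : SL(2, F)} (ht : orderOf t = 2) : El 𝐂[t] := fun x hx => by
  have h2 : (2 : F) = 0 := CharP.cast_eq_zero F 2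
  have := SL2_trace_sq_of_commute (sl2_trace (mul_self_of_inv ht)) (ne_one_of_inv ht)
    (mem_cent1'.1 hx)
  refine sl2_sq ?_
  rw [h2]
  exact pow_eq_zero_iff two_ne_zero |>.1 (by rw [this]; linear_combination 2 * h2)

theorem sl2_ti : TI (⊤ : Subgroup SL(2, F)) where
  el := fun t _ ht => (sl2_el ht).mono inf_le_right
  tr := by
    have h2 : (2 : F) = 0 := CharP.cast_eq_zero F 2
    have h0 : ∀ u : SL(2, F), orderOf u = 2 → u ∉ 𝐂[upT (1 : F)] → u 1 0 ≠ 0 ∧ u 1 1 = u 0 0 :=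
      fun u hu h => by
        have ht := sl2_trace (mul_self_of_inv hu)
        have h11 : u 1 1 = u 0 0 := by linear_combination ht + (1 - u 0 0) * h2
        refine ⟨fun e => h (mem_cent1.2 ?_), h11⟩
        refine SL2_ext ?_ ?_ ?_ ?_ <;>
          simp [SL2_mul_apply, upT_00, upT_01, upT_10, upT_11, h11, e, add_comm]
    have key : ∀ u v : SL(2, F), orderOf u = 2 → orderOf v = 2 → u ∉ 𝐂[upT (1 : F)] →
        v ∉ 𝐂[upT (1 : F)] → ∃ s ∈ 𝐂[upT (1 : F)], s * u * s⁻¹ ∈ 𝐂[v] := fun u v hu hv h3 h4 => by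
      obtain ⟨h5, h6⟩ := h0 u hu h3
      obtain ⟨h7, h8⟩ := h0 v hv h4
      have d1 := SL2_det u
      have d2 := SL2_det v
      rw [h6] at d1
      rw [h8] at d2
      obtain ⟨s, hs⟩ : ∃ s, s * u 1 0 * v 1 0 = (v 0 0 + 1) * u 1 0 - (u 0 0 + 1) * v 1 0 :=
        ⟨((v 0 0 + 1) * u 1 0 - (u 0 0 + 1) * v 1 0) / (u 1 0 * v 1 0), by field_simp⟩
      refine ⟨upT s, mem_cent1.2 ?_, mem_cent1.2 ?_⟩
      · refine SL2_ext ?_ ?_ ?_ ?_ <;>
          simp [SL2_mul_apply, upT_00, upT_01, upT_10, upT_11, add_comm]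
      · have e : (u 0 1 - s * s * u 1 0) * v 1 0 = v 0 1 * u 1 0 := by
          apply mul_left_cancel₀ (mul_ne_zero h5 h7)
          linear_combination (-(v 1 0) ^ 2) * d1 + (u 1 0) ^ 2 * d2 -
            (s * u 1 0 * v 1 0 + (v 0 0 + 1) * u 1 0 - (u 0 0 + 1) * v 1 0) * hs +
            (-(v 1 0) ^ 2 - (v 0 0) ^ 2 * (u 1 0) ^ 2 - v 0 0 * (u 1 0) ^ 2 +
              (v 0 0 + 1) * (u 0 0 + 1) * u 1 0 * v 1 0 - u 0 0 * (v 1 0) ^ 2) * h2
        refine SL2_ext ?_ ?_ ?_ ?_ <;>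
          simp only [SL2_mul_apply, SL2_inv_00, SL2_inv_01, SL2_inv_10, SL2_inv_11, upT_00, upT_01,
            upT_10, upT_11, h6, h8]
        · linear_combination e
        · linear_combination (s * u 1 0 * v 0 1) * h2
        · linear_combination (-s * u 1 0 * v 1 0) * h2
        · linear_combination -e
    intro t _ u _ v _ ht hu hv h3 h4
    obtain ⟨g, rfl⟩ := sl2_conj ht
    rw [cent1_conj, mem_map_conj_iff] at h3 h4
    obtain ⟨s, hs, h5⟩ := key _ _ ((H5.orderOf_conj'' g u).trans hu)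
      ((H5.orderOf_conj'' g v).trans hv) h3 h4
    refine ⟨g * s * g⁻¹, ⟨trivial, by rw [cent1_conj]; exact conj_mem_map_conj hs⟩, ?_⟩
    have := conj_mem_map_conj (g := g) h5
    rw [← cent1_conj] at this
    have e1 : g * (s * (g⁻¹ * u * g) * s⁻¹) * g⁻¹ = g * s * g⁻¹ * u * (g * s * g⁻¹)⁻¹ := by group
    have e2 : g * (g⁻¹ * v * g) * g⁻¹ = v := by group
    rwa [e1, e2] at this

theorem sl2_kt [IsSimpleGroup SL(2, F)] (hna : ¬ IsMulCommutative SL(2, F))
    (h4 : 4 ∣ Nat.card F) : KT (⊤ : Subgroup SL(2, F)) := by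
  have h0 : K0 (⊤ : Subgroup SL(2, F)) :=
    { simple := simple_top
      nonab := nonab_top hna
      el := fun P _ hP x hx => by
        obtain ⟨k, hk⟩ := hP ⟨x, hx⟩
        exact sl2_sq (SL2_trace_of_pow (congrArg Subtype.val hk))
      one := fun u _ v _ hu hv => by
        obtain ⟨g, rfl⟩ := sl2_conj hu
        obtain ⟨k, rfl⟩ := sl2_conj hv
        exact ⟨k * g⁻¹, trivial, by group⟩
      four := by rw [card_top, SL2C.card_SL2]; exact h4.mul_right _
      lemU := fun t _ ht p hp hp2 W _ hW hn => by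
        have h1 := BSW.SL2.card_centralizer (ne_one_of_inv ht)
          ((sl2_trace (mul_self_of_inv ht)).trans (CharP.cast_eq_zero F 2))
        obtain ⟨s, hs, h2⟩ : ∃ s ∈ 𝐂[t], s ∉ zpowers t := SetLike.not_le_iff_exists.1 fun h => by
          have := Nat.le_of_dvd Nat.card_pos (h4.trans (h1 ▸ card_dvd_of_le h))
          rw [card_zpowers_inv ht] at this
          omega
        rw [mem_zpowers_inv ht, not_or] at h2
        have h3 : Four t s := (sl2_el ht).four (U4.self_mem_cent1 t) hs (ne_one_of_inv ht) h2.1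
          (Ne.symm h2.2)
        have ho := odd_card_of_isPGroup hp hp2 hW
        have h5 : ∀ x : SL(2, F), orderOf x = 2 → W ⊓ 𝐂[x] ≤ 𝐂[t] := fun x hx y hy => by
          rw [eq_one_of_odd_of_mul_self (odd_orderOf_of_mem ho hy.1) (sl2_el hx y hy.2)]
          exact one_mem _
        exact h3.le_of_cent_le ho ((le_inf le_top h3.V_le_cent1).trans hn) inf_le_right
          (h5 s h3.os) (h5 _ h3.ots)
      typ := Or.inl sl2_ti.typeI
      tins := Or.inl sl2_ti }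
  exact ⟨h0, Or.inl (sl2_ti.sc h0)⟩

end SL2

variable {G : Type u} [Group G] [Finite G]

theorem kt_of_sl2 [IsSimpleGroup G] (hna : ¬ IsMulCommutative G) {n : ℕ} (hn : 2 ≤ n)
    (e : G ≃* SL(2, GaloisField 2 n)) : KT (⊤ : Subgroup G) ∧ TI (⊤ : Subgroup G) := by
  haveI := e.symm.isSimpleGroup
  refine ⟨(sl2_kt (fun hc => hna ⟨⟨fun a b => e.injective (by
    rw [map_mul, map_mul, hc.is_comm.comm])⟩⟩) ?_).of_equiv e, ?_⟩
  · rw [GaloisField.card 2 n (by omega)]
    exact pow_dvd_pow 2 hn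
  · have := (sl2_ti (F := GaloisField 2 n)).map (f := e.symm.toMonoidHom) e.symm.injective
    rwa [map_top_of_surjective _ e.symm.surjective] at this

theorem maxE_ne_bot [IsSimpleGroup G] (hna : ¬ IsMulCommutative G) {A : Subgroup G}
    (hA : MaxE A ⊤) : A ≠ ⊥ := fun e => by
  obtain ⟨t, -, ht⟩ := exists_inv_of_not_odd (H := (⊤ : Subgroup G)) fun ho =>
    not_solv_of_simple simple_top (nonab_top hna) (solvable_of_odd ho)
  have := hA.mem t trivial (mul_self_of_inv ht) (by rw [e, cent_bot]; trivial)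
  rw [e] at this
  exact ne_one_of_inv ht this

theorem tins_top [IsSimpleGroup G] (hna : ¬ IsMulCommutative G) (hab : AbTwo G) :
    TI (⊤ : Subgroup G) ∨ NS (⊤ : Subgroup G) := by
  refine or_iff_not_imp_right.2 fun h => ?_
  unfold NS at h
  push Not at h
  obtain ⟨T, hT, M, h1, h2, h3⟩ := h
  obtain ⟨n, hn, ⟨e⟩⟩ := sl2_of_stronglyEmbedded hna hab (se_of hab hT (maxE_ne_bot hna hT)
    (fun e => h3 e.ge) (by simpa using h1) fun x hx h0 => by simpa using h2 x hx h0)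
  exact (kt_of_sl2 hna hn e).2

theorem kt_of_psl [IsSimpleGroup G] (hna : ¬ IsMulCommutative G) {F : Type} [Field F] [Fintype F]
    (h8 : Fintype.card F % 8 = 3 ∨ Fintype.card F % 8 = 5)
    (e : G ≃* Matrix.ProjectiveSpecialLinearGroup (Fin 2) F) :
    KT (⊤ : Subgroup G) ∧ SC (⊤ : Subgroup G) := by
  have hE : E4 G := (psl_E4 h8).of_injective e.toMonoidHom e.injective
  have hP : PslIn (⊤ : Subgroup G) := by
    have := (pslIn_PSL2 F h8).map e.symm.toMonoidHom e.symm.injective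
    rwa [map_top_of_surjective _ e.symm.surjective] at this
  obtain ⟨h4, h1⟩ := (nilp2_or_oneCl hE ⊤).resolve_left fun h =>
    not_solv_of_simple simple_top (nonab_top hna) (h.solvable hE)
  have h0 : K0 (⊤ : Subgroup G) :=
    { simple := simple_top
      nonab := nonab_top hna
      el := fun P _ hP x hx => hE.mul_self_of_mem hP hx
      one := h1
      four := h4
      lemU := fun t _ ht p hp hp2 W _ hW hn => by
        obtain ⟨s, -, h⟩ := exists_four hE ht (mem_top t) h4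
        exact hP.le_cent h1 h trivial trivial hp hp2 hW le_top hn
      typ := Or.inr (hE.not8_sub _)
      tins := tins_top hna hE.abTwo }
  have hs : SC (⊤ : Subgroup G) := fun T hT x hx => by
    obtain ⟨a, ha, b, hb, h⟩ := exists_four' hE (h0.four_dvd hT)
    obtain ⟨z, hz, v, hv, rfl⟩ := h.exists_mul_B hE (centralizer_le (V_le ha hb) hx.2)
    by_cases e : z = 1
    · rw [e, one_mul]; exact V_le ha hb hv
    · exact absurd (hP.eq_of_cent h trivial trivial trivial e (odd_of_mem_Ut hz.1)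
        (mem_cent1.1 (Ut_le a hz.1)) trivial h.os (mem_cent1_comm.1 hz.2)) h.ne.symm
  exact ⟨⟨h0, Or.inl hs⟩, hs⟩

/-- The centralizer of the involution `t` is of Janko–Ree type, up to automorphisms of odd order. -/
structure WJR (t : G) (L : Subgroup G) (q : ℕ) : Prop where
  ord : orderOf t = 2
  le : L ≤ 𝐂[t]
  norm : 𝐂[t] ≤ 𝐍(L)
  cent : 𝐂[t] ⊓ 𝐂(L) = zpowers t
  odd : Odd (𝐂[t]).index
  odd' : Odd ((zpowers t ⊔ L).relIndex 𝐂[t])
  iso : ∃ (F : Type) (_ : Field F) (_ : Fintype F), Fintype.card F = q ∧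
    Nonempty (L ≃* Matrix.ProjectiveSpecialLinearGroup (Fin 2) F)
  mod : q % 8 = 3 ∨ q % 8 = 5
  five_le : 5 ≤ q
  simple : IsSimpleGroup L
  nonab : ¬ IsMulCommutative L
  one : OneCl (⊤ : Subgroup G)

namespace WJR

variable {t : G} {L : Subgroup G} {q : ℕ} (h : WJR t L q)
include h

theorem kt : KT L ∧ SC L := by
  obtain ⟨F, _, _, hq, ⟨e⟩⟩ := h.iso
  haveI := h.simple
  obtain ⟨h1, h2⟩ := kt_of_psl h.nonab (hq ▸ h.mod) e
  refine ⟨h1.of_top, ?_⟩
  have := h2.map L.subtype_injective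
  rwa [← MonoidHom.range_eq_map, range_subtype] at this

omit [Finite G] in
theorem cj (g : G) : WJR (g * t * g⁻¹) (g •ᶜ L) q where
  ord := (orderOf_conj g t).trans h.ord
  le := by rw [cent1_conj]; exact map_mono h.le
  norm := by rw [cent1_conj]; exact le_norm_cj h.norm
  cent := by rw [cent1_conj, centralizer_map_conj, ← map_conj_inf, h.cent, cj_zpowers]
  odd := by rw [cent1_conj]; exact (index_map_equiv _ (MulAut.conj g)).symm ▸ h.odd
  odd' := by rw [cent1_conj, ← cj_zpowers, ← cj_sup, relIndex_cj]; exact h.odd'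
  iso := by
    obtain ⟨F, _, _, hq, ⟨e⟩⟩ := h.iso
    exact ⟨F, _, _, hq, ⟨(L.equivMapOfInjective _ (MulAut.conj g).injective).symm.trans e⟩⟩
  mod := h.mod
  five_le := h.five_le
  simple := haveI := h.simple
    (L.equivMapOfInjective _ (MulAut.conj g).injective).symm.isSimpleGroup
  nonab := fun hc => h.nonab ⟨⟨fun a b => (L.equivMapOfInjective (MulAut.conj g).toMonoidHom
    (MulAut.conj g).injective).injective (by rw [map_mul, map_mul, hc.is_comm.comm])⟩⟩
  one := h.one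

omit [Finite G] in
theorem exists_at {u : G} (hu : orderOf u = 2) : ∃ L, WJR u L q := by
  obtain ⟨g, -, rfl⟩ := h.one t trivial u trivial h.ord hu
  exact ⟨_, h.cj g⟩

theorem two_le {P : Subgroup G} (hP : IsPGroup 2 P) (h1 : P ≤ 𝐂[t]) : P ≤ zpowers t ⊔ L :=
  le_of_isPi_of_relIndex (π := {2}) h1 (H1.le_normalizer_sup
    ((cent_zpowers t).ge.trans (cent_le_norm _)) h.norm) (isPi_of_isPGroup hP rfl)
    fun p hp hd e => by
      rw [Set.mem_singleton_iff.1 e] at hd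
      exact Nat.not_even_iff_odd.2 h.odd' (even_iff_two_dvd.2 hd)

omit [Finite G] in
theorem mem_or {x : G} (hx : x ∈ zpowers t ⊔ L) : x ∈ L ∨ t * x ∈ L := by
  rw [sup_comm] at hx
  obtain ⟨l, hl, z, hz, rfl⟩ := mem_sup_norm
    (zpowers_le.2 (h.norm (U4.self_mem_cent1 t))) hx
  rcases (mem_zpowers_inv h.ord).1 hz with rfl | rfl
  · exact Or.inl (by rwa [mul_one])
  · exact Or.inr (by rwa [mem_cent1.1 (h.le hl), ← mul_assoc, mul_self_of_inv h.ord, one_mul])

theorem el_cent {P : Subgroup G} (hP : IsPGroup 2 P) (h1 : P ≤ 𝐂[t]) : El P := fun x hx => by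
  have h2 : IsPGroup 2 ↥(P ⊔ zpowers t) := isPGroup_sup'
    (zpowers_le.2 (cent_le_norm P (le_cent1_iff.1 h1))) hP (isPGroup_zpowers_inv h.ord)
  have h3 := h.kt.1.el _ inf_le_right (h2.to_inf_left (K := L))
  rcases h.mem_or (h.two_le hP h1 hx) with h4 | h4
  · exact h3 x ⟨mem_sup_left hx, h4⟩
  · have := h3 _ ⟨mul_mem (mem_sup_right (mem_zpowers t)) (mem_sup_left hx), h4⟩
    rwa [mul_assoc, ← mul_assoc x, mem_cent1.1 (h1 hx), ← mul_assoc, ← mul_assoc,
      mul_self_of_inv h.ord, one_mul] at this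

theorem dJ_eq : dJ (⊤ ⊓ 𝐂[t]) = L := by
  rw [top_inf_eq]
  refine le_antisymm ?_ (h.kt.1.perfect.ge.trans (commutator_mono
    (h.kt.1.Jv_eq.ge.trans (Jv_mono h.le)) (h.kt.1.Jv_eq.ge.trans (Jv_mono h.le))))
  have : Jv 𝐂[t] ≤ L ⊔ zpowers t := Jv_le_of fun u hu h2 => by
    rw [sup_comm]
    exact h.two_le (isPGroup_zpowers_inv h2) (zpowers_le.2 hu) (mem_zpowers u)
  refine (commutator_mono this this).trans ((der_sup_le
    (zpowers_le.2 (h.norm (U4.self_mem_cent1 t)))).trans (sup_le le_rfl ?_))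
  rw [comm_eq_bot_iff.2 (el_zpowers (mul_self_of_inv h.ord)).le_cent]
  exact bot_le

theorem notMem : t ∉ L := fun e =>
  ne_one_of_inv h.ord (eq_one_of_mem_inf h.kt.1.inf_cent e (le_cent1_iff.1 h.le))

theorem eight_dvd : 8 ∣ Nat.card G := by
  have := U4.IsComplIn.card_mul (U4.isComplIn_of_sup
    (zpowers_le.2 (h.norm (U4.self_mem_cent1 t)))
    (eq_bot_of_forall fun x hx => ((mem_zpowers_inv h.ord).1 hx.2).resolve_right
      fun e => h.notMem (e ▸ hx.1)) rfl)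
  rw [card_zpowers_inv h.ord] at this
  exact (mul_dvd_mul_right h.kt.1.four 2).trans (this ▸ card_subgroup_dvd_card _)

theorem Od_eq : Od 𝐂[t] = ⊥ := by
  have h1 : Od 𝐂[t] ≤ 𝐂(L) := le_cent_of_norm_of_inf ((Od_le _).trans h.norm)
    (h.le.trans (le_norm_Od _)) (le_bot_iff.1 ((Od_inf_le h.le).trans h.kt.1.Od_eq.le))
  exact eq_bot_of_odd_of_two (odd_Od _) (isPGroup_zpowers_inv h.ord)
    ((le_inf (Od_le _) h1).trans h.cent.le)

theorem le_cent1 {s : G} (hs : orderOf s = 2) (hst : s ∈ 𝐂[t]) {p : ℕ} (hp : p.Prime)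
    (hp2 : p ≠ 2) {W : Subgroup G} (hW : IsPGroup p W) (h1 : W ≤ 𝐂[t])
    (hn : 𝐂[t] ⊓ 𝐂[s] ≤ 𝐍(W)) : W ≤ 𝐂[s] := by
  have key : ∀ r ∈ L, r * r = 1 → 𝐂[t] ⊓ 𝐂[r] ≤ 𝐍(W) → W ≤ 𝐂[r] := fun r hr h2 h3 => by
    by_cases e : r = 1
    · intro x _; simp [e, mem_cent1]
    have h4 := h3 ⟨h.le hr, U4.self_mem_cent1 r⟩
    refine le_cent1_of_comm_comm h2 (odd_card_of_isPGroup hp hp2 hW) h4
      (h.kt.1.lemU r hr (inv_of_mul_self h2 e) p hp hp2 _
        ((commutator_mono le_rfl (zpowers_le.2 hr)).trans (comm_le_right (h1.trans h.norm)))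
        (hW.to_le (U4.comm_le_left (zpowers_le.2 h4))) (le_normalizer_commutator
          ((inf_le_inf_right _ h.le).trans h3) ?_))
    exact inf_le_right.trans ((cent_zpowers r).ge.trans (cent_le_norm _))
  have h5 : ∀ x ∈ 𝐂[t], x ∈ 𝐂[t * s] ↔ x ∈ 𝐂[s] := fun x hx => by
    rw [mem_cent1, mem_cent1, ← mul_assoc, mem_cent1.1 hx, mul_assoc, mul_assoc, mul_right_inj]
  rcases h.mem_or (h.two_le (isPGroup_zpowers_inv hs) (zpowers_le.2 hst) (mem_zpowers s))
    with h2 | h2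
  · exact key s h2 (mul_self_of_inv hs) hn
  · refine fun x hx => (h5 x (h1 hx)).1 (key _ h2 ?_ (fun y hy => hn ⟨hy.1, (h5 y hy.1).1 hy.2⟩) hx)
    rw [mul_assoc, ← mul_assoc s, mem_cent1.1 hst, mul_assoc, mul_self_of_inv hs, mul_one,
      mul_self_of_inv h.ord]

theorem kt_top [IsSimpleGroup G] (hna : ¬ IsMulCommutative G) (hab : AbTwo G) :
    KT (⊤ : Subgroup G) where
  simple := simple_top
  nonab := nonab_top hna
  el := fun P _ hP => by
    by_cases e : P = ⊥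
    · intro x hx; rw [e] at hx; simp [mem_bot.1 hx]
    obtain ⟨u, hu, h2⟩ := exists_inv_of_not_odd (H := P) fun ho =>
      e (eq_bot_of_odd_of_two ho hP le_rfl)
    obtain ⟨L', h'⟩ := h.exists_at h2
    exact h'.el_cent hP ((ab_le_cent hab hP le_rfl le_rfl).trans (cent_le_cent1 hu))
  one := h.one
  four := by rw [card_top]; exact (Dvd.intro 2 rfl).trans h.eight_dvd
  lemU := fun u _ hu p hp hp2 W _ hW hn => by
    obtain ⟨L', h'⟩ := h.exists_at hu
    obtain ⟨s, hs, h2⟩ := exists_inv_of_not_odd (H := L') fun ho =>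
      h'.kt.1.not_solv (solvable_of_odd ho)
    have h4 : Four u s := ⟨hu, h2, mem_cent1'.1 (h'.le hs), fun e => h'.notMem (e ▸ hs)⟩
    rw [top_inf_eq] at hn
    have h5 : ∀ x, orderOf x = 2 → u ∈ 𝐂[x] → W ⊓ 𝐂[x] ≤ 𝐂[u] := fun x hx h6 => by
      obtain ⟨L'', h''⟩ := h.exists_at hx
      exact h''.le_cent1 hu h6 hp hp2 hW.to_inf_left inf_le_right
        (H1.le_normalizer_inf (inf_le_right.trans hn) (inf_le_left.trans le_normalizer))
    exact h4.le_of_cent_le (odd_card_of_isPGroup hp hp2 hW) (h4.V_le_cent1.trans hn) inf_le_right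
      (h5 s h2 (mem_cent1.2 h4.comm)) (h5 _ h4.ots (mem_cent1.2 h4.mul.comm))
  typ := Or.inl fun u _ hu => by
    obtain ⟨L', h'⟩ := h.exists_at hu
    rw [top_inf_eq, h'.Od_eq]
  tins := tins_top hna hab
  aut := Or.inr ⟨by rw [card_top]; exact h.eight_dvd, fun u _ hu => by
    obtain ⟨L', h'⟩ := h.exists_at hu
    rw [h'.dJ_eq]
    exact ⟨h'.kt.1.toK0, h'.kt.2, fun v hv h2 => h'.mem_or
      (h'.two_le (isPGroup_zpowers_inv h2) (zpowers_le.2 hv.2) (mem_zpowers v))⟩⟩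

end WJR

/-- The conclusion of Walter's theorem (up to field automorphisms in the Janko–Ree case). -/
def Lst (G : Type u) [Group G] : Prop :=
  (∃ n : ℕ, 2 ≤ n ∧ Nonempty (G ≃* Matrix.SpecialLinearGroup (Fin 2) (GaloisField 2 n))) ∨
  (∃ (F : Type) (_ : Field F) (_ : Fintype F), 5 ≤ Fintype.card F ∧
    (Fintype.card F % 8 = 3 ∨ Fintype.card F % 8 = 5) ∧
    Nonempty (G ≃* Matrix.ProjectiveSpecialLinearGroup (Fin 2) F)) ∨
  ∃ (t : G) (L : Subgroup G) (q : ℕ), WJR t L q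

theorem Lst.kt [IsSimpleGroup G] (h : Lst G) (hna : ¬ IsMulCommutative G) (hab : AbTwo G) :
    KT (⊤ : Subgroup G) := by
  rcases h with ⟨n, hn, ⟨e⟩⟩ | ⟨F, _, _, -, h8, ⟨e⟩⟩ | ⟨t, L, q, h⟩
  · exact (kt_of_sl2 hna hn e).1
  · exact (kt_of_psl hna h8 e).1
  · exact h.kt_top hna hab

/-- All smaller simple groups are known. -/
def IH (n : ℕ) : Prop := ∀ (X : Type u) [Group X] [Finite X], Nat.card X < n → IsSimpleGroup X →
  ¬ IsMulCommutative X → AbTwo X → KT (⊤ : Subgroup X)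

theorem IH.red {n : ℕ} (h : IH.{u} n) (hab : AbTwo G) (hO : Od (⊤ : Subgroup G) = ⊥)
    (hc : Nat.card G < n) : Red G :=
  ⟨hab, hO, fun K hK => by
    obtain ⟨h1, h2⟩ := simple_of_quasi hab hK.2 (Od_eq_bot_of_subnormal hO hK.1)
    exact (h K ((card_le_card_group K).trans_lt hc) h1 h2 (ab_sub hab K)).of_top⟩

theorem IH.gd {n : ℕ} (h : IH.{u} n) (hab : AbTwo G) {X : Subgroup G} (hc : Nat.card X < n) :
    Gd X :=
  ⟨hab, h.red (ab_bar hab X) (Od_bar X) ((Nat.le_of_dvd Nat.card_pos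
    (card_quotient_dvd_card _)).trans_lt hc)⟩

end CfsgLib.Wal
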