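import Cfsg.Agent.Lib.Wal.Bender

/-!
# Decompositions of `Ω₁` of a Sylow `2`-subgroup coming from `2`-components
-/

set_option autoImplicit false

namespace CfsgLib.Wal

open Subgroup Cfsg CfsgLib.FT CfsgLib.FT.BGN CfsgLib.Cop CfsgLib.GW
open CfsgLib.H1 (AbTwo CharIn layerIn genFitIn dSub)
open CfsgLib.FT.U4 (mem_cent1 mem_cent1' mem_cent mem_cent1_comm cent1_conj
  eq_one_of_mem_inf eq_bot_of_forall conj_mem_conj_iff orderOf_conj)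
open scoped commutatorElement

universe u

variable {G : Type*} [Group G]

/-- `A = T × D`. -/
structure Dec (A T D : Subgroup G) : Prop where
  sup : T ⊔ D = A
  inf : T ⊓ D = ⊥

namespace Dec
variable {A T D : Subgroup G} (h : Dec A T D)
include h

theorem le1 : T ≤ A := le_sup_left.trans h.sup.le
theorem le2 : D ≤ A := le_sup_right.trans h.sup.le
theorem symm : Dec A D T := ⟨sup_comm T D ▸ h.sup, inf_comm T D ▸ h.inf⟩
theorem eq_one {x : G} (h1 : x ∈ T) (h2 : x ∈ D) : x = 1 := eq_one_of_mem_inf h.inf h1 h2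

theorem dec (hA : El A) {x : G} (hx : x ∈ A) : ∃ t ∈ T, ∃ d ∈ D, t * d = x :=
  hA.mem_sup h.le1 h.le2 (h.sup.ge hx)

theorem cj {g : G} (hg : g ∈ 𝐍(A)) : Dec A (g •ᶜ T) (g •ᶜ D) :=
  ⟨by rw [← cj_sup, h.sup, map_conj_eq_of_mem_normalizer hg],
    by rw [← map_conj_inf, h.inf, Subgroup.map_bot]⟩

theorem le_of_le (hA : El A) {T' D' : Subgroup G} (h' : Dec A T' D') (h1 : T' ≤ T) (h2 : D' ≤ D) :
    D ≤ D' := fun x hx => by
  obtain ⟨t, ht, d, hd, rfl⟩ := h'.dec hA (h.le2 hx)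
  rw [h.eq_one (h1 ht) ((mul_mem_cancel_right (h2 hd)).1 hx), one_mul]
  exact hd

theorem card [Finite G] (hA : El A) : Nat.card T * Nat.card D = Nat.card A := by
  rw [← hA.card_sup h.le1 h.le2, h.sup, h.inf, card_bot, mul_one]

end Dec

variable [Finite G]

theorem mem_of_sq (hab : AbTwo G) {A U : Subgroup G} (hA : MaxE A ⊤) (hU : 𝐂(A) ≤ U) {n : G}
    (hn : n ∈ 𝐍(A)) (h : n * n ∈ U) : n ∈ U := by
  have := normal_subgroupOf_centralizer_normalizer (A : Set G)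
  obtain ⟨k, hk⟩ := hA.odd_relIndex hab (K := 𝐂(A)) inf_le_right
    (inf_le_right.trans (cent_le_norm A)) le_top
  have h1 : n ^ (2 * k + 1) ∈ 𝐂(A) := by
    have := ((𝐂(A)).subgroupOf 𝐍(A)).pow_index_mem ⟨n, hn⟩
    rwa [mem_subgroupOf, ← relIndex, hk] at this
  rw [pow_succ, pow_mul, pow_two] at h1
  exact (mul_mem_cancel_left (pow_mem h k)).1 (hU h1)

/-- `T` and `D` come from the `2`-component `J`. -/
structure Real (A T D J : Subgroup G) : Prop extends Dec A T D where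
  ne : D ≠ ⊥
  cent : J ≤ 𝐂(D)
  eq : A ⊓ J = T
  jv : Jv J = J
  one : OneCl J
  ns : ¬ Group.IsSolvable J
  four : 4 ≤ Nat.card T

omit [Finite G] in
theorem oneCl_cj {J : Subgroup G} (h : OneCl J) (g : G) : OneCl (g •ᶜ J) := by
  rintro _ ⟨u, hu, rfl⟩ _ ⟨v, hv, rfl⟩ h1 h2
  obtain ⟨c, hc, e⟩ := h u hu v hv ((orderOf_conj g u).symm.trans h1)
    ((orderOf_conj g v).symm.trans h2)
  refine ⟨g * c * g⁻¹, conj_mem_map_conj hc, ?_⟩
  change _ * (g * u * g⁻¹) * _ = g * v * g⁻¹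
  rw [← e]; group

theorem le_of_oneCl {J M : Subgroup G} (h1 : OneCl J) (h2 : Jv J = J) (hn : J ≤ 𝐍(M)) {t : G}
    (ht : t ∈ J) (ho : orderOf t = 2) (hM : t ∈ M) : J ≤ M :=
  h2.ge.trans (Jv_le_of fun u hu h3 => by
    obtain ⟨g, hg, rfl⟩ := h1 t ht u hu ho h3
    exact conj_mem_of_mem_normalizer (hn hg) hM)

namespace Real
variable {A T D J : Subgroup G} (h : Real A T D J)
include h

omit [Finite G] in
theorem le : T ≤ J := h.eq.ge.trans inf_le_right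

theorem exists_ne_one : ∃ t ∈ T, t ≠ 1 := exists_ne_one_of_card (h.four.trans' (by norm_num))

theorem not_le : ¬ T ≤ D := fun e =>
  let ⟨_, ht, h1⟩ := h.exists_ne_one; h1 (h.eq_one ht (e ht))

omit [Finite G] in
theorem cj {g : G} (hg : g ∈ 𝐍(A)) : Real A (g •ᶜ T) (g •ᶜ D) (g •ᶜ J) where
  toDec := h.toDec.cj hg
  ne := fun e => h.ne (cj_eq_bot_iff.1 e)
  cent := le_cent_cj h.cent
  eq := by rw [← h.eq, map_conj_inf, map_conj_eq_of_mem_normalizer hg]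
  jv := by rw [Jv_cj, h.jv]
  one := oneCl_cj h.one g
  ns := fun e => h.ns (map_conj_inv_map_conj g J ▸ solvable_map e _)
  four := by rw [card_map_of_injective (MulAut.conj g).injective]; exact h.four

variable (hA : MaxE A ⊤)
include hA

omit [Finite G] in
theorem el : El T := hA.el.mono h.le1

omit [Finite G] in
theorem maxE : MaxE T J := ⟨h.le, h.el hA, fun u hu h1 h2 => h.eq.le ⟨hA.mem u trivial h1
  (by rw [← h.sup, cent_sup]; exact ⟨h2, h.cent hu⟩), hu⟩⟩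

theorem le_of_mem {M : Subgroup G} (hn : J ≤ 𝐍(M)) {t : G} (ht : t ∈ T) (h1 : t ≠ 1)
    (hM : t ∈ M) : J ≤ M := le_of_oneCl h.one h.jv hn (h.le ht) ((h.el hA).ord ht h1) hM

theorem le_of_le {M : Subgroup G} (hn : J ≤ 𝐍(M)) (hM : T ≤ M) : J ≤ M :=
  let ⟨_, ht, h1⟩ := h.exists_ne_one; h.le_of_mem hA hn ht h1 (hM ht)

omit hA in
theorem norm : J ⊓ 𝐍(T) ≤ 𝐍(A) := h.sup ▸ H1.le_normalizer_sup inf_le_right
  (inf_le_left.trans (h.cent.trans (cent_le_norm D)))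

omit [Finite G] in
theorem comm_mem {g x : G} (hg : g ∈ J ⊓ 𝐍(T)) (hx : x ∈ A) : g * x * g⁻¹ * x⁻¹ ∈ T := by
  obtain ⟨t, ht, d, hd, rfl⟩ := h.dec hA.el hx
  have e : g * (t * d) * g⁻¹ * (t * d)⁻¹ = g * t * g⁻¹ * t⁻¹ := by
    have := mem_cent.1 (h.cent hg.1) d hd
    calc _ = g * t * (d * g⁻¹ * d⁻¹) * t⁻¹ := by group
      _ = g * t * (g⁻¹ * (g * d) * g⁻¹ * d⁻¹) * t⁻¹ := by group
      _ = _ := by rw [← this]; group
  rw [e]
  exact comm_mem_right hg.2 ht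

variable (hab : AbTwo G)
include hab

theorem trans {u v : G} (hu : u ∈ T) (hv : v ∈ T) (h1 : u ≠ 1) (h2 : v ≠ 1) :
    ∃ n ∈ J ⊓ 𝐍(T), n * u * n⁻¹ = v := (h.maxE hA).trans hab h.one hu hv h1 h2

theorem trans' {u v d : G} (hu : u ∈ T) (hv : v ∈ T) (h1 : u ≠ 1) (h2 : v ≠ 1) (hd : d ∈ D) :
    ∃ n ∈ J ⊓ 𝐍(T), n * (u * d) * n⁻¹ = v * d := by
  obtain ⟨n, hn, rfl⟩ := h.trans hA hab hu hv h1 h2
  refine ⟨n, hn, ?_⟩
  calc _ = n * u * n⁻¹ * (n * d) * n⁻¹ := by group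
    _ = _ := by rw [← mem_cent.1 (h.cent hn.1) d hd]; group

theorem fix {x : G} (hx : x ∈ A) (hc : ∀ n ∈ J ⊓ 𝐍(T), n * x * n⁻¹ = x) : x ∈ D := by
  obtain ⟨t, ht, d, hd, rfl⟩ := h.dec hA.el hx
  by_cases e : t = 1
  · rwa [e, one_mul]
  obtain ⟨s, hs, h4⟩ := (h.el hA).exists_four h.four ht e
  obtain ⟨n, hn, h5⟩ := h.trans' hA hab ht hs e h4.s1 hd
  exact absurd (mul_right_cancel ((hc n hn).symm.trans h5)) h4.ne

theorem le_of_norm {B : Subgroup G} (hn : J ⊓ 𝐍(T) ≤ 𝐍(B)) {t : G} (ht : t ∈ T) (h1 : t ≠ 1)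
    (hB : t ∈ B) : T ≤ B := fun s hs => by
  by_cases e : s = 1
  · rw [e]; exact one_mem _
  obtain ⟨n, hn', rfl⟩ := h.trans hA hab ht hs h1 e
  exact conj_mem_of_mem_normalizer (hn hn') hB

theorem le_or_le {B : Subgroup G} (hB : B ≤ A) (hn : J ⊓ 𝐍(T) ≤ 𝐍(B)) : T ≤ B ∨ B ≤ D := by
  refine or_iff_not_imp_left.2 fun e x hx => h.fix hA hab (hB hx) fun n hn' => ?_
  by_contra e'
  exact e (h.le_of_norm hA hab hn (h.comm_mem hA hn' (hB hx))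
    (fun e'' => e' (mul_inv_eq_one.1 e'')) (comm_mem_right (hn hn') hx))

theorem nl {T' D' : Subgroup G} (h' : Dec A T' D') (h1 : J ⊓ 𝐍(T) ≤ 𝐍(T'))
    (h2 : J ⊓ 𝐍(T) ≤ 𝐍(D')) : T ≤ T' ∧ D' ≤ D ∨ T ≤ D' ∧ T' ≤ D := by
  obtain ⟨t, ht, h0⟩ := h.exists_ne_one
  rcases h.le_or_le hA hab h'.le1 h1 with a | a <;> rcases h.le_or_le hA hab h'.le2 h2 with b | b
  · exact absurd (h'.eq_one (a ht) (b ht)) h0
  · exact Or.inl ⟨a, b⟩
  · exact Or.inr ⟨b, a⟩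
  · exact absurd (h.le1.trans (h'.sup.ge.trans (sup_le a b))) h.not_le

/-- The support argument. -/
theorem sup2 {P : Subgroup G → Subgroup G → Prop}
    (h1 : ∀ T' D', P T' D' → Dec A T' D' ∧ 4 ≤ Nat.card T')
    (h2 : ∀ g ∈ J ⊓ 𝐍(T), ∀ T' D', P T' D' → P (g •ᶜ T') (g •ᶜ D'))
    (h3 : ∀ T₁ D₁ T₂ D₂, P T₁ D₁ → P T₂ D₂ → T₁ = T₂ ∧ D₁ = D₂ ∨ T₁ ≤ D₂ ∧ T₂ ≤ D₁)
    {T' D' : Subgroup G} (h' : P T' D') : T ≤ T' ∧ D' ≤ D ∨ T ≤ D' ∧ T' ≤ D := by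
  obtain ⟨d0, c0⟩ := h1 _ _ h'
  suffices ∀ g ∈ J ⊓ 𝐍(T), g •ᶜ T' = T' ∧ g •ᶜ D' = D' from h.nl hA hab d0
    (fun g hg => mem_normalizer_of_map_conj_eq (this g hg).1)
    (fun g hg => mem_normalizer_of_map_conj_eq (this g hg).2)
  intro g hg
  have nb : ∀ {T₁ D₁ : Subgroup G}, P T₁ D₁ → ¬ T₁ ≤ D₁ := fun a b => by
    obtain ⟨t, ht, h0⟩ := exists_ne_one_of_card ((h1 _ _ a).2.trans' (by norm_num : 2 ≤ 4))
    exact h0 ((h1 _ _ a).1.eq_one ht (b ht))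
  have p1 := h2 g hg _ _ h'
  have hg2 := mul_mem hg hg
  have p2 := h2 _ hg2 _ _ h'
  refine (h3 _ _ _ _ p1 h').resolve_right fun ⟨a10, a01⟩ => ?_
  obtain ⟨a20, a02⟩ := (h3 _ _ _ _ p2 h').resolve_left fun e => nb h'
    ((map_conj_eq_of_mem_normalizer (mem_of_sq hab hA ((centralizer_le d0.le1).trans
      (cent_le_norm _)) (h.norm hg) (mem_normalizer_of_map_conj_eq e.1))).ge.trans a10)
  have a21 : (g * g) •ᶜ T' ≤ g •ᶜ D' := by rw [← cj_cj]; exact map_mono a10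
  have a12 : g •ᶜ T' ≤ (g * g) •ᶜ D' := by rw [← cj_cj]; exact map_mono a01
  obtain ⟨x, hx, y, hy, h4⟩ := (hA.el.mono d0.le1).exists_four' c0
  have x1 := conj_mem_map_conj (g := g) hx
  have y2 := conj_mem_map_conj (g := g * g) hy
  have m1 := h.comm_mem hA hg (d0.le1 hx)
  have m2 := mul_mem m1 (h.comm_mem hA hg2 (d0.le1 hy))
  have n0 : g * x * g⁻¹ * x⁻¹ * (g * g * y * (g * g)⁻¹ * y⁻¹) ∉ D' := fun e => by
    rw [mul_assoc, mul_mem_cancel_left (a10 x1), ← mul_assoc,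
      ← hA.el.comm (d0.le2 (a20 y2)) (d0.le1 (inv_mem hx)), mul_assoc,
      mul_mem_cancel_left (a20 y2)] at e
    exact h4.ne (inv_injective (mul_inv_eq_one.1 (by
      rw [inv_inv, ← h4.si]; exact d0.eq_one (mul_mem (inv_mem hx) (inv_mem hy)) e)))
  have n1 : g * x * g⁻¹ * x⁻¹ * (g * g * y * (g * g)⁻¹ * y⁻¹) ∉ g •ᶜ D' := fun e => by
    rw [mul_mem_cancel_right (mul_mem (a21 y2) (a01 (inv_mem hy))),
      mul_mem_cancel_right (a01 (inv_mem hx))] at e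
    exact U4.conj_ne_one_iff.2 h4.t1 ((h1 _ _ p1).1.eq_one x1 e)
  have n2 : g * x * g⁻¹ * x⁻¹ * (g * g * y * (g * g)⁻¹ * y⁻¹) ∉ (g * g) •ᶜ D' := fun e => by
    rw [mul_mem_cancel_left (mul_mem (a12 x1) (a02 (inv_mem hx))),
      mul_mem_cancel_right (a02 (inv_mem hy))] at e
    exact U4.conj_ne_one_iff.2 h4.s1 ((h1 _ _ p2).1.eq_one y2 e)
  obtain ⟨k, hk, e⟩ := h.trans hA hab m2 m1 (fun e => n0 (e ▸ one_mem _)) fun e =>
    U4.conj_ne_one_iff.2 h4.t1 ((h1 _ _ p1).1.eq_one x1 (by rw [mul_inv_eq_one.1 e]; exact a01 hx))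
  have key : ∀ T₁ D₁, P T₁ D₁ → g * x * g⁻¹ * x⁻¹ * (g * g * y * (g * g)⁻¹ * y⁻¹) ∉ D₁ →
      k •ᶜ T₁ = T' ∨ k •ᶜ T₁ = g •ᶜ T' := fun T₁ D₁ a b => by
    by_contra c
    rw [not_or] at c
    refine b ((conj_mem_conj_iff (g := k)).1 ?_)
    rw [e]
    refine mul_mem ?_ (inv_mem ?_)
    · exact ((h3 _ _ _ _ (h2 k hk _ _ a) p1).resolve_left fun e => c.2 e.1).2 x1
    · exact ((h3 _ _ _ _ (h2 k hk _ _ a) h').resolve_left fun e => c.1 e.1).2 hx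
  rcases key _ _ h' n0 with b0 | b0 <;> rcases key _ _ p1 n1 with b1 | b1 <;>
    rcases key _ _ p2 n2 with b2 | b2
  all_goals first
    | exact nb h' ((cj_inj.1 (b0.trans b1.symm)).le.trans a10)
    | exact nb h' ((cj_inj.1 (b0.trans b2.symm)).le.trans a20)
    | exact nb p1 ((cj_inj.1 (b1.trans b2.symm)).le.trans a21)

end Real

/-- The `2`-component of the centralizer of `A ⊓ cm X L` covering `L`. -/
def jc (X A L : Subgroup G) : Subgroup G := Jv (L ⊓ 𝐂(A ⊓ cm X L))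

omit [Finite G] in
theorem jc_le (X A L : Subgroup G) : jc X A L ≤ L := (Jv_le _).trans inf_le_left

omit [Finite G] in
theorem jc_le_cent (X A L : Subgroup G) : jc X A L ≤ 𝐂(A ⊓ cm X L) := (Jv_le _).trans inf_le_right

namespace Gd
variable {X A L : Subgroup G} (hX : Gd X) (hA : MaxE A X) (hL : Cp X L)
include hX hA hL

theorem dec' : Dec A (A ⊓ L) (A ⊓ cm X L) := ⟨hX.sup_eq hA hL, hX.inf_eq hA hL⟩

theorem im_jc : im X (jc X A L) = im X L := by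
  refine le_antisymm (im_mono (jc_le X A L)) ((hX.kt hL).Jv_eq.ge.trans
    (Jv_le_of fun y hy h2 => ?_))
  obtain ⟨u, hu, h3, h4, rfl⟩ := exists_lift ((im_le_im hL.le (inf_le_left.trans hL.le)).2
    (hX.le_sup_cent hA hL) hy) (mul_self_of_inv h2)
  exact br_mem_im (mem_Jv hu (inv_of_mul_self h4 fun e => ne_one_of_inv h2 (e ▸ br_one))) h3

theorem le_sup_jc : L ≤ Od X ⊔ jc X A L :=
  (im_le_im hL.le ((jc_le X A L).trans hL.le)).1 (hX.im_jc hA hL).ge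

theorem real (h0 : A ⊓ cm X L ≠ ⊥) : Real A (A ⊓ L) (A ⊓ cm X L) (jc X A L) where
  toDec := hX.dec' hA hL
  ne := h0
  cent := jc_le_cent X A L
  eq := le_antisymm (inf_le_inf_left A (jc_le X A L)) fun t ht => ⟨ht.1, by
    by_cases e : t = 1
    · rw [e]; exact one_mem _
    · exact mem_Jv ⟨ht.2, hA.el.le_cent' le_rfl inf_le_left ht.1⟩ (hA.el.ord ht.1 e)⟩
  jv := Jv_Jv _
  one := fun u hu v hv h1 h2 => by
    have hJ := (jc_le X A L).trans hL.le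
    obtain ⟨y, hy, e⟩ := (hX.kt hL).one _ (hL.mem_iff.1 (jc_le X A L hu)).2 _
      (hL.mem_iff.1 (jc_le X A L hv)).2 (ord_br h1 (hJ hu)) (ord_br h2 (hJ hv))
    obtain ⟨g, hg, h3, rfl⟩ := mem_im.1 ((hX.im_jc hA hL).ge hy)
    have h4 := conj_mem_of_mem_normalizer (le_normalizer hg) hu
    rw [← br_conj h3 (hJ hu)] at e
    obtain ⟨c, hc, e'⟩ := isConj_of_br (mul_self_of_inv h2)
      (Invol.conj_mul_self (mul_self_of_inv h1) g) (hJ hv) (hJ h4) e.symm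
    exact ⟨c * g, mul_mem (zpowers_le.2 (mul_mem h4 hv) hc) hg, by rw [← e']; group⟩
  ns := fun e => (hX.kt hL).not_solv (hX.im_jc hA hL ▸ solv_im e)
  four := hX.four_le hA hL

omit hL in
theorem cp_or (hA' : MaxE A ⊤) {T D J : Subgroup G} (h : Real A T D J) (hJ : J ⊓ 𝐍(T) ≤ X)
    (hL : Cp X L) : T ≤ A ⊓ L ∧ A ⊓ cm X L ≤ D ∨ T ≤ A ⊓ cm X L ∧ A ⊓ L ≤ D :=
  h.sup2 hA' hX.ab (P := fun T' D' => ∃ L, Cp X L ∧ T' = A ⊓ L ∧ D' = A ⊓ cm X L)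
    (by rintro _ _ ⟨L, hL, rfl, rfl⟩; exact ⟨hX.dec' hA hL, hX.four_le hA hL⟩)
    (by
      rintro g hg _ _ ⟨L, hL, rfl, rfl⟩
      exact ⟨_, hL.cj (hJ hg), by rw [map_conj_inf, map_conj_eq_of_mem_normalizer (h.norm hg)],
        by rw [map_conj_inf, map_conj_eq_of_mem_normalizer (h.norm hg), cm_cj (hJ hg)]⟩)
    (by
      rintro _ _ _ _ ⟨L, hL, rfl, rfl⟩ ⟨L', hL', rfl, rfl⟩
      by_cases e : L = L'
      · exact Or.inl ⟨e ▸ rfl, e ▸ rfl⟩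
      · exact Or.inr ⟨inf_le_inf_left A ((hL.eq_or_le hL').resolve_left e),
          inf_le_inf_left A ((hL'.eq_or_le hL).resolve_left (Ne.symm e))⟩) ⟨L, hL, rfl, rfl⟩

omit hA in
theorem real_norm {T D J : Subgroup G} (h : Real A T D J) (hJ : J ≤ X) : J ≤ 𝐍(L) :=
  h.jv.ge.trans ((Jv_mono hJ).trans (hX.Jv_norm hL))

omit hL in
theorem exists_cp (hA' : MaxE A ⊤) {T D J : Subgroup G} (h : Real A T D J) (hJ : J ≤ X) :
    ∃ L, Cp X L ∧ T ≤ A ⊓ L ∧ A ⊓ cm X L ≤ D := by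
  by_contra e
  push Not at e
  have h1 : ∀ L, Cp X L → J ≤ cm X L := fun L hL => h.le_of_le hA'
    ((le_inf hJ (hX.real_norm hL h hJ)).trans norm_le_norm_cm)
    (((hX.cp_or hA hA' h (inf_le_left.trans hJ) hL).resolve_left fun a => e L hL a.1 a.2).1.trans inf_le_right)
  refine h.ns (solv_of_im hJ (solv_of_le_cent ((le_pre hJ).1 (h.jv.ge.trans
    (Jv_le_of fun s hs h2 => mem_pre.2 ⟨hJ hs, mem_cent.2 fun y hy => ?_⟩)))))
  obtain ⟨j, hj, h3, rfl⟩ := mem_im.1 hy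
  have := hX.comm_mem_Od (mul_self_of_inv h2) (hJ hs) (fun L hL => h1 L hL hs)
    (Jv_mono hJ (h.jv.ge hj))
  rwa [← br_eq_one (comm_mem_left h3 (le_normalizer (hJ hs))), br_comm h3 (hJ hs),
    commutatorElement_eq_one_iff_mul_comm] at this

end Gd

/-- A maximal pair. -/
def Mx (A T D : Subgroup G) : Prop :=
  (∃ J, Real A T D J) ∧ ∀ T' D' J', Real A T' D' J' → T ≤ T' → D' ≤ D → T' ≤ T

theorem Real.exists_mx {A T D J : Subgroup G} (h : Real A T D J) :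
    ∃ T' D', Mx A T' D' ∧ T ≤ T' ∧ D' ≤ D := by
  obtain ⟨T', h1, ⟨D', J', h2, h3⟩, h4⟩ := Finite.exists_le_maximal
    (p := fun T' : Subgroup G => ∃ D' J', Real A T' D' J' ∧ D' ≤ D) (a := T) ⟨D, J, h, le_rfl⟩
  exact ⟨T', D', ⟨⟨J', h2⟩, fun T'' D'' J'' a b c => h4 ⟨D'', J'', a, c.trans h3⟩ b⟩, h1, h3⟩

omit [Finite G] in
theorem Mx.cj {A T D : Subgroup G} (h : Mx A T D) {g : G} (hg : g ∈ 𝐍(A)) :
    Mx A (g •ᶜ T) (g •ᶜ D) :=
  ⟨let ⟨_, a⟩ := h.1; ⟨_, a.cj hg⟩, fun _ _ _ a b c => le_cj_iff.2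
    (h.2 _ _ _ (a.cj (inv_mem hg)) (cj_le_iff.1 b) (le_cj_iff.1 c))⟩

theorem Mx.eq {A T D : Subgroup G} (h : Mx A T D) (hA : El A) {T' D' J' : Subgroup G}
    (h' : Real A T' D' J') (h1 : T ≤ T') (h2 : D' ≤ D) : T' = T ∧ D' = D :=
  let ⟨_, a⟩ := h.1
  ⟨le_antisymm (h.2 _ _ _ h' h1 h2) h1,
    le_antisymm h2 (a.toDec.le_of_le hA h'.toDec (h.2 _ _ _ h' h1 h2) h2)⟩

end CfsgLib.Wal
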