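import Cfsg.Agent.Lib.Wal.KT

/-!
# Groups with abelian Sylow `2`-subgroups and no normal subgroup of odd order
-/

set_option autoImplicit false

namespace CfsgLib.Wal

open Subgroup Cfsg CfsgLib.FT CfsgLib.FT.BGN CfsgLib.Cop CfsgLib.GW
open CfsgLib.H1 (AbTwo)
open CfsgLib.FT.U4 (mem_cent1 mem_cent1' mem_cent mem_cent1_comm cent1_conj
  eq_one_of_mem_inf eq_bot_of_forall conj_mem_conj_iff orderOf_conj)
open scoped commutatorElement

universe u

variable {Y : Type*} [Group Y] [Finite Y]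

theorem Od_eq_bot_of_subnormal (hO : Od (⊤ : Subgroup Y) = ⊥) {K : Subgroup Y}
    (hK : K.IsSubnormal) : Od K = ⊥ :=
  le_bot_iff.1 (hO ▸ H1.piCoreOf_le_of_subnormalIn (subnormalIn_top_iff.2 hK))

theorem simple_of_quasi (hab : AbTwo Y) {K : Subgroup Y} (hK : IsQuasisimple K) (hO : Od K = ⊥) :
    IsSimpleGroup K ∧ ¬ IsMulCommutative K := by
  have h1 : center K = ⊥ := by
    have h2 : Odd (Nat.card (center K)) := odd_card_of_forall fun z hz h =>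
      ne_one_of_inv h (eq_one_of_central (ab_sub hab K) hK.1.commutator_eq_top hz
        (mul_self_of_inv h))
    refine eq_bot_of_forall fun z hz => Subtype.ext ?_
    have h3 := le_Od (M := ⊤) le_top (by rw [normalizer_eq_top]) h2 hz
    rwa [mem_Od_top, hO] at h3
  refine ⟨isSimpleGroup_of_isQuasisimple hK h1, fun hc => isQuasisimple_center_ne_top hK ?_⟩
  exact eq_top_iff.2 fun z _ => mem_center_iff.2 fun g => hc.is_comm.comm g z

theorem odd_center_of_quasi (hab : AbTwo Y) {K : Subgroup Y} (hK : IsQuasisimple K) :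
    Odd (Nat.card ↥(K ⊓ 𝐂(K))) := odd_card_of_forall fun z hz h => ne_one_of_inv h
  (congrArg Subtype.val (eq_one_of_central (ab_sub hab K) hK.1.commutator_eq_top (z := ⟨z, hz.1⟩)
    (mem_center_iff.2 fun g => Subtype.ext (mem_cent.1 hz.2 g g.2))
    (Subtype.ext (mul_self_of_inv h))))

omit [Finite Y] in
theorem comm_zpowers_le_cent {K Q : Subgroup Y} {a t : Y} (hQ : Q ≤ 𝐍(K)) (ha : a * a = 1)
    (ht : t ∈ 𝐍(K)) (h1 : t * a ∈ 𝐂(K)) (h2 : Q ≤ 𝐂[t]) : ⁅Q, zpowers a⁆ ≤ 𝐂(K) :=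
  commutator_zpowers_le ha fun x hx => by
    have h3 := conj_mem_of_mem_normalizer' (U4.norm_le_norm_cent K ht)
      (comm_mem_right (U4.norm_le_norm_cent K (hQ hx)) h1)
    convert h3 using 1
    rw [commutatorElement_def, ← mul_assoc x t, mem_cent1.1 (h2 hx)]
    group

theorem le_cent1_of_comm_comm {Q : Subgroup Y} {a : Y} (ha : a * a = 1) (ho : Odd (Nat.card Q))
    (hn : a ∈ 𝐍(Q)) (h : ⁅Q, zpowers a⁆ ≤ 𝐂[a]) : Q ≤ 𝐂[a] := by
  rw [← cent_zpowers, ← comm_eq_bot_iff] at h ⊢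
  exact commutator_eq_bot_of_commutator_commutator_eq_bot (zpowers_le.2 hn)
    ((el_zpowers ha).coprime ho) h

theorem le_cent_of_comm_comm {Q A : Subgroup Y} (hA : El A) (ho : Odd (Nat.card Q))
    (hn : A ≤ 𝐍(Q)) (h : ⁅Q, A⁆ ≤ 𝐂(A)) : Q ≤ 𝐂(A) := by
  rw [← comm_eq_bot_iff] at h ⊢
  exact commutator_eq_bot_of_commutator_commutator_eq_bot hn (hA.coprime ho) h

theorem eq_bot_of_odd_of_two {Q R : Subgroup Y} (ho : Odd (Nat.card Q)) (hR : IsPGroup 2 R)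
    (h : Q ≤ R) : Q = ⊥ :=
  eq_bot_of_forall fun _ hx => Invol.eq_one_of_odd_of_mem hR (h hx) (odd_orderOf_of_mem ho hx)

/-- The standing hypothesis. -/
structure Red (Y : Type*) [Group Y] : Prop where
  ab : AbTwo Y
  od : Od (⊤ : Subgroup Y) = ⊥
  kt : ∀ K : Subgroup Y, IsComponent K → KT K

namespace Red

variable (h : Red Y) {K A : Subgroup Y}
include h

theorem norm_of_mem (hK : IsComponent K) {t u : Y} (ht : t ∈ K) (h1 : t ≠ 1)
    (hu : u * t * u⁻¹ ∈ K) : u ∈ 𝐍(K) := by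
  rcases isComponent_eq_or_commutator_eq_bot (isComponent_map_conj hK u) hK with e | e
  · exact mem_normalizer_of_map_conj_eq e
  · exact absurd (eq_one_of_mem_inf (h.kt K hK).inf_cent hu
      (comm_eq_bot_iff.1 e (conj_mem_map_conj ht))) (U4.conj_ne_one_iff.2 h1)

theorem norm_of_odd (hK : IsComponent K) {t u : Y} (ht : t ∈ K) (h2 : orderOf t = 2)
    (ho : Odd (orderOf (u * t * u⁻¹ * t⁻¹))) : u ∈ 𝐍(K) := by
  rcases isComponent_eq_or_commutator_eq_bot (isComponent_map_conj hK u) hK with e | e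
  · exact mem_normalizer_of_map_conj_eq e
  have h3 := mem_cent.1 (comm_eq_bot_iff.1 e (conj_mem_map_conj (g := u) ht)) t ht
  have h4 := mul_self_of_inv h2
  rw [inv_of_inv h2] at ho
  have h5 := eq_one_of_odd_of_mul_self ho (by
    rw [mul_assoc (u * t * u⁻¹), ← mul_assoc t, h3, mul_assoc (u * t * u⁻¹) t, h4, mul_one,
      Invol.conj_mul_self h4])
  exact h.norm_of_mem hK ht (ne_one_of_inv h2)
    (by rw [eq_inv_of_mul_eq_one_left h5]; exact inv_mem ht)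

theorem le_norm (hK : IsComponent K) {t : Y} (ht : t ∈ K) (h2 : orderOf t = 2) {W : Subgroup Y}
    (ho : Odd (Nat.card W)) (hn : t ∈ 𝐍(W)) : W ≤ 𝐍(K) := fun _ hu =>
  h.norm_of_odd hK ht h2 (odd_orderOf_of_mem ho (comm_mem_left hu hn))

theorem two_norm (hK : IsComponent K) {P : Subgroup Y} (hP : IsPGroup 2 P) : P ≤ 𝐍(K) := by
  obtain ⟨S, hS⟩ := hP.exists_le_sylow
  obtain ⟨t, ht, h2⟩ := exists_inv_of_not_odd (H := K) fun ho =>
    (h.kt K hK).not_solv (solvable_of_odd ho)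
  haveI := layer_characteristic (G := Y)
  obtain ⟨g, hg, h3⟩ := (IsSylowIn.sylow_inf_normal S (layer Y)).exists_conj_le
    (isPGroup_zpowers_inv h2) (zpowers_le.2 (le_layer hK ht))
  have h4 := (h3 (conj_mem_map_conj (mem_zpowers t))).1
  have h5 := conj_mem_of_mem_normalizer (layer_le_normalizer_component hK hg) ht
  intro x hx
  refine h.norm_of_mem hK h5 (U4.conj_ne_one_iff.2 (ne_one_of_inv h2)) ?_
  rwa [ab_comm h.ab S.isPGroup' (hS hx) h4, mul_inv_cancel_right]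

theorem dec (hK : IsComponent K) {s : Y} (hs : s * s = 1) :
    ∃ t ∈ K, t * t = 1 ∧ t * s = s * t ∧ t * s ∈ 𝐂(K) :=
  exists_inner h.ab (h.kt K hK).Od_eq hs
    (h.two_norm hK (el_zpowers hs).isPGroup (mem_zpowers s))

theorem dec_cent (hK : IsComponent K) {s t x : Y} (ht : t ∈ K) (h1 : t * s ∈ 𝐂(K))
    (hx : x ∈ 𝐍(K)) (hc : x * s = s * x) : x * t = t * x := by
  have h2 := comm_mem_right (U4.norm_le_norm_cent K hx) h1
  have e : ⁅x, t * s⁆ = ⁅x, t⁆ := by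
    rw [commutatorElement_def, commutatorElement_def, ← mul_assoc x, mul_assoc _ s,
      show s * x⁻¹ = x⁻¹ * s by rw [mul_inv_eq_iff_eq_mul, mul_assoc, ← hc, inv_mul_cancel_left]]
    group
  rw [e] at h2
  exact commutatorElement_eq_one_iff_mul_comm.1
    (eq_one_of_mem_inf (h.kt K hK).inf_cent (comm_mem_right hx ht) h2)

theorem dec_mem (hK : IsComponent K) (hA : MaxE A ⊤) {a : Y} (ha : a ∈ A) :
    ∃ t ∈ A ⊓ K, t * a ∈ A ⊓ 𝐂(K) := by
  obtain ⟨t, ht, h1, -, h3⟩ := h.dec hK (hA.el a ha)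
  have : t ∈ A := hA.mem t trivial h1 (mem_cent.2 fun x hx =>
    h.dec_cent hK ht h3 (h.two_norm hK hA.el.isPGroup hx) (hA.el.comm hx ha))
  exact ⟨t, ⟨this, ht⟩, mul_mem this ha, h3⟩

theorem maxE_inf (hK : IsComponent K) (hA : MaxE A ⊤) : MaxE (A ⊓ K) K :=
  ⟨inf_le_right, hA.el.mono inf_le_left, fun u hu h1 h2 => ⟨hA.mem u trivial h1
    (mem_cent.2 fun a ha => by
      obtain ⟨t, ht, h3⟩ := h.dec_mem hK hA ha
      have h4 := mem_cent.1 h3.2 u hu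
      rw [← mul_assoc, ← mem_cent.1 h2 t ht, mul_assoc, mul_assoc, mul_right_inj] at h4
      exact h4.symm), hu⟩⟩

theorem norm_le_norm (hK : IsComponent K) (hA : MaxE A ⊤) : K ⊓ 𝐍(A ⊓ K) ≤ 𝐍(A) :=
  fun g hg => mem_normalizer_of_conj_mem fun a ha => by
    obtain ⟨t, ht, h3⟩ := h.dec_mem hK hA ha
    have : g * a * g⁻¹ = (g * t * g⁻¹)⁻¹ * (t * a) := by
      rw [← mul_inv_cancel_right (t * a) g, ← mem_cent.1 h3.2 g hg.1]; group
    rw [this]
    exact mul_mem (inv_mem (conj_mem_of_mem_normalizer hg.2 ht).1) h3.1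

theorem le_O2 {W : Subgroup Y} (h1 : ∀ K, IsComponent K → W ≤ 𝐂(K)) (h2 : W ≤ 𝐂(pCoreOf 2 ⊤)) :
    W ≤ pCoreOf 2 ⊤ := by
  have h3 : fittingSubgroup Y ≤ pCoreOf 2 ⊤ := by
    rw [← fittingOf_top']
    refine H1.fittingOf_le_of_forall fun p hp => ?_
    by_cases e : p = 2
    · rw [e]
    · exact (pCoreOf_le_Od hp.out e ⊤).trans (h.od.le.trans bot_le)
  refine le_trans ?_ (centralizer_genFitting_le_fitting.trans h3)
  rw [generalizedFittingSubgroup, cent_sup]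
  exact le_inf (le_centralizer_iff.1 (layer_le_iff.2 fun K hK => le_centralizer_iff.1 (h1 K hK)))
    (h2.trans (centralizer_le h3))

theorem two_cent {P : Subgroup Y} (hP : IsPGroup 2 P) : P ≤ 𝐂(pCoreOf 2 ⊤) :=
  ab_cent_of_norm h.ab hP (H1.pCoreOf_isPGroup _) (le_top.trans (H1.le_normalizer_pCoreOf _))

theorem kill0 {Q : Subgroup Y} (ho : Odd (Nat.card Q)) {a : Y} (ha : a * a = 1) (hn : a ∈ 𝐍(Q))
    (h1 : ∀ K, IsComponent K → ⁅Q, zpowers a⁆ ≤ 𝐂(K)) : Q ≤ 𝐂[a] := by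
  rw [← cent_zpowers, ← comm_eq_bot_iff]
  refine eq_bot_of_odd_of_two (odd_card_of_le ho (U4.comm_le_left (zpowers_le.2 hn)))
    (H1.pCoreOf_isPGroup _) (h.le_O2 h1 ?_)
  exact (commutator_mono le_rfl (h.two_cent (el_zpowers ha).isPGroup)).trans (comm_le_right
    (H1.le_normalizer_centralizer (le_top.trans (H1.le_normalizer_pCoreOf _))))

theorem odd_le_norm (hK : IsComponent K) (hA : MaxE A ⊤) {Q : Subgroup Y}
    (ho : Odd (Nat.card Q)) (hn : A ⊓ K ≤ 𝐍(Q)) : Q ≤ 𝐍(K) := by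
  obtain ⟨t, ht, h1⟩ := exists_mem_ne_one ((h.kt K hK).ne_bot (h.maxE_inf hK hA))
  exact h.le_norm hK ht.2 (hA.el.ord ht.1 h1) ho (hn ht)

theorem kill (hA : MaxE A ⊤) {Q : Subgroup Y} (ho : Odd (Nat.card Q)) (hn : A ≤ 𝐍(Q)) {a : Y}
    (ha : a ∈ A) (h1 : ∀ K, IsComponent K → ∀ t ∈ A ⊓ K, t * a ∈ 𝐂(K) → Q ≤ 𝐂[t] ∨ Q ≤ 𝐂(K)) :
    Q ≤ 𝐂[a] :=
  h.kill0 ho (hA.el a ha) (hn ha) fun K hK => by
    obtain ⟨t, ht, h2⟩ := h.dec_mem hK hA ha
    rcases h1 K hK t ht h2.2 with h3 | h3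
    · exact comm_zpowers_le_cent (h.odd_le_norm hK hA ho (inf_le_left.trans hn)) (hA.el a ha)
        (le_normalizer ht.2) h2.2 h3
    · exact (U4.comm_le_left (zpowers_le.2 (hn ha))).trans h3

theorem kill2 (hA : MaxE A ⊤) {Q : Subgroup Y} (ho : Odd (Nat.card Q)) (hc : Q ≤ 𝐂(A))
    (h1 : ∀ K, IsComponent K → Q ≤ 𝐂(K)) : Q = ⊥ := by
  refine eq_bot_of_odd_of_two ho (H1.pCoreOf_isPGroup _) (h.le_O2 h1 ?_)
  rw [le_centralizer_iff, ← comm_eq_bot_iff]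
  refine commutator_eq_bot_of_centralizes_omega_abelian (H1.pCoreOf_isPGroup _)
    (h.ab _ (H1.pCoreOf_isPGroup _)) (le_top.trans (H1.le_normalizer_pCoreOf _))
    (Nat.coprime_two_right.2 ho) fun x hx h2 => le_centralizer_iff.1 hc ?_
  exact hA.mem x trivial (by rwa [← pow_two]) (le_centralizer_iff.1 (h.two_cent hA.el.isPGroup) hx)

omit h in
theorem _root_.CfsgLib.Wal.cent_of_norm {X K Q : Subgroup Y} (hK : SubnormalIn K X)
    (hq : IsQuasisimple K) (hQ : Q ≤ X) (hs : Group.IsSolvable Q) (hn : K ≤ 𝐍(Q)) : Q ≤ 𝐂(K) := by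
  rcases le_or_commutator_eq_bot_in (Q ⊔ K) hq (hK.mono le_sup_right (sup_le hQ hK.1))
    (SubnormalIn.of_le_normalizer le_sup_left (sup_le le_normalizer hn)) with e | e
  · exact absurd (isSolvable_of_le hs e) (isQuasisimple_not_isSolvable hq)
  · exact comm_eq_bot_iff.1 e

omit h in
theorem cent_of_norm' (hK : IsComponent K) {Q : Subgroup Y} (ho : Odd (Nat.card Q))
    (hn : K ≤ 𝐍(Q)) : Q ≤ 𝐂(K) :=
  cent_of_norm (subnormalIn_top_iff.2 hK.1) hK.2 le_top (solvable_of_odd ho) hn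

theorem lemU {a : Y} (ha : a * a = 1) {p : ℕ} (hp : p.Prime) (hp2 : p ≠ 2) {U : Subgroup Y}
    (hU : IsPGroup p U) (hn : 𝐂[a] ≤ 𝐍(U)) : U ≤ 𝐂[a] := by
  have ho := odd_card_of_isPGroup hp hp2 hU
  have haU := hn (U4.self_mem_cent1 a)
  refine h.kill0 ho ha haU fun K hK => ?_
  obtain ⟨t, ht, h1, h2, h3⟩ := h.dec hK ha
  have h4 : K ⊓ 𝐂[t] ≤ 𝐂[a] := fun x hx => mem_cent1.2 (by
    have := mem_cent.1 h3 x hx.1
    rwa [← mul_assoc, mem_cent1.1 hx.2, mul_assoc, mul_assoc, mul_right_inj] at this)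
  by_cases e : t = 1
  · exact (U4.comm_le_left (zpowers_le.2 haU)).trans (cent_of_norm' hK ho
      fun x hx => hn (h4 ⟨hx, by simp [e, mem_cent1]⟩))
  have ht2 := inv_of_mul_self h1 e
  have htU := hn (mem_cent1.2 h2)
  have h5 := h.le_norm hK ht ht2 ho htU
  refine comm_zpowers_le_cent h5 ha (le_normalizer ht) h3 (le_cent1_of_comm_comm h1 ho htU ?_)
  refine (h.kt K hK).lemU t ht ht2 p hp hp2 _
    ((commutator_mono le_rfl (zpowers_le.2 ht)).trans (comm_le_right h5))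
    (hU.to_le (U4.comm_le_left (zpowers_le.2 htU))) (le_normalizer_commutator (h4.trans hn) ?_)
  exact inf_le_right.trans ((cent_zpowers t).ge.trans (cent_le_norm _))

theorem lemD (hA : MaxE A ⊤) {b c : Y} (h4 : Four b c) (hB : V b c ≤ A) {Q : Subgroup Y}
    (hn : A ≤ 𝐍(Q)) (hQ : ∀ x ∈ V b c, x ≠ 1 → Q ≤ Od 𝐂[x]) : Q ≤ 𝐂(A) := by
  have ho := odd_card_of_le (odd_Od _) (hQ b (t_mem_V b c) h4.t1)
  refine fun y hy => mem_cent.2 fun a ha => mem_cent1'.1 (h.kill hA ho hn ha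
    (fun K hK t ht h1 => ?_) hy)
  by_cases e : ∃ x ∈ V b c, x ≠ 1 ∧ x ∈ 𝐂(K)
  · obtain ⟨x, hx, h2, h3⟩ := e
    exact Or.inr ((hQ x hx h2).trans (cent_of_norm' hK (odd_Od _)
      ((le_cent1_iff.2 h3).trans (le_norm_Od _))))
  push Not at e
  left
  have hQK := h.odd_le_norm hK hA ho (inf_le_left.trans hn)
  have h5 : ∀ x ∈ V b c, x ≠ 1 → ∃ s ∈ A ⊓ K, s * x ∈ 𝐂(K) ∧ s ≠ 1 ∧ Q ≤ 𝐂[s] :=
    fun x hx h2 => by
      obtain ⟨s, hs, h3⟩ := h.dec_mem hK hA (hB hx)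
      refine ⟨s, hs, h3.2, fun e' => e x hx h2 (by simpa [e'] using h3.2), fun z hz => ?_⟩
      exact mem_cent1.2 (h.dec_cent hK hs.2 h3.2 (hQK hz) (mem_cent1.1 (Od_le _ (hQ x hx h2 hz))))
  obtain ⟨s, hs, h6, h7, h8⟩ := h5 b (t_mem_V b c) h4.t1
  by_cases hty : TypeI K
  · have h9 : K ⊓ 𝐂[s] ≤ 𝐂[b] := fun x hx => mem_cent1.2 (by
      have := mem_cent.1 h6 x hx.1
      rwa [← mul_assoc, mem_cent1.1 hx.2, mul_assoc, mul_assoc, mul_right_inj] at this)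
    have h10 : ⁅Q, K ⊓ 𝐂[s]⁆ ≤ Od (K ⊓ 𝐂[s]) := by
      refine le_trans (le_inf ?_ ?_) (Od_inf_le h9)
      · exact (commutator_mono (hQ b (t_mem_V b c) h4.t1) h9).trans
          (U4.comm_le_left (le_norm_Od _))
      · exact comm_le_right (H1.le_normalizer_inf hQK
          (h8.trans (le_normalizer (H := 𝐂[s]))))
    rw [hty s hs.2 (hA.el.ord hs.1 h7), le_bot_iff, comm_eq_bot_iff] at h10
    exact h10.trans (cent_le_cent1 ⟨ht.2, hA.el.le_cent1 hs.1 ht.1⟩)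
  · obtain ⟨r, hr, h9, h10, h11⟩ := h5 c (s_mem_V b c) h4.s1
    have h12 : Four s r := hA.el.four hs.1 hr.1 h7 h10 fun e' => by
      subst e'
      have := mul_mem (inv_mem h6) h9
      rw [mul_inv_rev, mul_assoc, inv_mul_cancel_left, h4.ti] at this
      exact e _ (mul_mem (t_mem_V b c) (s_mem_V b c)) h4.ts1 this
    have h13 : V s r = A ⊓ K := eq_of_le_of_card_ge (V_le hs hr)
      (by rw [h12.card_V, (h.kt K hK).card_eq_four hty (h.maxE_inf hK hA)])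
    rw [← h13] at ht
    exact (le_inf h8 h11).trans ((cent_V s r).ge.trans (cent_le_cent1 ht))

theorem mem_O2 {s : Y} (hs : s * s = 1) (h1 : ∀ K, IsComponent K → s ∈ 𝐂(K)) :
    s ∈ pCoreOf 2 (⊤ : Subgroup Y) :=
  h.le_O2 (fun K hK => zpowers_le.2 (h1 K hK)) (h.two_cent (el_zpowers hs).isPGroup)
    (mem_zpowers s)

theorem comm_of_cent {s u : Y} (hs : s * s = 1) (h1 : ∀ K, IsComponent K → s ∈ 𝐂(K))
    (hu : u * u = 1) : s * u = u * s :=
  mem_cent.1 (h.two_cent (el_zpowers hu).isPGroup (mem_zpowers u)) s (h.mem_O2 hs h1)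

theorem gen (hA : MaxE A ⊤) {M : Subgroup Y} (h1 : ∀ K, IsComponent K → K ≤ M)
    (h2 : 𝐍(A) ≤ M) : M = ⊤ := by
  haveI := layer_characteristic (G := Y)
  have hE := layer_le_iff.2 h1
  have h3 : Jv ⊤ ≤ M := Jv_le_of fun u _ hu => by
    obtain ⟨t, ht, h4, h5, h6⟩ := exists_inner h.ab (K := layer Y)
      (Od_eq_bot_of_normal h.od _) (mul_self_of_inv hu) (by rw [normalizer_eq_top]; trivial)
    have h7 : t * u * (t * u) = 1 := by
      rw [mul_assoc, ← mul_assoc u, ← h5, mul_assoc, mul_self_of_inv hu, mul_one, h4]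
    have h8 : t * u ∈ A := hA.mem _ trivial h7 (mem_cent.2 fun a ha =>
      (h.comm_of_cent h7 (fun K hK => centralizer_le (le_layer hK) h6) (hA.el a ha)).symm)
    have := mul_mem (inv_mem (hE ht)) (h2 (le_normalizer h8))
    rwa [inv_mul_cancel_left] at this
  refine eq_top_iff.2 fun g _ => ?_
  have h4 : A ≤ Jv ⊤ := fun a ha => by
    by_cases e : a = 1
    · rw [e]; exact one_mem _
    · exact mem_Jv trivial (hA.el.ord ha e)
  obtain ⟨k, hk, h5⟩ := (hA.mono h4 le_top).frattini h.ab (le_norm_Jv ⊤ (mem_top g))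
  have := mul_mem (inv_mem (h3 hk)) (h2 h5)
  rwa [inv_mul_cancel_left] at this

end Red

end CfsgLib.Wal
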