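import Cfsg.Agent.Lib.Wal.FourB
import Cfsg.Agent.Lib.Wal.List

/-!
# Rank three: proper subgroups containing the centralizer of an involution
-/

set_option autoImplicit false

namespace CfsgLib.Wal

open Subgroup Cfsg CfsgLib.FT CfsgLib.FT.BGN CfsgLib.Cop CfsgLib.GW
open CfsgLib.H1 (AbTwo CharIn layerIn genFitIn dSub)
open CfsgLib.FT.U4 (mem_cent1 mem_cent1' mem_cent mem_cent1_comm cent1_conj
  eq_one_of_mem_inf eq_bot_of_forall conj_mem_conj_iff orderOf_conj)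
open scoped commutatorElement

universe u

section psl
variable {G : Type u} [Group G] [Finite G]

theorem K0.psl {K T : Subgroup G} (h : K0 K) (hT : MaxE T K) (h4 : Nat.card T = 4) :
    ∃ (F : Type) (_ : Field F) (_ : Fintype F), 5 ≤ Fintype.card F ∧
      (Fintype.card F % 8 = 3 ∨ Fintype.card F % 8 = 5) ∧
      Nonempty (K ≃* Matrix.ProjectiveSpecialLinearGroup (Fin 2) F) := by
  have := Fact.mk Nat.prime_two
  have := h.simple
  obtain ⟨S, hS⟩ := (h.sylow hT).exists_sylow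
  exact gw_four K h.nonab S (by rw [hS, Nat.card_congr (subgroupOfEquivOfLe hT.le).toEquiv, h4])

theorem K0.pslIn {K T : Subgroup G} (h : K0 K) (hT : MaxE T K) (h4 : Nat.card T = 4) :
    PslIn K ∧ SC K := by
  have := h.simple
  obtain ⟨F, _, _, -, h8, ⟨e⟩⟩ := h.psl hT h4
  have h1 := (pslIn_PSL2 F h8).map (K.subtype.comp e.symm.toMonoidHom)
    (K.subtype_injective.comp e.symm.injective)
  have h2 := (kt_of_psl h.nonab h8 e).2.map K.subtype_injective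
  rw [← map_map, map_top_of_surjective _ e.symm.surjective] at h1
  rw [← MonoidHom.range_eq_map, range_subtype] at h1 h2
  exact ⟨h1, h2⟩

end psl

variable {G : Type*} [Group G] [Finite G]

theorem PslIn.exists_cent {L T W : Subgroup G} (hL : PslIn L) (hT : El T) (h4 : 4 ≤ Nat.card T)
    (h1 : T ≤ L) {p : ℕ} [hp : Fact p.Prime] (hp2 : p ≠ 2) (hW : IsPGroup p W) (hWL : W ≤ L)
    (hn : T ≤ 𝐍(W)) : ∃ t ∈ T, t ≠ 1 ∧ W ≤ 𝐂[t] := by
  have ho := odd_card_of_isPGroup hp.1 hp2 hW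
  by_contra hc
  push Not at hc
  obtain ⟨b, hb, _, -, h⟩ := hT.exists_four' h4
  refine inf_centralizer_ne_bot_of_isNilpotent hW.isNilpotent le_rfl le_normalizer
    (fun e => hc b hb h.t1 (e.le.trans bot_le)) (le_bot_iff.1 (gen_pt hT h4
      (odd_card_of_le ho inf_le_left) (le_normalizer_inf_centralizer hn hn) fun a ha a1 z hz => ?_))
  by_contra z1
  obtain ⟨c, hc', h'⟩ := hT.exists_four h4 ha a1
  obtain ⟨k, hk⟩ := hL a (h1 ha) c (h1 hc') h'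
  exact hc a ha a1 fun w hw => hk.cent z ((hk.mem z).2 ⟨hWL hz.1.1, mem_cent1.1 hz.2,
    odd_orderOf_of_mem ho hz.1.1⟩) (fun e => z1 (e ▸ one_mem _))
    ⟨hWL hw, mem_cent1.2 (mem_cent.1 hz.1.2 w hw)⟩

theorem eq_zp_of_card {D : Subgroup G} (h : Nat.card D ≤ 2) {d : G} (hd : d ∈ D) (h1 : d ≠ 1) :
    zpowers d = D := by
  refine eq_of_le_of_card_ge (zpowers_le.2 hd) (h.trans ?_)
  have := one_lt_card_iff_ne_bot (zpowers d) |>.2 (zpowers_ne_bot.2 h1)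
  omega

/-- The Janko–Ree configuration. -/
structure M3 (A : Subgroup G) : Prop where
  ctx : Ctx A
  sb : Sb A

/-- `L / O(X)` is the only component of `X / O(X)`. -/
structure Loc (A X L : Subgroup G) (u : G) : Prop where
  cp : Cp X L
  uniq : ∀ L', Cp X L' → L' = L
  four : Nat.card ↥(A ⊓ L) = 4
  cm : A ⊓ cm X L = zpowers u

theorem Loc.norm {A X L : Subgroup G} {u : G} (h : Loc A X L u) : X ≤ 𝐍(L) := fun _ hg =>
  mem_normalizer_of_map_conj_eq (h.uniq _ (h.cp.cj hg))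

theorem Loc.mem_cm {A X L : Subgroup G} {u : G} (h : Loc A X L u) : u ∈ Wal.cm X L :=
  (h.cm.ge (mem_zpowers u)).2

namespace M3
variable {A : Subgroup G} (h : M3 A)
include h

theorem card_real {T D J : Subgroup G} (r : Real A T D J) : Nat.card T = 4 ∧ Nat.card D = 2 := by
  have h1 := r.card h.ctx.el
  have h2 := r.four
  have h3 := (one_lt_card_iff_ne_bot D).2 r.ne
  rw [h.sb.card] at h1
  constructor <;> nlinarith

theorem real {u : G} (hu : u ∈ A) (u1 : u ≠ 1) : ∃ T J, Real A T (zpowers u) J := by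
  obtain ⟨T, D, J, r⟩ := h.sb.ex
  obtain ⟨d, hd, d1⟩ := exists_mem_ne_one r.ne
  obtain ⟨n, hn, rfl⟩ := h.sb.tr d (r.le2 hd) u hu d1 u1
  have := r.cj hn
  rw [← eq_zp_of_card (h.card_real r).2.le hd d1, ← U4.zpowers_conj] at this
  exact ⟨_, _, this⟩

theorem le_of_cent {u : G} (hu : u ∈ A) {X : Subgroup G} (hc : 𝐂[u] ≤ X) : A ≤ X :=
  (h.ctx.el.le_cent1 hu).trans hc

theorem loc {u : G} (hu : u ∈ A) (u1 : u ≠ 1) {X : Subgroup G} (hX : X ≠ ⊤) (hc : 𝐂[u] ≤ X) :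
    ∃ L, Loc A X L u := by
  have c := h.ctx
  have g := c.gd X hX
  have m := c.mx (h.le_of_cent hu hc)
  obtain ⟨T, J, r⟩ := h.real hu u1
  obtain ⟨L, hL, a, b⟩ := g.exists_cp m c.max r
    (r.cent.trans ((cent_le_cent1 (mem_zpowers u)).trans hc))
  have k : A ⊓ cm X L ≠ ⊥ := fun e => by
    have h1 : A ≤ L := (g.sup_eq m hL).ge.trans (sup_le inf_le_right (e.le.trans bot_le))
    have h2 : ∀ x ∈ A, x ≠ 1 → ∃ n ∈ X ⊓ 𝐍(A), n * u * n⁻¹ = x := fun x hx x1 =>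
      let ⟨n, hn, e⟩ := (c.mx h1).trans c.ab (g.oneCl hL) hu hx u1 x1; ⟨n, ⟨hL.le hn.1, hn.2⟩, e⟩
    refine c.se X hX (fun n hn => ?_) fun x hx x1 => ?_
    · obtain ⟨k, hk, e⟩ := h2 _ (conj_mem_of_mem_normalizer hn hu) (U4.conj_ne_one_iff.2 u1)
      refine (X.mul_mem_cancel_left (X.inv_mem hk.1)).1 (hc (mem_cent1.2 ?_))
      calc k⁻¹ * n * u = k⁻¹ * (n * u * n⁻¹) * n := by group
        _ = _ := by rw [← e]; group
    · obtain ⟨k, hk, rfl⟩ := h2 x hx x1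
      exact cj_cent1 k u ▸ cj_le_of_norm hc (le_normalizer hk.1)
  have r' := g.real m hL k
  obtain ⟨d, hd, d1⟩ := exists_mem_ne_one k
  have e : A ⊓ cm X L = zpowers u := le_antisymm b (zpowers_le.2
    ((c.el.mem_zp hu (b hd)).resolve_left d1 ▸ hd))
  refine ⟨L, hL, fun L' hL' => (hL'.eq_or_le hL).resolve_right fun e' => ?_,
    (h.card_real r').1, e⟩
  have := (g.four_le m hL').trans (card_le_of_le (inf_le_inf_left A e'))
  rw [(h.card_real r').2] at this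
  omega

variable {u : G} (hu : u ∈ A) (u1 : u ≠ 1) {X : Subgroup G} (hX : X ≠ ⊤) (hc : 𝐂[u] ≤ X)
include hu u1 hX hc

theorem norm_le : X ⊓ 𝐍(A) ≤ 𝐂[u] := fun n hn => by
  obtain ⟨L, l⟩ := h.loc hu u1 hX hc
  have h1 : n * u * n⁻¹ ∈ zpowers u := l.cm.le ⟨conj_mem_of_mem_normalizer hn.2 hu,
    conj_mem_of_mem_normalizer (norm_le_norm_cm ⟨hn.1, l.norm hn.1⟩) l.mem_cm⟩
  exact mem_cent1.2 (mul_inv_eq_iff_eq_mul.1
    ((h.ctx.el.mem_zp hu h1).resolve_left (U4.conj_ne_one_iff.2 u1)))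

theorem le_sup : X ≤ Od X ⊔ 𝐂[u] := by
  have g := h.ctx.gd X hX
  have m := h.ctx.mx (h.le_of_cent hu hc)
  obtain ⟨L, l⟩ := h.loc hu u1 hX hc
  refine g.gen m le_sup_left (fun L' hL' => ?_) ((h.norm_le hu u1 hX hc).trans le_sup_right)
  obtain rfl := l.uniq _ hL'
  exact (g.le_sup_cent m hL').trans (sup_le_sup_left (inf_le_right.trans
    (cent_le_cent1 (l.cm.ge (mem_zpowers u)))) _)

theorem two_cent {v : G} (hv : v ∈ A) (v1 : v ≠ 1) (hc' : 𝐂[v] ≤ X) : v = u := by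
  obtain ⟨L, l⟩ := h.loc hu u1 hX hc
  obtain ⟨L', l'⟩ := h.loc hv v1 hX hc'
  obtain rfl := l.uniq _ l'.cp
  exact (h.ctx.el.mem_zp hu (l.cm.le (l'.cm.ge (mem_zpowers v)))).resolve_left v1

end M3

namespace M3
variable {A : Subgroup G} (h : M3 A)
include h

theorem nocp {B L : Subgroup G} (hB : B ≤ A) (h4 : 4 ≤ Nat.card B) : ¬ Cp 𝐂(B) L := fun hL => by
  have h0 : B ≠ ⊥ := fun e => by rw [e, card_bot] at h4; omega
  have h1 : B ≤ A ⊓ cm 𝐂(B) L := le_inf hB ((le_inf (h.ctx.el.le_cent' hB hB)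
    (le_centralizer_iff.1 hL.le)).trans inf_cent_le_cm)
  have r := (h.ctx.gd _ (h.ctx.cent_ne h0)).real (h.ctx.mx (h.ctx.el.le_cent' le_rfl hB)) hL
    fun e => h0 (le_bot_iff.1 (e ▸ h1))
  have := h4.trans (card_le_of_le h1)
  rw [(h.card_real r).2] at this
  omega

theorem le_Od {B Q : Subgroup G} (hB : B ≤ A) (h4 : 4 ≤ Nat.card B) (hQ : Q ≤ 𝐂(B))
    (ho : Odd (Nat.card Q)) (hn : A ≤ 𝐍(Q)) : Q ≤ Od 𝐂(B) :=
  (h.ctx.gd _ (h.ctx.cent_ne fun e => by rw [e, card_bot] at h4; omega)).le_Od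
    (h.ctx.mx (h.ctx.el.le_cent' le_rfl hB)) hQ ho hn fun L hL => absurd hL (h.nocp hB h4)

end M3

theorem M3.exists_cj {G : Type u} [Group G] [Finite G] {A X L R : Subgroup G} {u t : G} (h : M3 A)
    (hX : X ≠ ⊤) (hA : A ≤ X) (l : Loc A X L u) (u1 : u ≠ 1) (ht : t ∈ A ⊓ L) (t1 : t ≠ 1) {p : ℕ}
    [hp : Fact p.Prime] (hp2 : p ≠ 2) (hR : IsPGroup p R) (h1 : R ≤ X) (hn : A ≤ 𝐍(R)) :
    ∃ n ∈ X ⊓ 𝐍(A), n •ᶜ R ≤ Od X ⊔ Od 𝐂(V u t) := by
  have c := h.ctx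
  have g := c.gd X hX
  have m := c.mx hA
  have hu : u ∈ A := (l.cm.ge (mem_zpowers u)).1
  have r := g.real m l.cp (l.cm ▸ zpowers_ne_bot.2 u1)
  have eT := (c.el.mono (inf_le_left (b := L))).im (X := X)
  have mT := g.maxE_im m l.cp
  have c4 : Nat.card (im X (A ⊓ L)) = 4 :=
    (card_im (c.el.mono inf_le_left) (inf_le_left.trans hA)).trans l.four
  have oR := odd_card_of_isPGroup hp.1 hp2 hR
  have nT : im X (A ⊓ L) ≤ 𝐍(im X R) := im_norm (inf_le_left.trans hn)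
  obtain ⟨s', hs, s1, a⟩ := PslIn.exists_cent ((g.kt l.cp).pslIn mT c4).1 eT c4.ge mT.le hp2
    ((pgroup_im hR).to_le (commutator_le_left_of_le_normalizer nT))
    ((commutator_mono le_rfl mT.le).trans (comm_le_right (im_norm (h1.trans l.norm))))
    (le_norm_comm nT)
  obtain ⟨s, hs', -, rfl⟩ := mem_im.1 hs
  have b : ⁅R, zpowers s⁆ ≤ Od X := (im_le_cent1 h1 (hA hs'.1)).1
    ((comm_sup_cent eT (odd_im oR) nT).ge.trans (sup_le a (inf_le_right.trans (cent_le_cent1 hs))))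
  obtain ⟨n, hn', e⟩ := r.trans c.max c.ab hs' ht (fun e => s1 (by rw [e, br_one])) t1
  have nX : n ∈ X := l.cp.le (jc_le X A L hn'.1)
  have nA := r.norm hn'
  refine ⟨n, ⟨nX, nA⟩, ?_⟩
  have r1 : n •ᶜ R ≤ X := cj_le_of_norm h1 (le_normalizer nX)
  have r2 := le_norm_cj' hn nA
  have b1 : ⁅n •ᶜ R, zpowers t⁆ ≤ Od X := by
    rw [← e, U4.zpowers_conj, ← map_commutator]
    exact cj_le_of_norm b (le_norm_Od X nX)
  have b2 : ⁅n •ᶜ R, zpowers u⁆ ≤ Od X := g.kill' m r1 (odd_cj oR n) r2 hu fun L' hL' =>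
    Or.inl (l.uniq _ hL' ▸ l.mem_cm)
  have hV : V u t ≤ A := V_le hu ht.1
  have h4 : Four u t := c.el.four hu ht.1 u1 t1 fun e =>
    u1 (g.eq_one l.cp (c.el u hu) (e ▸ ht.2) l.mem_cm)
  have o := LD.odd_sup (r1.trans (le_norm_Od X)) (odd_cj oR n) (odd_Od X)
  have n1 : A ≤ 𝐍(Od X ⊔ n •ᶜ R) := H1.le_normalizer_sup (hA.trans (le_norm_Od X)) r2
  refine le_sup_right.trans ((comm_sup_cent (Four.el h4) o (hV.trans n1)).ge.trans (sup_le_sup ?_
    (h.le_Od hV h4.card_V.ge inf_le_right (odd_card_of_le o inf_le_left)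
      (H1.le_normalizer_inf n1 (c.el.norm_cent hV)))))
  refine (im_le_cent (sup_le (Od_le X) r1) (hV.trans hA)).1 ?_
  rw [im_sup (Od_le X) r1, (im_eq_bot (Od_le X)).2 le_rfl, bot_sup_eq,
    im_V (hA hu) (hA ht.1), cent_V]
  exact le_inf ((im_le_cent1 r1 (hA hu)).2 b2) ((im_le_cent1 r1 (hA ht.1)).2 b1)

end CfsgLib.Wal
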