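import Cfsg.Agent.Lib.Wal.ThreeA

/-!
# Rank three: the centralizer of an involution is a maximal subgroup
-/

set_option autoImplicit false

namespace CfsgLib.Wal

open Subgroup Cfsg CfsgLib.FT CfsgLib.FT.BGN CfsgLib.Cop CfsgLib.GW
open CfsgLib.H1 (AbTwo CharIn layerIn genFitIn dSub)
open CfsgLib.FT.U4 (mem_cent1 mem_cent1' mem_cent mem_cent1_comm cent1_conj
  eq_one_of_mem_inf eq_bot_of_forall conj_mem_conj_iff orderOf_conj)
open scoped commutatorElement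

universe u

variable {G : Type u} [Group G] [Finite G]

/-- A maximal subgroup `H ⊇ C(a)` such that `a` does not centralize `O_p(H)`. -/
structure C1 (A H : Subgroup G) (a : G) (p : ℕ) : Prop where
  m3 : M3 A
  mem : a ∈ A
  ne : a ≠ 1
  max : IsCoatom H
  le : 𝐂[a] ≤ H
  p2 : p ≠ 2
  nc : ¬ pCoreOf p H ≤ 𝐂[a]

/-- The subgroup `V = [C_P(B), a]`. -/
structure C2 (A H : Subgroup G) (a : G) (p : ℕ) (B V : Subgroup G) : Prop extends C1 A H a p where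
  Ble : B ≤ A
  four : 4 ≤ Nat.card B
  Vne : V ≠ ⊥
  Vle : V ≤ pCoreOf p H
  cent : V ≤ 𝐂(B)
  comm : ⁅V, zpowers a⁆ = V
  norm : A ≤ 𝐍(V)

namespace C1
variable {A H : Subgroup G} {a : G} {p : ℕ} [hp : Fact p.Prime] (h : C1 A H a p)
include h

omit hp in
theorem AH : A ≤ H := h.m3.le_of_cent h.mem h.le

omit hp in
theorem cj {n : G} (hn : n ∈ 𝐍(A)) : C1 A (n •ᶜ H) (n * a * n⁻¹) p :=
  ⟨h.m3, conj_mem_of_mem_normalizer hn h.mem, U4.conj_ne_one_iff.2 h.ne, isCoatom_map_conj h.max n,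
    cj_cent1 n a ▸ map_mono h.le, h.p2, by
      rw [H1.pCoreOf_map_conj, ← cj_cent1, cj_le_cj_iff]; exact h.nc⟩

omit hp in
theorem exists_at {x : G} (hx : x ∈ A) (x1 : x ≠ 1) : ∃ n ∈ 𝐍(A), C1 A (n •ᶜ H) x p := by
  obtain ⟨n, hn, rfl⟩ := h.m3.sb.tr a h.mem x hx h.ne x1
  exact ⟨n, hn, h.cj hn⟩

theorem oddp {Q : Subgroup G} (hQ : IsPGroup p Q) : Odd (Nat.card Q) :=
  odd_card_of_isPGroup hp.1 h.p2 hQ

theorem robust {X : Subgroup G} (hX : X ≠ ⊤) (ha : a ∈ X) :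
    ⁅pCoreOf p H ⊓ X, zpowers a⁆ ≤ pCoreOf p X :=
  (h.m3.ctx.gd X hX).lemU (h.m3.ctx.el a h.mem) ha hp.1 h.p2
    ((H1.pCoreOf_isPGroup H).to_le inf_le_left) inf_le_right (H1.le_normalizer_inf
      ((inf_le_right.trans h.le).trans (H1.le_normalizer_pCoreOf H))
      (inf_le_left.trans le_normalizer))

theorem not_cent {V N : Subgroup G} (hV : IsPGroup p V) (h1 : V ≤ 𝐂[a]) (hN : N ≠ ⊤)
    (h2 : 𝐂(V) ≤ N) : ¬ pCoreOf p N ≤ 𝐂[a] := fun h3 => by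
  have a2 := h.m3.ctx.el a h.mem
  have aN := h2 (mem_cent_cent1 h1)
  have aP := H1.le_normalizer_pCoreOf (p := p) H (h.AH h.mem)
  exact h.nc (pxq1 h.p2 a2 hV (H1.pCoreOf_isPGroup H)
    ((h1.trans h.le).trans (H1.le_normalizer_pCoreOf H)) aP h1
    ((inf_le_inf_left _ h2).trans (le_cent1_of_comm_comm a2
      (h.oddp ((H1.pCoreOf_isPGroup H).to_le inf_le_left))
      (H1.le_normalizer_inf (zpowers_le.2 aP) (zpowers_le.2 (le_normalizer aN)) (mem_zpowers a))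
      ((h.robust hN aN).trans h3))))

theorem not_cent' {V N : Subgroup G} {d : G} (hd : d ∈ A) (d1 : d ≠ 1) (hV : IsPGroup p V)
    (h1 : V ≤ 𝐂[d]) (hN : N ≠ ⊤) (h2 : 𝐂(V) ≤ N) : ¬ pCoreOf p N ≤ 𝐂[d] :=
  let ⟨_, _, k⟩ := h.exists_at hd d1; k.not_cent hV h1 hN h2

theorem exists_c2 : ∃ B V, C2 A H a p B V := by
  have c := h.m3.ctx
  have n := h.AH.trans (H1.le_normalizer_pCoreOf (p := p) H)
  have o := h.oddp (H1.pCoreOf_isPGroup H)
  have ha := zpowers_le.2 h.mem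
  by_contra hc
  refine h.nc (U4.cent_zpowers a ▸ comm_eq_bot_iff.1 (le_bot_iff.1 (comm_hy c.el
    (c.el.mono ha) o n (ha.trans n) (le_norm_bot _) fun E hE => le_bot_iff.2 ?_)))
  have n' := H1.le_normalizer_inf n (c.el.norm_cent hE.1)
  have := hE.card c.el
  by_contra e
  exact hc ⟨E, _, h, hE.1, by have := c.eight; omega, e,
    (commutator_le_left_of_le_normalizer (ha.trans n')).trans inf_le_left,
    (commutator_le_left_of_le_normalizer (ha.trans n')).trans inf_le_right,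
    comm_comm (c.el.mono ha) (odd_card_of_le o inf_le_left) (ha.trans n'),
    le_normalizer_commutator n' (c.el.le_norm ha)⟩

theorem exists_R {R X : Subgroup G} (hR : IsPGroup p R) (hS : A ≤ 𝐍(R)) (h2 : R ≤ X)
    (h3 : A ≤ X) : ∃ P : Subgroup G, IsPGroup p P ∧ R ≤ P ∧ A ≤ 𝐍(P) ∧ P ≤ 𝐍(Od X) ∧
      IsSylowIn p (P ⊓ Od X) (Od X) := by
  have hn := h2.trans (le_norm_Od X)
  obtain ⟨P, r1, r2, r3⟩ := exists_inv_sylow_ge (H1.le_normalizer_sup (h3.trans (le_norm_Od X)) hS)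
    (h.m3.ctx.el.coprime (LD.odd_sup hn (h.oddp hR) (odd_Od X)))
    (Or.inl h.m3.ctx.el.solv) hR le_sup_right hS
  have r4 := r1.le.trans (sup_le le_normalizer hn)
  exact ⟨P, r1.isPGroup, r3, r2, r4, r1.inf_of_le_normalizer le_sup_left r4⟩

/-- Maximal `A`-invariant `p`-subgroups of conjugates of `H` all have the same order. -/
theorem exists_card : ∃ m, ∀ g : G, A ≤ g •ᶜ H → ∀ R ≤ g •ᶜ H, IsPGroup p R → A ≤ 𝐍(R) →
    ∃ P ≤ g •ᶜ H, IsPGroup p P ∧ A ≤ 𝐍(P) ∧ R ≤ P ∧ Nat.card P = m := by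
  have c := h.m3.ctx
  obtain ⟨L, l⟩ := h.m3.loc h.mem h.ne h.max.1 h.le
  obtain ⟨t, ht, t1⟩ := (c.gd H h.max.1).exists_ne_one (c.mx h.AH) l.cp
  have w1 : Od 𝐂(V a t) ≤ H := (Od_le _).trans ((cent_le_cent1 (t_mem_V a t)).trans h.le)
  have w2 : A ≤ 𝐍(Od H ⊔ Od 𝐂(V a t)) := H1.le_normalizer_sup (h.AH.trans (le_norm_Od H))
    ((c.el.le_cent' le_rfl (V_le h.mem ht.1)).trans (le_norm_Od _))
  have w3 := LD.odd_sup (w1.trans (le_norm_Od H)) (odd_Od _) (odd_Od H)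
  refine ⟨p ^ (Nat.card ↥(Od H ⊔ Od 𝐂(V a t))).factorization p, fun g hg R h1 h2 h3 => ?_⟩
  obtain ⟨k, hk, e⟩ := exists_norm_conj c.ab c.max h.AH hg
  rw [e] at h1 ⊢
  have p1 := h2.map (MulAut.conj k⁻¹).toMonoidHom
  have n1 := le_norm_cj' h3 (inv_mem hk)
  obtain ⟨n, hn, e⟩ := h.m3.exists_cj h.max.1 h.AH l h.ne ht t1 h.p2 p1 (le_cj_iff.1 h1) n1
  obtain ⟨P, q1, q2, q3⟩ := exists_inv_sylow_ge w2 (c.el.coprime w3) (Or.inl c.el.solv)
    (p1.map _) e (le_norm_cj' n1 hn.2)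
  refine ⟨k •ᶜ n⁻¹ •ᶜ P, map_mono (cj_le_of_norm (q1.le.trans (sup_le (Od_le H) w1))
    (le_normalizer (inv_mem hn.1))), (q1.isPGroup.map _).map _,
    le_norm_cj' (le_norm_cj' q2 (inv_mem hn.2)) hk, le_cj_iff.2 (cj_le_iff.1 q3), ?_⟩
  rw [card_map_conj, card_map_conj, q1.card_eq_ordProj]

end C1

namespace C2
variable {A H B V : Subgroup G} {a : G} {p : ℕ} [hp : Fact p.Prime] (h : C2 A H a p B V)
include h

omit hp in
theorem Vp : IsPGroup p V := (H1.pCoreOf_isPGroup H).to_le h.Vle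

theorem le_pc {X : Subgroup G} (hX : X ≠ ⊤) (ha : a ∈ X) (hV : V ≤ X) : V ≤ pCoreOf p X :=
  h.comm ▸ (commutator_mono (le_inf h.Vle hV) le_rfl).trans (h.robust hX ha)

theorem charIn : CharIn p H := by
  by_contra hc
  have c := h.m3.ctx
  have := c.simple
  obtain ⟨M, m1, m2⟩ := LD.exists_max (c.norm_ne' h.Vne h.Vp)
  have hA := h.norm.trans m2
  have v1 := h.le_pc m1.1 (hA h.mem) (le_normalizer.trans m2)
  have v2 := (cent_le_norm V).trans m2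
  have eB := c.el.mono h.Ble
  have k1 : ∀ J, ¬ TC M J := fun J hJ => by
    obtain ⟨d, hd, d1⟩ := (c.gd M m1.1).exists_ne_one (c.mx hA) hJ.cp
    rw [hJ.inf_eq (c.gd M m1.1) c.el] at hd
    have := (hJ.pc_le p).trans (cent_le_cent1 hd.2)
    exact h.not_cent' hd.1 d1 h.Vp (v1.trans this) m1.1 v2 this
  have k2 : ∀ x ∈ B, x ≠ 1 → ∃ n : G, 𝐂[x] ≤ n •ᶜ H ∧ V ≤ pCoreOf p (n •ᶜ H) := fun x hx x1 =>
    let ⟨n, _, k⟩ := h.exists_at (h.Ble hx) x1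
    ⟨n, k.le, h.le_pc k.max.1 (k.AH h.mem) ((h.cent.trans (cent_le_cent1 hx)).trans k.le)⟩
  have k3 : ∀ x ∈ B, x ≠ 1 → 𝐂[x] ≤ M := fun x hx x1 => by
    obtain ⟨n, a1, a2⟩ := k2 x hx x1
    have a3 := isCoatom_map_conj h.max n
    refine ((bender a3 m1 h.Vne a2 v1 v2 ⟨fun J hJ => absurd hJ (k1 J), fun q hq e => ?_⟩).resolve_right
      fun e => hc (map_conj_inv_map_conj n H ▸ e.1.map_conj n⁻¹)) ▸ a1
    by_cases e2 : q = 2
    · exact e2 ▸ (two_le_cent c.ab c.el hA).trans ((cent_le_cent1 (h.Ble hx)).trans a1)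
    by_cases e3 : pCoreOf q H = ⊥
    swap
    · exact pc_le_of_ne_bot a3 h.Vne a2 v2 e (by rwa [H1.pCoreOf_map_conj, Ne, cj_eq_bot_iff])
    refine gen_pt eB h.four (odd_card_of_isPGroup hq.1 e2 (H1.pCoreOf_isPGroup M))
      ((h.Ble.trans hA).trans (H1.le_normalizer_pCoreOf M)) fun y hy y1 => ?_
    obtain ⟨m, b1, b2⟩ := k2 y hy y1
    exact (inf_le_inf_left _ b1).trans ((pc_inf_eq_bot b2 (le_normalizer.trans m2) v2 e
      (by rwa [H1.pCoreOf_map_conj, cj_eq_bot_iff])).le.trans bot_le)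
  obtain ⟨x, hx, y, hy, h4⟩ := eB.exists_four' h.four
  exact h4.ne (h.m3.two_cent (h.Ble hy) h4.s1 m1.1 (k3 y hy h4.s1) (h.Ble hx) h4.t1 (k3 x hx h4.t1))

omit hp in
theorem nb : H ≠ ⊥ := fun e => h.ne (mem_bot.1 (e ▸ h.AH h.mem))

theorem stable (M : Subgroup G) : H1.StableIn p M :=
  H1.stableIn_of_abTwo h.p2 (ab_sub h.m3.ctx.ab M)

theorem ne_top' {Q : Subgroup G} (hQ : IsPGroup p Q) (hY : V ≤ Q) : 𝐍(Q) ≠ ⊤ :=
  h.m3.ctx.norm_ne' (fun e => h.Vne (le_bot_iff.1 (e ▸ hY))) hQ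

theorem glob {W : Subgroup G} (hW : W ≠ ⊤) (hS : A ≤ W) (hY : V ≤ W)
    (hT : ∀ X, X ≠ ⊤ → W ≤ X → ∃ T, IsSylowIn p T (Od X) ∧ W ≤ 𝐍(T)) : ∃ g : G, W ≤ g •ᶜ H := by
  have c := h.m3.ctx
  have := c.simple
  obtain ⟨X0, a0, m0⟩ := Set.exists_max_image {X : Subgroup G | X ≠ ⊤ ∧ W ≤ X}
    (fun X => (Nat.card X).factorization p) (Set.toFinite _) ⟨W, hW, le_rfl⟩
  obtain ⟨X, ⟨⟨a1, a2⟩, a3⟩, m1⟩ := Set.exists_max_image {X : Subgroup G | (X ≠ ⊤ ∧ W ≤ X) ∧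
    (Nat.card X0).factorization p ≤ (Nat.card X).factorization p}
    (fun X => (Nat.card (Od X)).factorization p) (Set.toFinite _) ⟨X0, a0, le_rfl⟩
  obtain ⟨T, t1, t2⟩ := hT X a1 a2
  have hYT : V ≤ T := le_sylow_of_norm t1 h.Vp ((h.le_pc a1 (a2 (hS h.mem)) (hY.trans a2)).trans
    (pCoreOf_le_Od hp.1 h.p2 X)) (hY.trans t2)
  obtain ⟨Q, q1, q2⟩ := IsSylowIn.exists_ge t1.isPGroup (t1.le.trans (Od_le X))
  have q3 : Q ≤ 𝐍(T) := by
    rw [← t1.eq_of_le (q2.isPGroup.to_le inf_le_left) (le_inf q1 t1.le) inf_le_right]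
    exact H1.le_normalizer_inf le_normalizer (q2.le.trans (le_norm_Od X))
  have n1 := h.ne_top' t1.isPGroup hYT
  have key : ∀ K, K ≠ ⊤ → W ≤ K → Q ≤ K → IsSylowIn p Q K := fun K k1 k2 k3 =>
    LD.sylow_of_fact_le q2 k3 ((m0 K ⟨k1, k2⟩).trans a3)
  have q4 := key _ n1 t2 q3
  have t3 : IsSylowIn p T (Od 𝐍(T)) := LD.sylow_of_fact_le t1
    (le_Od le_normalizer le_rfl (h.oddp t1.isPGroup))
    (m1 _ ⟨⟨n1, t2⟩, a3.trans (LD.fact_le_of_sylow q2 q3)⟩)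
  have hD := H1.dFam_dSub Q
  have n2 := LD.le_norm_dSub (h.stable _) q4 (le_trans (fun x hx => by
    have hx' := q3 (hD.1 hx)
    have hxp := (q2.isPGroup.to_le hD.1).to_le (zpowers_le.2 hx)
    refine le_sylow_of_norm t3 hxp ?_ (zpowers_le.2 hx') (mem_zpowers x)
    have k1 := H1.conjClosure_le_of_le (zpowers_le.2 hx')
    have k2 := H1.le_normalizer_conjClosure (zpowers x) 𝐍(T)
    by_cases ho : Odd (Nat.card (conjClosure (zpowers x) 𝐍(T)))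
    · exact (H1.le_conjClosure _ _).trans (le_Od k1 k2 ho)
    obtain ⟨u, hu, u2⟩ := exists_inv_of_not_odd ho
    obtain ⟨g, hg, e⟩ := (c.mx (hS.trans t2)).exists_conj_mem c.ab (k1 hu) (mul_self_of_inv u2)
    have k3 : T ≤ 𝐂[g * u * g⁻¹] := le_cent1_iff.2 (h.stable _ T le_normalizer le_rfl t1.isPGroup x
      hx' ((q2.isPGroup ⟨x, hD.1 hx⟩).imp fun _ h => congrArg Subtype.val h)
      (H1.quad_of_mem_of_comm hD.2.1 (q1.trans hD.2.2.1) hx)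
      (H1.mem_pResidualOf (conj_mem_of_mem_normalizer (k2 hg) hu) (by
        rw [orderOf_conj, u2]; exact (Nat.coprime_primes Nat.prime_two hp.1).2 h.p2.symm)))
    exact absurd ((le_sylow_of_norm t3 (H1.pCoreOf_isPGroup _) (pCoreOf_le_Od hp.1 h.p2 _)
      (H1.pCoreOf_le _)).trans k3) (h.not_cent' e (U4.conj_ne_one_iff.2 (ne_one_of_inv u2))
        t1.isPGroup k3 n1 (cent_le_norm T)))
    (H1.le_pCoreOf le_normalizer le_rfl t1.isPGroup))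
  obtain ⟨g, hg⟩ := exists_norm_dSub c.ab h.p2 h.max h.charIn h.nb (sylow_of_norm' (key _
    (c.norm_ne' (H1.dSub_ne_bot q2.isPGroup fun e => h.Vne (le_bot_iff.1 (e ▸ hYT.trans q1)))
    (q2.isPGroup.to_le hD.1)) (t2.trans n2) hD.2.2.1) le_top
    (inf_le_right.trans (H1.normalizer_le_normalizer_dSub Q)))
  exact ⟨g, hg ▸ t2.trans n2⟩

theorem exists_ge {R : Subgroup G} (hR : IsPGroup p R) (hS : A ≤ 𝐍(R)) (hY : V ≤ R) :
    ∃ g : G, R ⊔ A ≤ g •ᶜ H :=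
  h.glob (fun e => h.ne_top' hR hY (top_le_iff.1 (e ▸ sup_le le_normalizer hS)))
    le_sup_right (hY.trans le_sup_left) fun X _ hX =>
    let ⟨T, _, b, c, d, e⟩ := h.exists_R hR hS (le_sup_left.trans hX) (le_sup_right.trans hX)
    ⟨_, e, H1.le_normalizer_inf (sup_le (b.trans le_normalizer) c) (hX.trans (le_norm_Od X))⟩

theorem cent_le_cj {g : G} (hg : A ≤ g •ᶜ H) : 𝐂(A) ≤ g •ᶜ H := by
  obtain ⟨n, hn, e⟩ := exists_norm_conj h.m3.ctx.ab h.m3.ctx.max h.AH hg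
  exact e ▸ (cent_le_cent1 (h.cj hn).mem).trans (h.cj hn).le

theorem elim : False := by
  have c := h.m3.ctx
  have := c.simple
  obtain ⟨s, hs, s1⟩ := exists_ne_one_of_card (le_trans (by norm_num) h.four)
  obtain ⟨d, -, k⟩ := h.exists_at (h.Ble hs) s1
  have hne : d •ᶜ H ≠ H := fun e => h.Vne (h.comm ▸ comm_eq_bot_iff.2 (h.cent.trans (centralizer_le
    (zpowers_le.2 (h.m3.two_cent h.mem h.ne h.max.1 h.le k.mem s1 (e ▸ k.le) ▸ hs)))))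
  obtain ⟨D, hYD, ⟨d1, d2, a, b, hab, ha, hb⟩, hmax⟩ := Finite.exists_le_maximal
    (p := fun D : Subgroup G => IsPGroup p D ∧ A ≤ 𝐍(D) ∧ ∃ a b : G, a •ᶜ H ≠ b •ᶜ H ∧
      D ⊔ A ≤ a •ᶜ H ∧ D ⊔ A ≤ b •ᶜ H) (a := V) ⟨h.Vp, h.norm, d, 1, by rwa [map_conj_one],
      sup_le ((h.cent.trans (cent_le_cent1 hs)).trans k.le) k.AH,
      by rw [map_conj_one]; exact sup_le (h.Vle.trans (H1.pCoreOf_le H)) h.AH⟩
  have uniq : ∀ {R : Subgroup G} {x y : G}, IsPGroup p R → A ≤ 𝐍(R) → D < R →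
      R ⊔ A ≤ x •ᶜ H → R ⊔ A ≤ y •ᶜ H → x •ᶜ H = y •ᶜ H := fun a1 a2 a3 a4 a5 => by
    by_contra e
    exact a3.not_ge (hmax ⟨a1, a2, _, _, e, a4, a5⟩ a3.le)
  obtain ⟨m, hm⟩ := h.exists_card
  have top : Nat.card D = m → ∀ {x : G}, D ⊔ A ≤ x •ᶜ H → pCoreOf p (x •ᶜ H) ≤ D := fun e x hx => by
    have n := hx.trans (H1.le_normalizer_pCoreOf (p := p) _)
    obtain ⟨P, -, -, -, p4, p5⟩ := hm x (le_sup_right.trans hx) (pCoreOf p (x •ᶜ H) ⊔ D)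
      (sup_le (H1.pCoreOf_le _) (le_sup_left.trans hx))
      (isPGroup_sup' (le_sup_left.trans n) (H1.pCoreOf_isPGroup _) d1)
      (H1.le_normalizer_sup (le_sup_right.trans n) d2)
    exact (le_sup_left.trans p4).trans
      (eq_of_le_of_card_ge (le_sup_right.trans p4) (p5.trans e.symm).le).ge
  have big : ∀ {x y : G}, x •ᶜ H ≠ y •ᶜ H → D ⊔ A ≤ x •ᶜ H → D ⊔ A ≤ y •ᶜ H →
      ∃ R : Subgroup G, IsPGroup p R ∧ A ≤ 𝐍(R) ∧ D < R ∧ R ⊔ A ≤ x •ᶜ H ∧ R ≤ 𝐍(D) :=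
    fun {x y} e hx hy => by
    obtain ⟨P, p0, p1, p2, p3, p4⟩ := hm x (le_sup_right.trans hx) D (le_sup_left.trans hx) d1 d2
    refine ⟨P ⊓ 𝐍(D), p1.to_le inf_le_left, H1.le_normalizer_inf p2 (d2.trans le_normalizer),
      lt_inf_normalizer_of_isPGroup p1 (lt_of_le_of_ne p3 fun e' => ?_),
      sup_le (inf_le_left.trans p0) (le_sup_right.trans hx), inf_le_right⟩
    subst e'
    exact (primPair_of_coatom (isCoatom_map_conj h.max x) (isCoatom_map_conj h.max y) e).not_stable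
      (h.stable _) (h.stable _) (h.charIn.map_conj x) (h.charIn.map_conj y)
      ((top p4 hx).trans (le_sup_left.trans hy)) ((top p4 hy).trans p0)
  obtain ⟨E, a1, a2, a3, a4, a5⟩ := big hab ha hb
  obtain ⟨F, b1, b2, b3, b4, b5⟩ := big hab.symm hb ha
  have hW : E ⊔ F ⊔ A ≤ 𝐍(D) := sup_le (sup_le a5 b5) d2
  have lA : E ≤ E ⊔ F ⊔ A := le_sup_left.trans le_sup_left
  have lB : F ≤ E ⊔ F ⊔ A := le_sup_right.trans le_sup_left
  obtain ⟨g, hg⟩ := h.glob (W := E ⊔ F ⊔ A)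
    (fun e => h.ne_top' d1 hYD (top_le_iff.1 (e ▸ hW))) le_sup_right
    ((hYD.trans a3.le).trans lA) fun X _ hX => by
    have hSX := le_sup_right.trans hX
    obtain ⟨R, r1, r2, r3, r4, r5⟩ := h.exists_R a1 a2 (lA.trans hX) hSX
    obtain ⟨R', s1, s2, s3, s4, s5⟩ := h.exists_R b1 b2 (lB.trans hX) hSX
    obtain ⟨x, hx⟩ := h.exists_ge r1 r3 ((hYD.trans a3.le).trans r2)
    obtain ⟨y, hy⟩ := h.exists_ge s1 s3 ((hYD.trans b3.le).trans s2)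
    rw [uniq a1 a2 a3 ((sup_le_sup_right r2 _).trans hx) a4] at hx
    rw [uniq b1 b2 b3 ((sup_le_sup_right s2 _).trans hy) b4] at hy
    have hSO := hSX.trans (le_norm_Od X)
    obtain ⟨z, hz, e⟩ := conj_invariant_sylowOf hSO (c.el.coprime (odd_Od X)) (Or.inl c.el.solv)
      (sylow_iff_hall.1 s5) (sylow_iff_hall.1 r5) (H1.le_normalizer_inf s3 hSO)
      (H1.le_normalizer_inf r3 hSO)
    have hDR := a3.le.trans r2
    have e1 : R ⊓ Od X ≤ b •ᶜ H := e ▸ cj_le_of_norm (inf_le_left.trans (le_sup_left.trans hy))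
      (le_normalizer (h.cent_le_cj (le_sup_right.trans hb) hz.2))
    have e2 : D ⊔ R ⊓ Od X ≤ D := hmax ⟨r1.to_le (sup_le hDR inf_le_left), H1.le_normalizer_sup d2
      (H1.le_normalizer_inf r3 hSO), a, b, hab, (sup_le_sup_right (sup_le hDR inf_le_left) _).trans hx,
      sup_le (sup_le (le_sup_left.trans hb) e1) (le_sup_right.trans hb)⟩ le_sup_left
    refine ⟨_, r5, ?_⟩
    rw [le_antisymm (le_inf (le_sup_right.trans e2) inf_le_right) (inf_le_inf_right _ hDR)]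
    exact H1.le_normalizer_inf hW (hX.trans (le_norm_Od X))
  exact hab ((uniq a1 a2 a3 a4 ((sup_le lA le_sup_right).trans hg)).trans
    (uniq b1 b2 b3 ((sup_le lB le_sup_right).trans hg) b4))

end C2

theorem C1.elim {A H : Subgroup G} {a : G} {p : ℕ} [Fact p.Prime] (h : C1 A H a p) : False :=
  let ⟨_, _, k⟩ := h.exists_c2; k.elim

end CfsgLib.Wal
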